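import Cfsg.Agent.H708.O8.Par_m3
import Cfsg.Agent.H813.SaxSpK
import Cfsg.Agent.H383.Cov.Inv
import Cfsg.Agent.S0126
import Cfsg.Agent.H375.O8.TypeA_m3
import Cfsg.Agent.H884.ElRows_m3
import Cfsg.Agent.H946.KZ.Gap
import Cfsg.Agent.Lib.FinFast
import Mathlib
import Cfsg.Agent.H325.Same.ExcPair8_m3
import Cfsg.Agent.H190.Cov.Two.Rad3c
import Cfsg.Agent.H946.KZ.SameF4
import Cfsg.Agent.H190.Odd.K8TE6
import Cfsg.Agent.H23.FreeAct
import Cfsg.Agent.FastGrp
import Cfsg.Agent.Prune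
set_option linter.all false

section
prune_inst 0x7fffbdffbbf8b1dfffff7e77f6dccdfc3990dfffa6dff94bbfe021cf2bdf230009c5f3ad0de010fe0e82c23410a87843f9ffceffea6bdc7ffffd5df45ffbee5ff7ffbd00119488340f3c6ffe93f0778e7f3fffffffffffffffffffffffffffaeffbfffffffff

-- part: H708/O8/Main
section
prune_inst 0x40000000080000000000000000000000000000000000000000000000000000000000000000000020000000000000000000000000000000000000000000000000000040000000008000000000000000000000000000000000000000000000000000000000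
set_option linter.all false
open scoped Cfsg.Agent.FastGrp

-- part: H781/O8/Subf
section
/-!
# COV-O8+: subfields (piece G4, helper781)

`kill_subf` : an element `g` of order `r` with `dim [V, g] = 4` is in no subfield subgroup.
-/

set_option autoImplicit false
set_option linter.unusedSectionVars false

namespace Cfsg.Agent.H781.O8

open Module QuadraticMap Cfsg Cfsg.Geo
open Cfsg.Agent.H951 (fx cm Inv)
open Cfsg.Agent.H884.El
open Cfsg.Agent.H436 (Prim)
open Cfsg.Agent.H708.O8 (I8 RB)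
open scoped MatrixGroups Matrix

/-- `PP` from `Prim` -/
theorem pp_of_prim {q e r : ℕ} (h : Prim q e r) : PP q e r := by
  refine ⟨h.prime, ?_⟩
  have hq : 1 ≤ q := by
    rcases Nat.eq_zero_or_pos q with rfl | h1
    · exact absurd (dvd_zero r) h.not_dvd
    · exact h1
  have key : ∀ m : ℕ, (q : ZMod r) ^ m = 1 ↔ e ∣ m := by
    intro m
    rw [← h.dvd_iff m, ← ZMod.natCast_eq_zero_iff, Nat.cast_sub (Nat.one_le_pow _ _ hq)]
    push_cast
    rw [sub_eq_zero]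
  apply Nat.dvd_antisymm
  · exact orderOf_dvd_of_pow_eq_one ((key e).2 dvd_rfl)
  · exact (key _).1 (pow_orderOf_eq_one _)

theorem RB.pp {p a r b : ℕ} (h : RB p a r b) : PP p (4 * a) r := pp_of_prim h.prim

section

variable {F : Type} [Field F] [Fintype F] {p a r b : ℕ}

/-- the order of `q` modulo `r` is four -/
theorem RB.pp4 (hF : Nat.card F = p ^ a) (h : RB p a r b) : PP (Nat.card F) 4 r := by
  rw [hF]
  have h1 := RB.pp h
  rw [mul_comm] at h1
  exact PP.of_pow h1 h.ha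

theorem isUnit_toLin' {K : Type} [Field K] {M : Matrix I8 I8 K} : IsUnit (Matrix.toLin' M) ↔ IsUnit M := by
  constructor
  · intro h
    have h1 := h.map (Matrix.toLinAlgEquiv' (R := K) (n := I8)).symm
    have e : (Matrix.toLinAlgEquiv' (R := K) (n := I8)).symm (Matrix.toLin' M) = M := by
      apply (Matrix.toLinAlgEquiv' (R := K) (n := I8)).injective
      rw [AlgEquiv.apply_symm_apply]
      rfl
    rwa [e] at h1
  · intro h
    exact h.map (Matrix.toLinAlgEquiv' (R := K) (n := I8))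

/-- **Subfields.** -/
theorem kill_subf (hF : Nat.card F = p ^ a) (h : RB p a r b) {F₁ : Subfield F} {B : GL I8 F} {H : Subgroup (GL I8 F)}
    (hH : H ≤ subfieldSubgroup F₁ B)
    {s : ℕ} (hs : s.Prime) (hcard : Nat.card F = Nat.card F₁ ^ s) {g : GL I8 F} (hg : g ∈ H) (hgr : g ^ r = 1)
    (hd : finrank F (cm (lin g)) = 4) : False := by
  classical
  have hr4 := RB.pp4 hF h
  have hq := Finite.one_lt_card (α := F)
  have hrp : ¬ r ∣ Nat.card F - 1 := by
    intro h1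
    have h2 := (hr4.dvd_iff (by omega) 1).1 (by rwa [pow_one])
    omega
  -- `|F₁| = p ^ c`
  obtain ⟨c, -, hc⟩ : ∃ c ≤ a, Nat.card F₁ = p ^ c := by
    have h1 : Nat.card F₁ ∣ p ^ a := by rw [← hF, hcard]; exact dvd_pow_self _ hs.ne_zero
    exact (Nat.dvd_prime_pow h.hp).1 h1
  have hac : a = c * s := by
    have h1 : p ^ a = p ^ (c * s) := by rw [← hF, hcard, hc, pow_mul]
    exact Nat.pow_right_injective h.hp.two_le h1
  have ha := h.ha
  have hc1 : 1 ≤ c := by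
    rcases Nat.eq_zero_or_pos c with rfl | h1
    · rw [zero_mul] at hac; omega
    · exact h1
  have hr1 : PP (Nat.card F₁) (4 * s) r := by
    rw [hc]
    have h1 := RB.pp h
    rw [hac, show 4 * (c * s) = c * (4 * s) by ring] at h1
    exact PP.of_pow h1 hc1
  -- the decomposition
  obtain ⟨y, hy, rfl⟩ := hH hg
  obtain ⟨a', ⟨g0, hg0⟩, z, hz, hyz⟩ := Subgroup.mem_sup_of_normal_right.1 hy
  have hco : Nat.Coprime r (Nat.card F - 1) := (Nat.Prime.coprime_iff_not_dvd h.prim.prime).2 hrp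
  obtain ⟨m, hm1, hm2⟩ := Nat.chineseRemainder hco 1 0
  have hm2' : Nat.card F - 1 ∣ m := (Nat.modEq_zero_iff_dvd).1 hm2
  have hyr : y ^ r = 1 := by
    have h1 : (MulAut.conj B) (y ^ r) = 1 := by
      rw [map_pow]
      exact hgr
    exact (MulAut.conj B).injective (by rw [h1, map_one])
  have hym : y ^ m = y := by
    have h1 : y ^ m = y ^ 1 := by
      rw [← pow_mod_orderOf, ← pow_mod_orderOf y 1]
      congr 1
      exact hm1.of_dvd (orderOf_dvd_of_pow_eq_one hyr)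
    rwa [pow_one] at h1
  have hzm : z ^ m = 1 := by
    obtain ⟨k, rfl⟩ := hm2'
    rw [pow_mul, Nat.card_eq_fintype_card, H262.El.scalar_pow_card hz, one_pow]
  have hmap : y = Matrix.GeneralLinearGroup.map (F₁.subtype : F₁ →+* F) (g0 ^ m) := by
    rw [← hym, ← hyz, (H262.El.scalar_comm hz a').symm.mul_pow, hzm, mul_one, ← hg0, map_pow]
  obtain ⟨g1, hg1⟩ : ∃ g1, g1 = g0 ^ m := ⟨_, rfl⟩
  rw [← hg1] at hmap
  have hinj : Function.Injective (Matrix.GeneralLinearGroup.map (n := I8) (F₁.subtype : F₁ →+* F)) := by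
    intro u v huv
    apply Units.ext
    ext i j
    have h1 := congrArg (fun t : GL I8 F => (t : Matrix I8 I8 F) i j) huv
    exact h1
  have hg1r : g1 ^ r = 1 := by
    apply hinj
    rw [map_pow, ← hmap, hyr, map_one]
  have hdy : finrank F (cm (lin y)) = 4 := (finrank_cm_conj B y).symm.trans hd
  -- the dimension over `F₁`
  have hiso : Iso (0 : QuadraticForm F₁ (I8 → F₁)) (lin g1) r := by
    refine Iso.mk' hr1 (by have := hs.two_le; omega) ?_ (fun v => rfl)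
    rw [← H251.GeoCard.toLin_pow, hg1r]
    exact lin_one
  have hdvd := hiso.dvd_cm hr1
  have hle : finrank F₁ (cm (lin g1)) ≤ 8 := by
    have h1 := Submodule.finrank_le (cm (lin g1))
    rw [Module.finrank_fintype_fun_eq_card] at h1
    simpa only [_root_.ge_iff_le, _root_.Fintype.card_sum, _root_.Fintype.card_fin, _root_.Nat.reduceAdd] using h1
  have hs2 := hs.two_le
  rcases Nat.eq_zero_or_pos (finrank F₁ (cm (lin g1))) with h0 | h0
  · have h1 : cm (lin g1) = ⊥ := Submodule.finrank_eq_zero.1 h0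
    have h2 : g1 = 1 := by
      by_contra h3
      exact cm_ne_bot ((lin_ne_one h3 :)) h1
    rw [h2, map_one] at hmap
    rw [hmap, lin_one] at hdy
    have h3 : cm (1 : Module.End F (I8 → F)) = ⊥ := by
      unfold cm
      rw [sub_self]
      exact LinearMap.range_zero
    rw [h3, finrank_bot] at hdy
    omega
  · have h1 := Nat.le_of_dvd h0 hdvd
    have h2 : finrank F₁ (cm (lin g1)) = 8 := by omega
    have h3 : cm (lin g1) = ⊤ := by
      apply Submodule.eq_top_of_finrank_eq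
      rw [h2, Module.finrank_fintype_fun_eq_card]
      simp
    have h4 : lin g1 - 1 = Matrix.toLin' ((g1 : Matrix I8 I8 F₁) - 1) := by
      rw [map_sub, Matrix.toLin'_one]
      rfl
    have h5 : IsUnit ((g1 : Matrix I8 I8 F₁) - 1) := by
      rw [← isUnit_toLin', ← h4, LinearMap.isUnit_iff_range_eq_top]
      exact h3
    have h6 := h5.map (F₁.subtype : F₁ →+* F).mapMatrix
    have h7 : (F₁.subtype : F₁ →+* F).mapMatrix ((g1 : Matrix I8 I8 F₁) - 1) = (y : Matrix I8 I8 F) - 1 := by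
      rw [map_sub, map_one, hmap]
      rfl
    rw [h7, ← isUnit_toLin', map_sub, Matrix.toLin'_one] at h6
    have h8 : cm (lin y) = ⊤ := by
      unfold cm
      exact (LinearMap.isUnit_iff_range_eq_top _).1 h6
    rw [h8, finrank_top, Module.finrank_fintype_fun_eq_card] at hdy
    simp at hdy

end

end Cfsg.Agent.H781.O8
end

-- part: H708/O8/Geo
section
/-!
# COV-O8+: the geometric classes (helper708)
-/

set_option autoImplicit false
set_option linter.unusedSectionVars false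

namespace Cfsg.Agent.H708.O8

open Module QuadraticMap Cfsg Cfsg.Geo Cfsg.Agent.LieClassical.OrthCore Cfsg.Agent.H955 Cfsg.Agent.H954.TSing
open Cfsg.Agent.LieClassical.OmegaReindex
open Cfsg.Agent.H951 (fx cm Inv)
open Cfsg.Agent.H884.El
open Cfsg.Agent.H436 (Prim)
open scoped MatrixGroups Matrix

section

variable {F : Type} [Field F] [Fintype F] {p a r b : ℕ}

theorem RB.five (h : RB p a r b) : 5 ≤ r := by
  rcases h.cases with h | h | h <;> omega

theorem RB.b1 (h : RB p a r b) : 1 ≤ b := by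
  rcases h.cases with h | h | h <;> omega

theorem RB.pp (h : RB p a r b) : PP p (4 * a) r := by
  refine ⟨h.prim.prime, ?_⟩
  have hp := h.hp
  have : Fact r.Prime := ⟨h.prim.prime⟩
  have h0 : (p : ZMod r) ≠ 0 := fun h0 => h.prim.not_dvd ((ZMod.natCast_eq_zero_iff _ _).1 h0)
  have key : ∀ m, r ∣ p ^ m - 1 ↔ orderOf (p : ZMod r) ∣ m := fun m =>
    Cfsg.Agent.Lib.Zsigmondy.dvd_pow_sub_one_iff hp.one_lt.le m
  exact Nat.dvd_antisymm ((key _).1 ((h.prim.dvd_iff _).2 dvd_rfl)) ((h.prim.dvd_iff _).1 ((key _).2 dvd_rfl))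

theorem RB.ppF (h : RB p a r b) (hF : Nat.card F = p ^ a) : PP (Nat.card F) 4 r := by
  rw [hF]
  have := h.pp
  rw [mul_comm] at this
  exact this.of_pow h.ha

/-- the element of order `r` -/
theorem TypeB.exists_r (h : RB p a r b) {x : GL I8 F} {X Y : Submodule F (I8 → F)} (hB : TypeB x X Y r b) :
    ∃ n : ℕ, (x ^ n) ^ r = 1 ∧ cm (lin (x ^ n)) = ⊤ := by
  obtain ⟨m, -, h1, h2⟩ := hB.m
  refine ⟨r ^ (b - 1) * m, ?_, h2⟩
  rw [← pow_mul, ← h1]
  congr 1
  have hb := h.b1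
  obtain ⟨c, rfl⟩ := Nat.exists_eq_add_of_le hb
  rw [Nat.add_sub_cancel_left, pow_add, pow_one]
  ring

theorem inv_pow {V : Type*} [AddCommGroup V] [Module F V] {x : Module.End F V} {W : Submodule F V} (h : H951.Inv x W)
    (n : ℕ) : H951.Inv (x ^ n) W := by
  induction n with
  | zero => intro w hw; exact hw
  | succ n ih =>
    intro w hw
    rw [pow_succ', Module.End.mul_apply]
    exact h _ (ih w hw)

theorem lin_pow (g : GL I8 F) (n : ℕ) : lin (g ^ n) = lin g ^ n := by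
  induction n with
  | zero => rw [pow_zero, pow_zero, lin_one']
  | succ n ih => rw [pow_succ, pow_succ, lin_mul, ih]

theorem TypeB.finrank_cases {x : GL I8 F} {X Y : Submodule F (I8 → F)} (hB : TypeB x X Y r b)
    {W : Submodule F (I8 → F)} (hW : H951.Inv ((lin (x ^ 2) :)) W) (h0 : W ≠ ⊥) (h1 : W ≠ ⊤) :
    finrank F W = 4 ∧ ∀ v ∈ W, quadFormPlus 4 F v = 0 := by
  rcases hB.only W hW with h | rfl | rfl | h
  · exact absurd h h0
  · exact ⟨hB.dimX, hB.tsX⟩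
  · exact ⟨hB.dimY, hB.tsY⟩
  · exact absurd h h1

/-- elements fix both members of a decomposition into two subspaces, squares -/
theorem fix_of_sq {H : Subgroup (GL I8 F)} {D : Fin 2 → Submodule F (I8 → F)} (hHD : H ≤ decompositionStabilizer D)
    {g : GL I8 F} (hg : g ∈ H) {k : ℕ} (hk : ∀ τ : Equiv.Perm (Fin 2), τ ^ k = 1) (i : Fin 2) :
    H951.Inv (lin (g ^ k)) (D i) := by
  have hmap : ∀ j : ℕ, ∀ σ : Equiv.Perm (Fin 2),
      (∀ i, (D i).map (Matrix.toLin' (g : Matrix I8 I8 F)) = D (σ i)) →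
      ∀ i, (D i).map (Matrix.toLin' ((g ^ j : GL I8 F) : Matrix I8 I8 F)) = D ((σ ^ j) i) := by
    intro j σ hσ
    induction j with
    | zero => intro i; simp
    | succ j ih =>
      intro i
      rw [pow_succ', Units.val_mul, Matrix.toLin'_mul, Submodule.map_comp, ih, hσ, pow_succ', Equiv.Perm.mul_apply]
  obtain ⟨σ, hσ⟩ := hHD hg
  have h5 := hmap k σ hσ i
  rw [hk, Equiv.Perm.one_apply] at h5
  rw [H951.inv_iff_map]
  exact h5.le

/-- a general permutation version -/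
theorem map_pow_eq {H : Subgroup (GL I8 F)} {t : ℕ} {D : Fin t → Submodule F (I8 → F)}
    (hHD : H ≤ decompositionStabilizer D) {g : GL I8 F} (hg : g ∈ H) :
    ∃ σ : Equiv.Perm (Fin t), ∀ (j : ℕ) (i : Fin t),
      (D i).map (Matrix.toLin' ((g ^ j : GL I8 F) : Matrix I8 I8 F)) = D ((σ ^ j) i) := by
  obtain ⟨σ, hσ⟩ := hHD hg
  refine ⟨σ, fun j => ?_⟩
  induction j with
  | zero => intro i; simp only [_root_.pow_zero, _root_.Units.val_one, _root_.Matrix.toLin'_one, _root_.Submodule.map_id, _root_.Equiv.Perm.coe_one, _root_.id_eq]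
  | succ j ih =>
    intro i
    rw [pow_succ', Units.val_mul, Matrix.toLin'_mul, Submodule.map_comp, ih, hσ, pow_succ', Equiv.Perm.mul_apply]

/-- an element of order `r` fixes a member of a decomposition into `t` members if `r ∤ t` -/
theorem exists_fixed_block {H : Subgroup (GL I8 F)} {t : ℕ} {D : Fin t → Submodule F (I8 → F)}
    (hinj : Function.Injective D) (hHD : H ≤ decompositionStabilizer D) {g : GL I8 F} (hg : g ∈ H) (hr : r.Prime)
    (hgr : g ^ r = 1) (hrt : ¬ r ∣ t) : ∃ i, H951.Inv (lin g) (D i) := by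
  obtain ⟨σ, hσ⟩ := map_pow_eq hHD hg
  have hσr : σ ^ r = 1 := by
    refine Equiv.ext fun i => hinj ?_
    rw [← hσ r i, hgr, Units.val_one, Matrix.toLin'_one, Submodule.map_id, Equiv.Perm.one_apply]
  have := Fact.mk hr
  have h1 := Equiv.Perm.card_compl_support_modEq (σ := σ) (p := r) (n := 1) (by rw [pow_one]; exact hσr)
  rw [Fintype.card_fin] at h1
  have h2 : (σ.support)ᶜ.card ≠ 0 := by
    intro h0
    rw [h0] at h1
    exact hrt (Nat.modEq_zero_iff_dvd.1 h1.symm)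
  obtain ⟨i, hi⟩ := Finset.card_pos.1 (Nat.pos_of_ne_zero h2)
  refine ⟨i, ?_⟩
  rw [Finset.mem_compl, Equiv.Perm.notMem_support] at hi
  rw [H951.inv_iff_map]
  have h3 := hσ 1 i
  rw [pow_one, pow_one, hi] at h3
  exact h3.le

/-- the `r`-part of `|GL₂(q)| |GL₄(q)|` -/
theorem tensor_num (hF : Nat.card F = p ^ a) (h : RB p a r b) :
    ¬ r ^ (b + 1) ∣ Nat.card (GL (Fin 2) F) * Nat.card (GL (Fin 4) F) := by
  intro hd
  have hq : Nat.card F = Fintype.card F := Nat.card_eq_fintype_card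
  have hPP := h.ppF hF
  set q := Fintype.card F with hqdef
  have hq1 : 1 < q := Fintype.one_lt_card
  rw [hq] at hPP
  have hrp := hPP.prime
  have hrq : ¬ r ∣ q := hPP.not_dvd (by norm_num)
  have h1 : ¬ r ∣ q ^ 1 - 1 := fun h => by have := (hPP.dvd_iff hq1.le 1).1 h; omega
  have h2 : ¬ r ∣ q ^ 2 - 1 := fun h => by have := (hPP.dvd_iff hq1.le 2).1 h; omega
  have h3 : ¬ r ∣ q ^ 3 - 1 := fun h => by have := (hPP.dvd_iff hq1.le 3).1 h; omega
  have e4 : q ^ 4 - 1 = (q ^ 2 - 1) * (q ^ 2 + 1) := by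
    have := Nat.sq_sub_sq (q ^ 2) 1
    rw [one_pow, ← pow_mul] at this
    rw [show 4 = 2 * 2 by norm_num, this, mul_comm]
  have f : ∀ i j : ℕ, q ^ (i + j) - q ^ i = q ^ i * (q ^ j - 1) := fun i j => by
    rw [pow_add, Nat.mul_sub, mul_one]
  rw [Matrix.card_GL_field, Matrix.card_GL_field, Fin.prod_univ_two, Fin.prod_univ_four, ← hqdef] at hd
  simp only [Fin.isValue, Fin.coe_ofNat_eq_mod, Nat.reduceMod, pow_zero] at hd
  rw [show (q ^ 2 - q ^ 1) = q ^ 1 * (q ^ 1 - 1) from f 1 1, show (q ^ 4 - q ^ 1) = q ^ 1 * (q ^ 3 - 1) from f 1 3,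
    show (q ^ 4 - q ^ 2) = q ^ 2 * (q ^ 2 - 1) from f 2 2, show (q ^ 4 - q ^ 3) = q ^ 3 * (q ^ 1 - 1) from f 3 1,
    e4] at hd
  have hc : ∀ n : ℕ, ¬ r ∣ n → Nat.Coprime (r ^ (b + 1)) n := fun n hn =>
    Nat.Coprime.pow_left _ ((Nat.Prime.coprime_iff_not_dvd hrp).2 hn)
  have hcq := hc q hrq
  have c1 := hc _ h1
  have c2 := hc _ h2
  have c3 := hc _ h3
  have hd' : r ^ (b + 1) ∣ (q ^ 2 + 1) * ((q ^ 2 - 1) * (q ^ 1 * (q ^ 1 - 1)) * ((q ^ 2 - 1) * (q ^ 1 * (q ^ 3 - 1)) *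
      (q ^ 2 * (q ^ 2 - 1)) * (q ^ 3 * (q ^ 1 - 1)))) := by
    convert hd using 1
    ring
  have hd2 := Nat.Coprime.dvd_of_dvd_mul_right (Nat.Coprime.mul_right
    (Nat.Coprime.mul_right c2 (Nat.Coprime.mul_right (hcq.pow_right 1) c1))
    (Nat.Coprime.mul_right (Nat.Coprime.mul_right (Nat.Coprime.mul_right c2 (Nat.Coprime.mul_right (hcq.pow_right 1) c3))
      (Nat.Coprime.mul_right (hcq.pow_right 2) c2)) (Nat.Coprime.mul_right (hcq.pow_right 3) c1))) hd'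
  apply h.not_dvd
  rw [mul_comm 2 a, pow_mul, ← hF, hq]
  exact hd2

/-- **The geometric classes.** -/
theorem geo (hF : Nat.card F = p ^ a) (h : RB p a r b) {H : Subgroup (GL I8 F)}
    (hH : H ≤ isometryGroup F (quadFormPlus 4 F)) (hr2 : r ^ (b + 1) ∣ Nat.card H)
    {g : GL I8 F} (hg : g ∈ H) (hgr : g ^ r = 1) (hgd : finrank F (cm (lin g)) = 4)
    {x : GL I8 F} {X Y : Submodule F (I8 → F)} (hB : TypeB x X Y r b) (hx : x ∈ H) :
    InOrthogonalResidualClass H ∨ ∃ K : Subalgebra F (Matrix I8 I8 F), IsFieldSubalgebra 2 K ∧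
      IsAdjointClosedFor (polar (quadFormPlus 4 F)) K ∧ H ≤ subalgebraNormalizer K := by
  have hQ : Nondeg (quadPlus 4 F) := nondeg_iff.2 quadPlus_nondegenerate
  have hcoe : ⇑(quadPlus 4 F) = quadFormPlus 4 F := coe_quadPlus 4 F
  have hn : Fintype.card (Fin 4 ⊕ Fin 4) = 8 := by simp
  have hfin : finrank F (Fin 4 ⊕ Fin 4 → F) = 8 := by rw [finrank_V, hn]
  have hfin' : finrank F (I8 → F) = 8 := hfin
  have h5 := h.five
  have hP := h.ppF hF
  rw [← hcoe] at hH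
  have hrc : r ∣ Nat.card H := (dvd_pow_self r (by omega)).trans hr2
  have hg1 : g ≠ 1 := by
    rintro rfl
    rw [lin_one'] at hgd
    have : cm (1 : Module.End F (I8 → F)) = ⊥ := by
      unfold H951.cm
      rw [sub_self, LinearMap.range_zero]
    rw [this, finrank_bot] at hgd
    omega
  have hgiso : Iso (quadPlus 4 F) (lin g) r := Iso.mk' hP (by omega)
    (by rw [← lin_pow, hgr]; exact lin_one') (lin_iso hH hg)
  obtain ⟨n, hnr, hncm⟩ := hB.exists_r h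
  have hyH : x ^ n ∈ H := H.pow_mem hx n
  have hyiso : Iso (quadPlus 4 F) (lin (x ^ n)) r := Iso.mk' hP (by omega)
    (by rw [← lin_pow, hnr]; exact lin_one') (lin_iso hH hyH)
  have hyfx : fx (lin (x ^ n)) = ⊥ := by
    have h1 : finrank F (fx (lin (x ^ n))) + finrank F (cm (lin (x ^ n))) = 8 := hyiso.finrank_add.trans hfin'
    rw [hncm, finrank_top, hfin'] at h1
    exact Submodule.finrank_eq_zero.1 (by omega)
  have hgadd : finrank F (fx (lin g)) = 4 := by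
    have h1 : finrank F (fx (lin g)) + finrank F (cm (lin g)) = 8 := hgiso.finrank_add.trans hfin'
    rw [hgd] at h1
    omega
  -- a totally singular subspace invariant under `g` has dimension at most three
  have hts : ∀ W : Submodule F (I8 → F), TS (quadPlus 4 F) W → H951.Inv (lin g) W → finrank F W ≠ 4 := by
    intro W hWs hW hd
    have h1 := hgiso.ts_le hQ (lin_ne_one hg1) hP hgd hW hWs
    have h3 : W = fx (lin g) := Submodule.eq_of_le_of_finrank_eq h1 (by omega)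
    refine ts_not_nondeg hWs h3.ge ?_ (nondeg_fx hQ hgiso.iso hgiso.ne0 hgiso.pow)
    rw [← h3]
    intro h4
    rw [h4, finrank_bot] at hd
    omega
  -- proper subspaces invariant under `x²`
  have hxW : ∀ W : Submodule F (I8 → F), H951.Inv ((lin (x ^ 2) :)) W → W ≠ ⊥ → W ≠ ⊤ → finrank F W = 4 ∧ TS (quadPlus 4 F) W := by
    intro W hW h0 h1
    obtain ⟨h2, h3⟩ := hB.finrank_cases hW h0 h1
    rw [← hcoe] at h3
    exact ⟨h2, h3⟩
  have hx2 : x ^ 2 ∈ H := H.pow_mem hx 2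
  by_cases hirr : ActsIrreducibly (matrixSet H)
  · rcases Cfsg.Agent.H925.orth_irreducible_fine (by omega) (Cfsg.Agent.H884.OddForm.isNondegenerate_of_nondeg _ hQ) hH hirr with
      ⟨t, k, D, htk, hD, hHD, -⟩ | ⟨k, D, hk, hD, hDs, hHD⟩ | ⟨s, K, hs, hsn, hK, hadj, hHK⟩ |
      ⟨n₁, n₂, e, P, -, -, -, h1, h1', h12, -, -, -, -, hHT⟩ | ⟨F₁, s, B, -, -, hs, hcard, -, -, hHF⟩ |
      ⟨s, m, R, hRH, -, hHR, habs, hR, hchar, hm, hsm, -, ht, -⟩ | ⟨k, t, e, P, E, hkt, hW⟩ | hS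
    · exfalso
      have h2t := hD.decomp.decomp.two_le
      have hkpos := hD.decomp.decomp.pos
      have hinj : Function.Injective D := by
        intro i j hij
        by_contra hne
        have h1 := disjoint_iff.1 (hD.decomp.decomp.indep.pairwiseDisjoint hne)
        have h2 : D i ⊓ D j = ⊥ := h1
        rw [← hij, inf_idem] at h2
        have h3 := hD.decomp.decomp.finrank_eq i
        rw [h2, finrank_bot] at h3
        omega
      by_cases hk4 : k < 4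
      · have hrt := decomp_le hD.decomp.decomp hHD hP hk4 hrc
        -- `k = 1`, `t = 8`
        have hk1 : k = 1 := by
          by_contra hcon
          have h3 : 2 ≤ k := by omega
          have := Nat.mul_le_mul hrt h3
          omega
        subst hk1
        obtain ⟨i, hi⟩ := exists_fixed_block hinj hHD hyH hP.prime hnr (by
          intro hd
          rw [show t = 2 ^ 3 by omega] at hd
          have := (Nat.prime_dvd_prime_iff_eq hP.prime Nat.prime_two).1 (hP.prime.dvd_of_dvd_pow hd)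
          omega)
        have h3 := hyiso.le_fx hP hi (by rw [hD.decomp.decomp.finrank_eq]; norm_num)
        rw [hyfx] at h3
        have h4 := hD.decomp.decomp.finrank_eq i
        rw [le_bot_iff.1 h3, finrank_bot] at h4
        omega
      · have ht2 : t = 2 := by
          have h3 : t < 3 := by
            by_contra hcon
            push Not at hcon
            have := Nat.mul_le_mul hcon (not_lt.1 hk4)
            omega
          omega
        subst ht2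
        have hk4' : k = 4 := by omega
        have h3 := nondeg_of_on (hD.decomp.nondegenerate 0)
        have h4 := fix_of_sq hHD hx (k := 2) (by decide) 0
        have hd0 := hD.decomp.decomp.finrank_eq 0
        have h6 := hxW (D 0) h4 (by intro h0; rw [h0, finrank_bot] at hd0; omega)
          (by intro h0; rw [h0, finrank_top] at hd0; omega)
        exact ts_not_nondeg h6.2 le_rfl (by intro h0; rw [h0, finrank_bot] at hd0; omega) h3
    · exfalso
      have hodd : ∀ τ : Equiv.Perm (Fin 2), τ ^ (2 * (r / 2)) = 1 := fun τ => by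
        rw [pow_mul]
        have : τ ^ 2 = 1 := by revert τ; decide
        rw [this, one_pow]
      -- `g` is a power of `g²`
      have h1 := fix_of_sq hHD hg (k := r + 1) (fun τ => by
        have h2 : Even (r + 1) := (hP.prime.odd_of_ne_two (by omega)).add_one
        obtain ⟨c, hc⟩ := h2
        rw [hc, ← two_mul, pow_mul]
        have : τ ^ 2 = 1 := by revert τ; decide
        rw [this, one_pow]) 0
      rw [pow_succ, hgr, one_mul] at h1
      exact hts (D 0) (hDs 0) h1 (by rw [hD.finrank_eq]; omega)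
    · right
      rw [hn] at hsn
      have hs2 : s = 2 := by
        have : s ∣ 2 ^ 3 := hsn
        exact (Nat.prime_dvd_prime_iff_eq hs Nat.prime_two).1 (hs.dvd_of_dvd_pow this)
      subst hs2
      rw [hcoe] at hadj
      exact ⟨K, hK, hadj, hHK⟩
    · exfalso
      have h2 : tensorProductSubgroup n₁ n₂ e P ≤ (kronGL e P).range := fun g hg => mem_range_kronGL e P hg
      have h3 : Nat.card H ∣ Nat.card (GL (Fin n₁) F × GL (Fin n₂) F) :=
        (Subgroup.card_dvd_of_le (hHT.trans h2)).trans (Subgroup.card_range_dvd _)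
      rw [Nat.card_prod] at h3
      have hcases : (n₁ = 2 ∧ n₂ = 4) ∨ (n₁ = 4 ∧ n₂ = 2) := by
        have h3 : n₁ ≤ 4 := by
          by_contra hcon
          push Not at hcon
          have := Nat.mul_le_mul hcon h1'
          omega
        interval_cases n₁ <;> omega
      rcases hcases with ⟨rfl, rfl⟩ | ⟨rfl, rfl⟩
      · exact tensor_num hF h (hr2.trans h3)
      · rw [mul_comm] at h3
        exact tensor_num hF h (hr2.trans h3)
    · exfalso
      exact H781.O8.kill_subf hF h hHF hs hcard hg hgr hgd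
    · exfalso
      exact kill_symp hF h hRH hHR habs hR hm hsm ht ((pow_dvd_pow r (by have := h.b1; omega)).trans hr2)
    · exfalso
      have h2k := hW.two_le_m
      have h2t := hW.two_le_t
      have hk3 : k < 3 := by
        by_contra hcon
        push Not at hcon
        have h3 : 3 ^ 2 ≤ k ^ t := (Nat.pow_le_pow_left hcon 2).trans (Nat.pow_le_pow_right (by omega) h2t)
        omega
      have ht4 : t < 4 := by
        by_contra hcon
        push Not at hcon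
        have h3 : 2 ^ 4 ≤ k ^ t := (Nat.pow_le_pow_left h2k 4).trans (Nat.pow_le_pow_right (by omega) hcon)
        omega
      rcases H251.GeoCard.wreath e P hP.prime (hP.not_dvd (by omega))
        (hrc.trans (Subgroup.card_dvd_of_le hW.wreath)) with h | h
      · omega
      · have := le_of_div hP (one_lt_q F).le h
        omega
    · exact Or.inl hS
  · exfalso
    rcases Cfsg.Agent.H925.reducible_cases (Cfsg.Agent.H884.OddForm.isNondegenerate_of_nondeg _ hQ) hH hirr with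
      ⟨W, hW0, hWs, hHW⟩ | ⟨W, hW0, hWn, hd, hHW⟩ | ⟨-, v, hv, hHW⟩
    · have h1 : W ≠ ⊤ := by
        rintro rfl
        have h2 := hgiso.ts_le hQ (lin_ne_one hg1) hP hgd (inv_of_mem (hHW hg)) hWs
        have h3 := Submodule.finrank_mono h2
        rw [finrank_top, hgadd, hfin'] at h3
        omega
      obtain ⟨h2, h3⟩ := hxW W (inv_of_mem (hHW hx2)) hW0 h1
      exact hts W hWs (inv_of_mem (hHW hg)) h2
    · have h1 : W ≠ ⊤ := by
        rintro rfl
        rw [finrank_top] at hd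
        omega
      obtain ⟨h2, h3⟩ := hxW W (inv_of_mem (hHW hx2)) hW0 h1
      exact ts_not_nondeg h3 le_rfl hW0 (nondeg_of_on hWn)
    · have hv0 : v ≠ 0 := by
        rintro rfl
        exact hv (QuadraticMap.map_zero _)
      have hs1 := finrank_span_singleton (K := F) hv0
      have h1 : Submodule.span F {v} ≠ ⊤ := by
        intro h0
        rw [h0, finrank_top, hfin'] at hs1
        omega
      have h0 : Submodule.span F {v} ≠ ⊥ := by
        intro h0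
        rw [h0, finrank_bot] at hs1
        omega
      exact absurd (hs1.symm.trans (hxW _ (inv_of_mem (hHW hx2)) h0 h1).1) (by norm_num)

end

end Cfsg.Agent.H708.O8
end

-- part: H708/O8/FieldB
section
/-!
# COV-O8+: quadratic fields and two elements of type `B` (helper708)
-/

set_option autoImplicit false
set_option linter.unusedSectionVars false

namespace Cfsg.Agent.H708.O8

open Module QuadraticMap Cfsg Cfsg.Geo Cfsg.Agent.LieClassical.OrthCore Cfsg.Agent.H955 Cfsg.Agent.H954.TSing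
open Cfsg.Agent.LieClassical.OmegaReindex
open Cfsg.Agent.H951 (fx cm Inv)
open Cfsg.Agent.H884.El
open Cfsg.Agent.H436 (Prim)
open scoped MatrixGroups Matrix

/-- squares of elements normalising a quadratic field commute with it. -/
theorem comm_sq {ι : Type} [Fintype ι] [DecidableEq ι] {F : Type} [Field F] [Fintype F] [Nonempty ι]
    {K : Subalgebra F (Matrix ι ι F)} (hK : IsFieldSubalgebra 2 K)
    {g : GL ι F} (hgK : g ∈ subalgebraNormalizer K) :
    ∀ x ∈ K, ((g ^ 2 : GL ι F) : Matrix ι ι F) * x = x * ((g ^ 2 : GL ι F) : Matrix ι ι F) := by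
  have hN : H912.NormAlg (subalgebraNormalizer K) K := fun _ hh a ha => (hh a).mp ha
  let _ : Field K := (H912.isField_of_fieldSub hK).toField
  have hfd : Module.Finite F K := inferInstance
  have hKfin : Finite K := Module.finite_of_finite F
  have hgal : IsGalois F K := inferInstance
  let σ : K ≃ₐ[F] K := H912.conjSub hN ⟨g, hgK⟩
  have hσk : ∀ (k : ℕ) (x : K), (((σ ^ k) x : K) : Matrix ι ι F) =
      ((g ^ k : GL ι F) : Matrix ι ι F) * x * (((g ^ k)⁻¹ : GL ι F) : Matrix ι ι F) := by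
    intro k
    induction k with
    | zero => intro x; simp
    | succ k ih =>
      intro x
      rw [pow_succ, AlgEquiv.mul_apply, ih, H912.conjSub_coe, pow_succ, _root_.mul_inv_rev, Units.val_mul,
        Units.val_mul]
      simp only [Matrix.mul_assoc]
  have hσ2 : σ ^ 2 = 1 := by
    have h3 : Nat.card (K ≃ₐ[F] K) = 2 := by
      rw [IsGalois.card_aut_eq_finrank, hK.finrank_eq]
    rw [← h3]
    exact pow_card_eq_one'
  intro x hx
  have h1 := hσk 2 ⟨x, hx⟩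
  rw [hσ2] at h1
  have h3 : x = ((g ^ 2 : GL ι F) : Matrix ι ι F) * x * (((g ^ 2)⁻¹ : GL ι F) : Matrix ι ι F) := h1
  conv_rhs => rw [h3]
  rw [Matrix.mul_assoc, ← Units.val_mul, inv_mul_cancel, Units.val_one, Matrix.mul_one]

section

variable {F : Type} [Field F] [Fintype F] {r b : ℕ}

/-- a quadratic field commuting with `x²` preserves `X` -/
theorem TypeB.field_inv {x : GL I8 F} {X Y : Submodule F (I8 → F)} (hB : TypeB x X Y r b)
    {K : Subalgebra F (Matrix I8 I8 F)} (hK : IsFieldSubalgebra 2 K)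
    (hc : ∀ k ∈ K, ((x ^ 2 : GL I8 F) : Matrix I8 I8 F) * k = k * ((x ^ 2 : GL I8 F) : Matrix I8 I8 F)) :
    ∀ k ∈ K, ∀ v ∈ X, k *ᵥ v ∈ X := by
  -- the image of `X` under an invertible element of `K`
  have key : ∀ k ∈ K, k ≠ 0 → X.map (Matrix.toLin' k) = X ∨ X.map (Matrix.toLin' k) = Y := by
    intro k hk hk0
    obtain ⟨l, hl, hkl⟩ := hK.inv k hk hk0
    have hlk : l * k = 1 := by rw [hK.comm l hl k hk, hkl]
    have hinj : Function.Injective (Matrix.toLin' k) := by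
      intro v w hvw
      rw [Matrix.toLin'_apply, Matrix.toLin'_apply] at hvw
      have h1 : l *ᵥ (k *ᵥ v) = l *ᵥ (k *ᵥ w) := by rw [hvw]
      rwa [Matrix.mulVec_mulVec, Matrix.mulVec_mulVec, hlk, Matrix.one_mulVec, Matrix.one_mulVec] at h1
    have hfin : finrank F (X.map (Matrix.toLin' k)) = 4 := by
      rw [H955.finrank_map_of_injective _ hinj, hB.dimX]
    have hinv : H951.Inv ((lin (x ^ 2) :)) (X.map ((Matrix.toLin' k :))) := by
      rintro _ ⟨w, hw, rfl⟩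
      refine ⟨lin (x ^ 2) w, ?_, ?_⟩
      · have : lin (x ^ 2) = lin x ^ 2 := by rw [pow_two, pow_two, lin_mul]
        rw [this, pow_two, Module.End.mul_apply]
        exact hB.invX _ (hB.invX _ hw)
      · rw [lin, Matrix.toLin'_apply, Matrix.toLin'_apply, Matrix.toLin'_apply, Matrix.toLin'_apply,
          Matrix.mulVec_mulVec, Matrix.mulVec_mulVec, hc k hk]
    rcases hB.only _ hinv with h | h | h | h
    · rw [h, finrank_bot] at hfin
      omega
    · exact Or.inl h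
    · exact Or.inr h
    · rw [h, finrank_top, finrank_V] at hfin
      simp at hfin
  intro k hk v hv
  by_cases hk0 : k = 0
  · rw [hk0, Matrix.zero_mulVec]
    exact X.zero_mem
  rcases key k hk hk0 with h | h
  · rw [← h]
    exact ⟨v, hv, by rw [Matrix.toLin'_apply]⟩
  · exfalso
    -- `1 + k`
    have hdis := Submodule.disjoint_def.1 hB.compl.disjoint
    have hX0 : X ≠ ⊥ := by
      intro h0
      have := hB.dimX
      rw [h0, finrank_bot] at this
      omega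
    obtain ⟨w, hw, hw0⟩ := Submodule.exists_mem_ne_zero_of_ne_bot hX0
    have hkw : k *ᵥ w ∈ Y := by
      rw [← h]
      exact ⟨w, hw, by rw [Matrix.toLin'_apply]⟩
    have hkw0 : k *ᵥ w ≠ 0 := by
      intro h0
      obtain ⟨l, hl, hkl⟩ := hK.inv k hk hk0
      have hlk : l * k = 1 := by rw [hK.comm l hl k hk, hkl]
      have h1 : l *ᵥ (k *ᵥ w) = l *ᵥ 0 := by rw [h0]
      rw [Matrix.mulVec_mulVec, hlk, Matrix.one_mulVec, Matrix.mulVec_zero] at h1
      exact hw0 h1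
    have h1k : (1 + k) ∈ K := K.add_mem K.one_mem hk
    have h1k0 : (1 + k) ≠ 0 := by
      intro h0
      have h2 : k = -1 := by
        rw [add_comm] at h0
        exact eq_neg_of_add_eq_zero_left h0
      apply hkw0
      refine hdis _ ?_ hkw
      rw [h2, Matrix.neg_mulVec, Matrix.one_mulVec]
      exact X.neg_mem hw
    have hmem : (1 + k) *ᵥ w ∈ X.map (Matrix.toLin' (1 + k)) := ⟨w, hw, by rw [Matrix.toLin'_apply]⟩
    rw [Matrix.add_mulVec, Matrix.one_mulVec] at hmem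
    rcases key _ h1k h1k0 with h3 | h3
    · rw [h3] at hmem
      have h4 : k *ᵥ w ∈ X := by
        have := X.sub_mem hmem hw
        rwa [add_sub_cancel_left] at this
      exact hkw0 (hdis _ h4 hkw)
    · rw [h3] at hmem
      have h4 : w ∈ Y := by
        have := Y.sub_mem hmem hkw
        rwa [add_sub_cancel_right] at this
      exact hw0 (hdis _ hw h4)

/-- **G3**: two elements of type `B` with `dim (X ∩ X')` odd. -/
theorem kill_field_B {K : Subalgebra F (Matrix I8 I8 F)} (hK : IsFieldSubalgebra 2 K) {H : Subgroup (GL I8 F)}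
    (hHK : H ≤ subalgebraNormalizer K) {x x' : GL I8 F} {X Y X' Y' : Submodule F (I8 → F)}
    (hB : TypeB x X Y r b) (hB' : TypeB x' X' Y' r b) (hx : x ∈ H) (hx' : x' ∈ H)
    (hodd : Odd (finrank F ↥(X ⊓ X'))) : False := by
  have h1 := hB.field_inv hK (comm_sq hK (hHK hx))
  have h2 := hB'.field_inv hK (comm_sq hK (hHK hx'))
  have h3 := even_of_field hK (W := X ⊓ X') fun k hk w hw => ⟨h1 k hk w hw.1, h2 k hk w hw.2⟩
  exact (Nat.not_even_iff_odd.2 hodd) h3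

end

end Cfsg.Agent.H708.O8
end

-- part: H708/O8/Conj
section
/-!
# COV-O8+: conjugates, lifts, separation of the elements of order `r` (helper708)
-/

set_option autoImplicit false
set_option linter.unusedSectionVars false

namespace Cfsg.Agent.H708.O8

open Module QuadraticMap Cfsg Cfsg.Geo Cfsg.Agent.LieClassical.OrthCore Cfsg.Agent.H955 Cfsg.Agent.H954.TSing
open Cfsg.Agent.LieClassical.OmegaReindex
open Cfsg.Agent.H951 (fx cm Inv)
open Cfsg.Agent.H884.El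
open Cfsg.Agent.H436 (Prim)
open Cfsg.Agent.H264.FKS (Cyc mem_zpowers_of_cyclic)
open scoped MatrixGroups Matrix

section

variable {F : Type} [Field F] [Fintype F] {p a r b s : ℕ}

theorem mem_fx_tr {c g : GL I8 F} {v : I8 → F} : v ∈ fx (lin (c * g * c⁻¹)) ↔ lin c⁻¹ v ∈ fx (lin g) := by
  rw [H951.mem_fx, H951.mem_fx, lin_mul, lin_mul, Module.End.mul_apply, Module.End.mul_apply]
  constructor
  · intro h
    rw [← lin_inv_lin c (lin g (lin c⁻¹ v)), h]
  · intro h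
    rw [h, lin_lin_inv]

theorem cm_conj (c g : GL I8 F) : cm (lin (c * g * c⁻¹)) = tr c (cm (lin g)) := by
  ext v
  rw [mem_tr, H951.mem_cm, H951.mem_cm]
  constructor
  · rintro ⟨w, rfl⟩
    refine ⟨lin c⁻¹ w, ?_⟩
    rw [lin_mul, lin_mul, Module.End.mul_apply, Module.End.mul_apply, map_sub, lin_inv_lin]
  · rintro ⟨w, hw⟩
    refine ⟨lin c w, ?_⟩
    rw [lin_mul, lin_mul, Module.End.mul_apply, Module.End.mul_apply, lin_inv_lin, ← map_sub, hw, lin_lin_inv]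

theorem inv_conj {c g : GL I8 F} {W : Submodule F (I8 → F)} : H951.Inv (lin (c * g * c⁻¹)) (tr c W) ↔ H951.Inv (lin g) W := by
  constructor
  · intro h w hw
    have h1 := h (lin c w) ⟨w, hw, rfl⟩
    rw [lin_mul, lin_mul, Module.End.mul_apply, Module.End.mul_apply, lin_inv_lin, mem_tr, lin_inv_lin] at h1
    exact h1
  · rintro h _ ⟨w, hw, rfl⟩
    rw [lin_mul, lin_mul, Module.End.mul_apply, Module.End.mul_apply, lin_inv_lin]
    exact ⟨_, h w hw, rfl⟩

theorem omega_conj {c g : GL I8 F} (hc : c ∈ isometryGroup F (quadFormPlus 4 F))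
    (hg : g ∈ omegaGL (quadFormPlus 4 F)) : c * g * c⁻¹ ∈ omegaGL (quadFormPlus 4 F) := by
  obtain ⟨x, hx, rfl⟩ := Subgroup.mem_map.1 hg
  have hn : (Omega F (quadFormPlus 4 F)).Normal := inferInstance
  exact Subgroup.mem_map.2 ⟨_, hn.conj_mem x hx ⟨c, hc⟩, rfl⟩

theorem tr_top (c : GL I8 F) : tr c ⊤ = ⊤ := by
  rw [eq_top_iff]
  intro v _
  exact mem_tr.2 Submodule.mem_top

theorem tr_bot (c : GL I8 F) : tr c ⊥ = ⊥ := Submodule.map_bot _

theorem tr_inv_tr (c : GL I8 F) (W : Submodule F (I8 → F)) : tr c (tr c⁻¹ W) = W := by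
  rw [← tr_mul, mul_inv_cancel, tr_one]

theorem TypeB.conj {x : GL I8 F} {X Y : Submodule F (I8 → F)} (hB : TypeB x X Y r b) {c : GL I8 F}
    (hc : c ∈ isometryGroup F (quadFormPlus 4 F)) : TypeB (c * x * c⁻¹) (tr c X) (tr c Y) r b where
  mem := omega_conj hc hB.mem
  tsX := ts_tr hc hB.tsX
  tsY := ts_tr hc hB.tsY
  dimX := (finrank_tr c X).trans hB.dimX
  dimY := (finrank_tr c Y).trans hB.dimY
  compl := by
    constructor
    · rw [disjoint_iff, ← tr_inf, hB.compl.inf_eq_bot, tr_bot]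
    · rw [codisjoint_iff]
      unfold tr
      rw [← Submodule.map_sup, hB.compl.sup_eq_top]
      exact tr_top c
  invX := inv_conj.2 hB.invX
  invY := inv_conj.2 hB.invY
  only := by
    intro W hW
    rw [conj_pow, ← tr_inv_tr c W, inv_conj] at hW
    rcases hB.only _ hW with h | h | h | h
    · left
      rw [← tr_inv_tr c W, h, tr_bot]
    · right; left
      rw [← tr_inv_tr c W, h]
    · right; right; left
      rw [← tr_inv_tr c W, h]
    · right; right; right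
      rw [← tr_inv_tr c W, h, tr_top]
  m := by
    obtain ⟨m, h1, h2, h3⟩ := hB.m
    refine ⟨m, h1, ?_, ?_⟩
    · rw [conj_pow, h2, mul_one, mul_inv_cancel]
    · rw [conj_pow, cm_conj, h3, tr_top]
  ord := by
    have h1 : orderOf (c * x * c⁻¹) = orderOf x :=
      orderOf_injective (MulAut.conj c).toMonoidHom (MulAut.conj c).injective x
    refine ⟨fun h => by rw [h1]; exact hB.ord.1 h, fun h => ⟨by rw [h1]; exact (hB.ord.2 h).1, ?_⟩⟩
    rw [conj_pow, Units.val_mul, Units.val_mul, (hB.ord.2 h).2, mul_neg, mul_one, neg_mul, ← Units.val_mul,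
      mul_inv_cancel, Units.val_one]

theorem TypeA.conj {u w : GL I8 F} (hA : TypeA u w r s) {c : GL I8 F}
    (hc : c ∈ isometryGroup F (quadFormPlus 4 F)) : TypeA (c * u * c⁻¹) (c * w * c⁻¹) r s where
  u_mem := mul_mem (mul_mem hc hA.u_mem) (inv_mem hc)
  w_mem := mul_mem (mul_mem hc hA.w_mem) (inv_mem hc)
  u_pow := by rw [conj_pow, hA.u_pow, mul_one, mul_inv_cancel]
  u_ne := fun h => hA.u_ne (conj_eq_one_iff.1 h)
  u_dim := by rw [cm_conj, finrank_tr, hA.u_dim]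
  comm := by
    have : c * u * c⁻¹ * (c * w * c⁻¹) = c * (u * w) * c⁻¹ := by group
    rw [this, hA.comm]
    group
  triv := by
    intro v hv
    rw [cm_conj, mem_tr] at hv
    rw [lin_mul, lin_mul, Module.End.mul_apply, Module.End.mul_apply, hA.triv _ hv, lin_lin_inv]
  w_pow := by rw [conj_pow, hA.w_pow, mul_one, mul_inv_cancel]
  odd := hA.odd
  cop := hA.cop
  ord := fun h => ⟨(hA.ord h).1, fun h1 => (hA.ord h).2 (conj_eq_one_iff.1 h1)⟩
  sharp := by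
    rcases hA.sharp with h | ⟨h1, h2⟩
    · left
      rw [← h]
      have key : LinearMap.range ((lin (c * w * c⁻¹) - 1) ^ 2) = tr c (LinearMap.range ((lin w - 1) ^ 2)) := by
        have e : ∀ v, ((lin (c * w * c⁻¹) - 1) ^ 2 : Module.End F (I8 → F)) v =
            lin c (((lin w - 1) ^ 2 : Module.End F (I8 → F)) (lin c⁻¹ v)) := by
          intro v
          have e1 : ∀ v, (lin (c * w * c⁻¹) - 1 : Module.End F (I8 → F)) v =
              lin c ((lin w - 1 : Module.End F (I8 → F)) (lin c⁻¹ v)) := fun v => by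
            rw [LinearMap.sub_apply, LinearMap.sub_apply, map_sub, lin_mul, lin_mul, Module.End.mul_apply,
              Module.End.mul_apply, Module.End.one_apply, Module.End.one_apply, lin_lin_inv]
          rw [pow_two, pow_two, Module.End.mul_apply, Module.End.mul_apply, e1, e1, lin_inv_lin]
        ext v
        constructor
        · rintro ⟨w', rfl⟩
          rw [e]
          exact ⟨_, ⟨_, rfl⟩, rfl⟩
        · rintro ⟨_, ⟨w', rfl⟩, rfl⟩
          refine ⟨lin c w', ?_⟩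
          rw [e, lin_inv_lin]
      rw [key, finrank_tr]
    · right
      exact ⟨h1, by rw [cm_conj, finrank_tr, h2]⟩

end

end Cfsg.Agent.H708.O8
end

-- part: H708/O8/Sep
section
/-!
# COV-O8+: lifts from `PΩ` to `Ω`, separation of the elements of order `r` (helper708)
-/

set_option autoImplicit false
set_option linter.unusedSectionVars false

namespace Cfsg.Agent.H708.O8

open Module QuadraticMap Cfsg Cfsg.Geo Cfsg.Agent.LieClassical.OrthCore Cfsg.Agent.H955 Cfsg.Agent.H954.TSing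
open Cfsg.Agent.LieClassical.OmegaReindex
open Cfsg.Agent.H951 (fx cm Inv)
open Cfsg.Agent.H884.El
open Cfsg.Agent.H436 (Prim)
open Cfsg.Agent.H264.FKS (Cyc mem_zpowers_of_cyclic)
open scoped MatrixGroups Matrix

section

variable {F : Type} [Field F] [Fintype F] {p a r b s : ℕ}

/-- `Ω` -/
abbrev OO (F : Type) [Field F] : Subgroup (isometryGroup F (quadFormPlus 4 F)) := Omega F (quadFormPlus 4 F)

/-- the projection -/
noncomputable def pj (F : Type) [Field F] [Fintype F] : OO F →* T8 F := QuotientGroup.mk' (Subgroup.center (OO F))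

/-- the inclusion -/
def vl (F : Type) [Field F] : OO F →* GL I8 F := (isometryGroup F (quadFormPlus 4 F)).subtype.comp (OO F).subtype

theorem pj_surjective : Function.Surjective (pj F) := QuotientGroup.mk'_surjective _

theorem vl_injective : Function.Injective (vl F) := fun _ _ h => Subtype.ext (Subtype.ext h)

theorem vl_mem (x : OO F) : vl F x ∈ omegaGL (quadFormPlus 4 F) := ⟨x, x.2, rfl⟩

theorem vl_iso (x : OO F) : vl F x ∈ isometryGroup F (quadFormPlus 4 F) := (x : isometryGroup F (quadFormPlus 4 F)).2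

theorem exists_vl {g : GL I8 F} (hg : g ∈ omegaGL (quadFormPlus 4 F)) : ∃ x : OO F, vl F x = g := by
  have hob_ := Subgroup.mem_map.1 hg
  obtain ⟨x, hx, rfl⟩ := hob_
  exact ⟨⟨x, hx⟩, rfl⟩

theorem mem_pre8 {R : Subgroup (T8 F)} {x : OO F} : vl F x ∈ pre (quadFormPlus 4 F) R ↔ pj F x ∈ R := mem_pre

theorem center_sq8 {z : OO F} (hz : pj F z = 1) : z ^ 2 = 1 := by
  have h : ∀ g : Omega F (⇑(quadPlus 4 F)), g ∈ Subgroup.center (Omega F (⇑(quadPlus 4 F))) → g ^ 2 = 1 :=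
    fun g hg => H390.Lift.center_sq (data_plus le_rfl) g hg
  rw [coe_quadPlus] at h
  exact h z ((QuotientGroup.eq_one_iff z).1 hz)

theorem center_comm {z : OO F} (hz : pj F z = 1) (x : OO F) : x * z = z * x :=
  Subgroup.mem_center_iff.1 ((QuotientGroup.eq_one_iff z).1 hz) x

seal _root_.Finset.sum _root_.dotProduct in
/-- lifts of elements of order `r` -/
theorem lift_pow (hr : Odd r) {x : OO F} (hx : pj F x ^ r = 1) :
    (x ^ (r + 1)) ^ r = 1 ∧ pj F (x ^ (r + 1)) = pj F x := by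
  have h1 : pj F (x ^ r) = 1 := by rw [map_pow, hx]
  have h2 := center_sq8 h1
  constructor
  · obtain ⟨k, hk⟩ := hr
    rw [← pow_mul, show (r + 1) * r = r * 2 * (k + 1) by rw [hk]; ring, pow_mul, pow_mul, h2, one_pow]
  · simp_rw [map_pow, pow_succ, hx, one_mul]

seal _root_.Finset.sum _root_.dotProduct in
/-- equal images of elements of odd order -/
theorem eq_of_pj (hr : Odd r) {x y : OO F} (hx : x ^ r = 1) (hy : y ^ r = 1) (h : pj F x = pj F y) : x = y := by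
  have h1 : pj F (x * y⁻¹) = 1 := by simp only [map_mul, map_inv, h, mul_inv_cancel]
  have h2 := center_sq8 h1
  have h3 := center_comm h1
  set z := x * y⁻¹ with hz
  have h4 : x = z * y := by rw [hz, inv_mul_cancel_right]
  have h5 : z ^ r = 1 := by
    have h6 : (z * y) ^ r = z ^ r * y ^ r := (show Commute z y from (h3 y).symm).mul_pow r
    simp only [← h4, hx, hy, mul_one] at h6
    exact h6.symm
  obtain ⟨k, hk⟩ := hr
  have h7 : z = 1 := by
    simp only [hk, pow_succ, pow_mul, h2, one_pow, one_mul] at h5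
    exact h5
  rw [h4, h7, one_mul]

private theorem mapcz67 {A B : Type*} [Group A] [Group B] (f : A →* B) (c x : A) (j : ℤ) :
    f (c * x ^ j * c⁻¹) = f c * f x ^ j * (f c)⁻¹ := by rw [map_mul, map_mul, map_inv, map_zpow]

private theorem conjpow67 {A : Type*} [Group A] {x : A} {r : ℕ} (hx : x ^ r = 1) (c : A) (j : ℤ) : (c * x ^ j * c⁻¹) ^ r = 1 := by
  rw [conj_pow, ← zpow_natCast, ← zpow_mul, mul_comm, zpow_mul, zpow_natCast, hx, one_zpow, mul_one, mul_inv_cancel]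

/-- an equation of conjugates in `T` lifts to `GL`. -/
theorem lift_eq (hr : Odd r) {x y : OO F} (hx : x ^ r = 1) (hy : y ^ r = 1) (c : OO F) (j : ℤ)
    (h : pj F c * pj F x ^ j * (pj F c)⁻¹ = pj F y) : vl F c * vl F x ^ j * (vl F c)⁻¹ = vl F y := by
  have h1 : c * x ^ j * c⁻¹ = y := eq_of_pj hr (conjpow67 hx c j) hy ((mapcz67 (pj F) c x j).trans h)
  exact (mapcz67 (vl F) c x j).symm.trans (congrArg (vl F) h1)

theorem lin_mem_fx {g : GL I8 F} {v : I8 → F} : v ∈ fx (lin g) ↔ lin g v = v := H951.mem_fx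

theorem fx_pow_le (g : GL I8 F) (n : ℕ) : fx (lin g) ≤ fx (lin (g ^ n)) := by
  intro v hv
  rw [lin_mem_fx] at hv ⊢
  induction n with
  | zero => rw [pow_zero, lin_one']; rfl
  | succ n ih => rw [pow_succ, lin_mul, Module.End.mul_apply, hv, ih]

theorem fx_inv_le (g : GL I8 F) : fx (lin g) ≤ fx (lin g⁻¹) := by
  intro v hv
  rw [lin_mem_fx] at hv ⊢
  conv_lhs => rw [← hv]
  exact lin_inv_lin g v

theorem fx_zpow_le (g : GL I8 F) (j : ℤ) : fx (lin g) ≤ fx (lin (g ^ j)) := by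
  obtain ⟨n, rfl | rfl⟩ := j.eq_nat_or_neg
  · rw [zpow_natCast]; exact fx_pow_le g n
  · rw [zpow_neg, zpow_natCast]; exact (fx_pow_le g n).trans (fx_inv_le _)

/-- every power of order `r` of an element of type `B` is fixed point free. -/
theorem TypeB.fx_eq (h : RB p a r b) (hF : Nat.card F = p ^ a) {x : GL I8 F} {X Y : Submodule F (I8 → F)}
    (hB : TypeB x X Y r b) {l : ℕ} (hl : (x ^ l) ^ r = 1) (hl1 : x ^ l ≠ 1) : fx (lin (x ^ l)) = ⊥ := by
  obtain ⟨n, hn, hcm⟩ := hB.exists_r h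
  have hr := h.prim.prime
  have hP := h.ppF hF
  have hfin : finrank F (I8 → F) = 8 := by
    rw [finrank_V]
    simp
  -- `x ^ n` is fixed point free
  have hiso : Iso (quadPlus 4 F) (lin (x ^ n)) r := Iso.mk' hP (by omega)
    (by rw [← lin_pow, hn]; exact lin_one') (fun v => by
      rw [coe_quadPlus]
      have h1 : x ^ n ∈ isometryGroup F (quadFormPlus 4 F) := by
        obtain ⟨y, rfl⟩ := exists_vl hB.mem
        rw [← map_pow]
        exact vl_iso _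
      exact (mem_iso F).1 h1 v)
  have hfx : fx (lin (x ^ n)) = ⊥ := by
    have h1 : finrank F (fx (lin (x ^ n))) + finrank F (cm (lin (x ^ n))) = 8 := hiso.finrank_add.trans hfin
    rw [hcm, finrank_top, hfin] at h1
    exact Submodule.finrank_eq_zero.1 (by omega)
  have hn1 : x ^ n ≠ 1 := by
    intro h0
    rw [h0, lin_one'] at hfx
    have : fx (1 : Module.End F (I8 → F)) = ⊤ := by
      unfold H951.fx
      rw [sub_self, LinearMap.ker_zero]
    rw [this] at hfx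
    have h2 := congrArg (fun W : Submodule F (I8 → F) => finrank F W) hfx
    simp only [finrank_top, finrank_bot] at h2
    omega
  have := Fact.mk hr
  have o1 : orderOf (⟨x ^ l, Subgroup.npow_mem_zpowers x l⟩ : Subgroup.zpowers x) = r := by
    rw [Subgroup.orderOf_mk]
    exact orderOf_eq_prime hl hl1
  have o2 : orderOf (⟨x ^ n, Subgroup.npow_mem_zpowers x n⟩ : Subgroup.zpowers x) = r := by
    rw [Subgroup.orderOf_mk]
    exact orderOf_eq_prime hn hn1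
  obtain ⟨j, hj⟩ := mem_zpowers_of_cyclic o1 o2 hr.pos
  have hj' : (x ^ l) ^ j = x ^ n := congrArg Subtype.val hj
  rw [eq_bot_iff, ← hfx, ← hj']
  exact fx_zpow_le _ j

/-- separation property: no power of order `r` of `x` is conjugate to a power of a power of order `r` of `y` -/
def SepE (r : ℕ) (x y : T8 F) : Prop :=
  ∀ (c : T8 F) (i l : ℕ) (j : ℤ), orderOf (x ^ i) = r → orderOf (y ^ l) = r → c * (x ^ i) ^ j * c⁻¹ ≠ y ^ l

seal _root_.Finset.sum _root_.dotProduct in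
theorem sep_AB (h : RB p a r b) (hF : Nat.card F = p ^ a) {x y : OO F} {u w : GL I8 F} (hxA : vl F x = u * w)
    (hA : TypeA u w r s) {X Y : Submodule F (I8 → F)} (hB : TypeB (vl F y) X Y r b) : SepE r (pj F x) (pj F y) := by
  intro c i l j hi hl hc
  have hP := h.ppF hF
  have hr := h.prim.prime
  have hodd : Odd r := hr.odd_of_ne_two (by have := h.five; omega)
  obtain ⟨c, rfl⟩ := pj_surjective c
  -- lifts of order `r`
  obtain ⟨h1, h2⟩ := lift_pow hodd (x := x ^ i) (by rw [map_pow, ← hi, pow_orderOf_eq_one])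
  obtain ⟨h3, h4⟩ := lift_pow hodd (x := y ^ l) (by rw [map_pow, ← hl, pow_orderOf_eq_one])
  have h5 := lift_eq hodd h1 h3 c j (by simp only [h2, h4, map_pow, map_pow]; exact hc)
  -- the lift of `x`
  have h6 : vl F ((x ^ i) ^ (r + 1)) = u ^ (i * (r + 1)) := by
    have hcom : Commute u w := hA.comm
    have e1 : vl F ((x ^ i) ^ (r + 1)) = u ^ (i * (r + 1)) * w ^ (i * (r + 1)) := by
      rw [← pow_mul, map_pow, hxA, hcom.mul_pow]
    have e2 : (w ^ (i * (r + 1))) ^ r = 1 := by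
      have e3 : vl F ((x ^ i) ^ (r + 1)) ^ r = 1 := by rw [← map_pow, h1, map_one]
      rw [e1, ((hcom.pow_pow _ _).mul_pow _), ← pow_mul, mul_comm _ r, pow_mul, hA.u_pow, one_pow, one_mul] at e3
      exact e3
    have e4 : (w ^ (i * (r + 1))) ^ s = 1 := by rw [← pow_mul, mul_comm, pow_mul, hA.w_pow, one_pow]
    have e5 : orderOf (w ^ (i * (r + 1))) ∣ Nat.gcd r s :=
      Nat.dvd_gcd (orderOf_dvd_of_pow_eq_one e2) (orderOf_dvd_of_pow_eq_one e4)
    rw [hA.cop.gcd_eq_one, Nat.dvd_one, orderOf_eq_one_iff] at e5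
    rw [e1, e5, mul_one]
  -- the lift of `y`
  have h7 : vl F ((y ^ l) ^ (r + 1)) = (vl F y) ^ (l * (r + 1)) := by rw [← pow_mul, map_pow]
  have h8 : fx (lin ((vl F y) ^ (l * (r + 1)))) = ⊥ := by
    refine hB.fx_eq h hF ?_ ?_
    · rw [← h7, ← map_pow, h3, map_one]
    · intro h0
      rw [← h7] at h0
      have e1 : (y ^ l) ^ (r + 1) = 1 := vl_injective (by rw [h0, map_one])
      have e2 : pj F y ^ l = 1 := by rw [← map_pow, ← h4, e1, map_one]
      rw [e2, orderOf_one] at hl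
      have := h.five
      omega
  simp only [h6, h7] at h5
  -- the fixed space of `u`
  have h9 : fx (lin u) ≤ fx (lin ((u ^ (i * (r + 1))) ^ j)) := (fx_pow_le u _).trans (fx_zpow_le _ j)
  have hiso : Iso (quadPlus 4 F) (lin u) r := Iso.mk' hP (by omega)
    (by rw [← lin_pow, hA.u_pow]; exact lin_one') (fun v => by
      rw [coe_quadPlus]
      exact (mem_iso F).1 hA.u_mem v)
  have hfin : finrank F (I8 → F) = 8 := by
    rw [finrank_V]
    simp
  have h10 : finrank F (fx (lin u)) = 4 := by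
    have h1 : finrank F (fx (lin u)) + finrank F (cm (lin u)) = 8 := hiso.finrank_add.trans hfin
    rw [hA.u_dim] at h1
    omega
  have h11 : tr (vl F c) (fx (lin u)) ≤ ⊥ := by
    rw [← h8, ← h5]
    intro v hv
    rw [mem_fx_tr]
    exact h9 (mem_tr.1 hv)
  have h12 := finrank_tr (vl F c) (fx (lin u))
  rw [le_bot_iff.1 h11, finrank_bot, h10] at h12
  omega

seal _root_.Finset.sum _root_.dotProduct in
/-- two elements of type `B` -/
theorem sep_BB (h : RB p a r b) (hF : Nat.card F = p ^ a) {x y : OO F}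
    {X Y X' Y' : Submodule F (I8 → F)} (hx : TypeB (vl F x) X Y r b) (hy : TypeB (vl F y) X' Y' r b)
    (hodd : ∀ c : OO F, Odd (finrank F ↥(X' ⊓ tr (vl F c) X))) : SepE r (pj F x) (pj F y) := by
  intro c i l j hi hl hc
  have hP := h.ppF hF
  have hr := h.prim.prime
  have hro : Odd r := hr.odd_of_ne_two (by have := h.five; omega)
  obtain ⟨c, rfl⟩ := pj_surjective c
  obtain ⟨h1, h2⟩ := lift_pow hro (x := x ^ i) (by rw [map_pow, ← hi, pow_orderOf_eq_one])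
  obtain ⟨h3, h4⟩ := lift_pow hro (x := y ^ l) (by rw [map_pow, ← hl, pow_orderOf_eq_one])
  have h5 := lift_eq hro h1 h3 c j (by simp only [h2, h4, map_pow, map_pow]; exact hc)
  have h6 : vl F ((x ^ i) ^ (r + 1)) = (vl F x) ^ (i * (r + 1)) := by rw [← pow_mul, map_pow]
  have h7 : vl F ((y ^ l) ^ (r + 1)) = (vl F y) ^ (l * (r + 1)) := by rw [← pow_mul, map_pow]
  have h7r : (vl F y ^ (l * (r + 1))) ^ r = 1 := by rw [← h7, ← map_pow, h3, map_one]
  have h8 : fx (lin ((vl F y) ^ (l * (r + 1)))) = ⊥ := by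
    refine hy.fx_eq h hF h7r ?_
    · intro h0
      rw [← h7] at h0
      have e1 : (y ^ l) ^ (r + 1) = 1 := vl_injective (by rw [h0, map_one])
      have e2 : pj F y ^ l = 1 := by rw [← map_pow, ← h4, e1, map_one]
      rw [e2, orderOf_one] at hl
      have := h.five
      omega
  simp only [h6, h7] at h5
  -- invariant subspaces
  have hinv1 : H951.Inv (lin ((vl F y) ^ (l * (r + 1)))) X' := by rw [lin_pow]; exact inv_pow hy.invX _
  have hinvz : ∀ {g : GL I8 F} {W : Submodule F (I8 → F)}, H951.Inv (lin g) W → g ^ r = 1 → ∀ j : ℤ, H951.Inv (lin (g ^ j)) W := by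
    intro g W hW hg j
    have : g ^ j = g ^ (j % (r : ℤ)).toNat := by
      rw [← zpow_natCast, Int.toNat_of_nonneg (Int.emod_nonneg _ (by have := h.five; omega))]
      conv_lhs => rw [← Int.emod_add_mul_ediv j r, zpow_add, zpow_mul, zpow_natCast, hg, one_zpow, mul_one]
    rw [this, lin_pow]
    exact inv_pow hW _
  have hinv2 : H951.Inv (lin ((vl F y) ^ (l * (r + 1)))) (tr (vl F c) X) := by
    rw [← h5]
    refine inv_conj.2 (hinvz ?_ ?_ j)
    · rw [lin_pow]; exact inv_pow hx.invX _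
    · rw [← h6, ← map_pow, h1, map_one]
  have hiso : Iso (quadPlus 4 F) (lin ((vl F y) ^ (l * (r + 1)))) r := Iso.mk' hP (by omega)
    (by rw [← lin_pow, h7r]; exact lin_one') (fun v => by
      rw [coe_quadPlus, ← h7]
      exact (mem_iso F).1 (vl_iso _) v)
  have := Fact.mk hr
  have hord := H951.ord_dvd_finrank hiso.pow (W := X' ⊓ tr (vl F c) X)
    (fun w hw => ⟨hinv1 w hw.1, hinv2 w hw.2⟩) (by rw [h8, inf_bot_eq])
  have hPr : orderOf (Fintype.card F : ZMod r) = 4 := ord_eq hP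
  rw [hPr] at hord
  obtain ⟨k, hk⟩ := hodd c
  omega

end

end Cfsg.Agent.H708.O8
end

-- part: H989/Cov/O8
section
/-!
# COV-O8+ (S2499): the numbers `r`, `b` and elements with a commutator space of dimension four (helper989)

* `exists_rb` : the primes of `RB`;
* `exists_four` : a noncyclic `r`-subgroup of `GL_8(q)` contains an element `g` of order `r` with `dim [V, g] = 4`.
-/

set_option autoImplicit false
set_option linter.unusedSectionVars false

namespace Cfsg.Agent.H989.Cov.O8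

open Module Cfsg Cfsg.Geo Cfsg.Agent.H708.O8
open Cfsg.Agent.H951 (fx cm Inv)
open Cfsg.Agent.H884.El
open Cfsg.Agent.H436 (Prim exists_prim)
open scoped MatrixGroups Matrix

/-! ### Numbers -/

theorem four_dvd_pred {p e r : ℕ} (h : Prim p e r) : e ∣ r - 1 := by
  have := Fact.mk h.prime
  rw [← h.dvd_iff]
  have h0 : (p : ZMod r) ≠ 0 := by
    rw [Ne, ZMod.natCast_eq_zero_iff]
    exact h.not_dvd
  have h1 := ZMod.pow_card_sub_one_eq_one h0
  have hp : 0 < p ^ (r - 1) := by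
    apply Nat.pos_of_ne_zero
    intro h2
    have h3 : p = 0 := by
      by_contra h4
      exact (pow_ne_zero _ h4) h2
    exact h.not_dvd (h3 ▸ dvd_zero r)
  rw [← ZMod.natCast_eq_zero_iff, Nat.cast_sub hp, Nat.cast_pow, h1, Nat.cast_one, sub_self]

/-- an odd prime divisor of `p² + 1` -/
theorem prim_four {p r : ℕ} (hr : r.Prime) (hr2 : r ≠ 2) (hd : r ∣ p ^ 2 + 1) : Prim p 4 r := by
  have := Fact.mk hr
  have h1 : (p : ZMod r) ^ 2 = -1 := by
    have h2 : ((p ^ 2 + 1 : ℕ) : ZMod r) = 0 := (ZMod.natCast_eq_zero_iff _ _).2 hd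
    push_cast at h2
    linear_combination h2
  have h2 : (2 : ZMod r) ≠ 0 := by
    intro h3
    have h4 : ((2 : ℕ) : ZMod r) = 0 := by exact_mod_cast h3
    rw [ZMod.natCast_eq_zero_iff] at h4
    exact hr2 ((Nat.prime_dvd_prime_iff_eq hr Nat.prime_two).1 h4)
  have hne : (p : ZMod r) ≠ 0 := by
    intro h3
    rw [h3, zero_pow two_ne_zero] at h1
    exact one_ne_zero (neg_eq_zero.1 h1.symm)
  have h3 : orderOf (p : ZMod r) = 4 := by
    have h4 := orderOf_eq_prime_pow (x := (p : ZMod r)) (p := 2) (n := 1)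
      (by
        rw [pow_one, h1]
        intro h5
        apply h2
        linear_combination -h5)
      (by
        rw [show (2 : ℕ) ^ (1 + 1) = 2 * 2 by norm_num, pow_mul, h1]
        ring)
    rw [h4]
    norm_num
  have hp0 : p ≠ 0 := by
    rintro rfl
    exact hne (by rw [Nat.cast_zero])
  refine ⟨hr, fun m => ?_, fun h => hne ((ZMod.natCast_eq_zero_iff _ _).2 h)⟩
  have hp : 0 < p ^ m := Nat.pos_of_ne_zero (pow_ne_zero _ hp0)
  rw [← ZMod.natCast_eq_zero_iff, Nat.cast_sub hp, Nat.cast_pow, Nat.cast_one, sub_eq_zero, ← h3,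
    orderOf_dvd_iff_pow_eq_one]

theorem rb_of {p a r b : ℕ} (hp : p.Prime) (ha : 1 ≤ a) (h : Prim p (4 * a) r)
    (hb : b = (p ^ (2 * a) + 1).factorization r)
    (hc : (13 ≤ r ∧ 1 ≤ b) ∨ (r = 5 ∧ 2 ≤ b ∧ 7 ≤ p ∧ a = 1) ∨ (r = 5 ∧ b = 1 ∧ (p = 2 ∨ p = 3) ∧ a = 1)) :
    RB p a r b := by
  subst hb
  refine ⟨hp, ha, h, Nat.ordProj_dvd _ _, Nat.pow_succ_factorization_not_dvd (Nat.succ_ne_zero _) h.prime, hc⟩

theorem one_le_fact {p a r : ℕ} (ha : 1 ≤ a) (h : Prim p (4 * a) r) : 1 ≤ (p ^ (2 * a) + 1).factorization r := by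
  have h1 : r ∣ p ^ (2 * a) + 1 := by
    apply h.dvd_add
    · exact ⟨1, by ring⟩
    · intro hd
      have := Nat.le_of_dvd (by omega) hd
      omega
  exact (h.prime.dvd_iff_one_le_factorization (Nat.succ_ne_zero _)).1 h1

theorem exists_rb {p a : ℕ} (hp : p.Prime) (ha : 1 ≤ a) : ∃ r b, RB p a r b := by
  rcases Nat.lt_or_ge a 2 with h2 | h2
  · obtain rfl : a = 1 := by omega
    have hp2 := hp.two_le
    rcases Classical.em (∃ r : ℕ, r.Prime ∧ 13 ≤ r ∧ r ∣ p ^ 2 + 1) with hex | hex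
    · obtain ⟨r, hr, h13, hd⟩ := hex
      have h := prim_four hr (by omega) hd
      exact ⟨r, _, rb_of hp le_rfl h rfl (Or.inl ⟨h13, one_le_fact le_rfl h⟩)⟩
    · push Not at hex
      -- the prime divisors are 2 and 5
      have hdiv : ∀ r, r.Prime → r ∣ p ^ 2 + 1 → r = 2 ∨ r = 5 := by
        intro r hr hd
        by_cases h : r = 2
        · exact Or.inl h
        right
        have h1 := four_dvd_pred (prim_four hr h hd)
        have h3 : r < 13 := by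
          by_contra h4
          exact hex r hr (by omega) hd
        have h4 := hr.two_le
        interval_cases r <;> first | rfl | (exfalso; revert h1 hr; norm_num)
      rcases Nat.lt_or_ge p 7 with h7 | h7
      · interval_cases p
        · -- p = 2
          have h := prim_four (p := 2) (r := 5) (by norm_num) (by norm_num) (by norm_num)
          refine ⟨5, 1, hp, le_rfl, h, by norm_num, by norm_num, Or.inr (Or.inr ⟨rfl, rfl, Or.inl rfl, rfl⟩)⟩
        · have h := prim_four (p := 3) (r := 5) (by norm_num) (by norm_num) (by norm_num)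
          refine ⟨5, 1, hp, le_rfl, h, by norm_num, by norm_num, Or.inr (Or.inr ⟨rfl, rfl, Or.inr rfl, rfl⟩)⟩
        · exact absurd hp (by norm_num)
        · exfalso
          have := hdiv 13 (by norm_num) (by norm_num)
          omega
        · exact absurd hp (by norm_num)
      · -- `p² + 1 = 2 * 5 ^ b`
        set N := p ^ 2 + 1 with hN
        have hN0 : N ≠ 0 := Nat.succ_ne_zero _
        have hpo : p % 2 = 1 := hp.eq_two_or_odd.resolve_left (by omega)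
        have hN4 : ¬ 4 ∣ N := by
          intro h4
          obtain ⟨k, hk⟩ : ∃ k, p = 2 * k + 1 := ⟨p / 2, by omega⟩
          rw [hN, hk, show (2 * k + 1) ^ 2 + 1 = 4 * (k ^ 2 + k) + 2 by ring] at h4
          omega
        have hfac := Nat.ordProj_mul_ordCompl_eq_self N 5
        set M := N / 5 ^ N.factorization 5 with hM
        have h5M : ¬ 5 ∣ M := Nat.not_dvd_ordCompl (by norm_num) hN0
        have hMN : M ∣ N := Nat.ordCompl_dvd N 5
        have hM0 : M ≠ 0 := fun h => hN0 (by rw [h] at hMN; exact zero_dvd_iff.1 hMN)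
        have hM2 : ∃ c, M = 2 ^ c := by
          refine ⟨_, Nat.eq_prime_pow_of_unique_prime_dvd hM0 fun {d} hd hdM => ?_⟩
          rcases hdiv d hd (hdM.trans hMN) with h | h
          · exact h
          · exact absurd (h ▸ hdM) h5M
        obtain ⟨c, hc⟩ := hM2
        have hc1 : c < 2 := by
          by_contra hcon
          apply hN4
          refine (?_ : 4 ∣ M).trans hMN
          rw [hc]
          exact pow_dvd_pow 2 (show 2 ≤ c by omega)
        have hMle : M ≤ 2 := by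
          rw [hc]
          interval_cases c <;> norm_num
        have hNge : 50 ≤ N := by
          rw [hN]
          nlinarith only [h7]
        have hb2 : 2 ≤ N.factorization 5 := by
          by_contra hcon
          have h1 : 5 ^ N.factorization 5 ≤ 5 ^ 1 := Nat.pow_le_pow_right (by norm_num) (by omega)
          have h3 : 5 ^ N.factorization 5 * M ≤ 5 ^ 1 * 2 := Nat.mul_le_mul h1 hMle
          omega
        have h5 : 5 ∣ N := (Nat.Prime.dvd_iff_one_le_factorization (by norm_num) hN0).2 (by omega)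
        exact ⟨5, _, rb_of hp le_rfl (prim_four (by norm_num) (by norm_num) h5) rfl
          (Or.inr (Or.inl ⟨rfl, hb2, h7, rfl⟩))⟩
  · obtain ⟨r, hr⟩ := exists_prim (q := p) (e := 4 * a) hp.two_le (by omega) (by omega)
    have h1 := four_dvd_pred hr
    have h3 : 13 ≤ r := by
      have h4 := hr.prime.two_le
      by_contra hcon
      have h5 := Nat.le_of_dvd (by omega) h1
      have h6 : a = 2 := by omega
      subst h6
      have h7 : r = 9 := by omega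
      rw [h7] at hr
      exact absurd hr.prime (by norm_num)
    exact ⟨r, _, rb_of hp ha hr rfl (Or.inl ⟨h3, one_le_fact ha hr⟩)⟩

/-! ### Fixed vectors -/

section fix

variable {F V : Type} [Field F] [AddCommGroup V] [Module F V]

/-- two commuting transformations of order `r` -/
theorem exists_fixed_of_comm {r : ℕ} (hr : r.Prime) (hrF : (r : F) ≠ 0) {X Y : Module.End F V} (hXY : Commute X Y)
    (hX : X ^ r = 1) (hY : Y ^ r = 1) {v₀ : V} (hv₀ : v₀ ≠ 0) :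
    (∃ i : ℕ, ∃ v : V, v ≠ 0 ∧ (X * Y ^ i) v = v) ∨ ∃ v : V, v ≠ 0 ∧ Y v = v := by
  by_contra hcon
  rw [not_or] at hcon
  obtain ⟨h1, h2⟩ := hcon
  push Not at h1 h2
  -- a transformation of order `r` without fixed vectors
  have key : ∀ Z : Module.End F V, Z ^ r = 1 → (∀ v, Z v = v → v = 0) → ∑ k ∈ Finset.range r, Z ^ k = 0 := by
    intro Z hZ hfr
    apply LinearMap.ext
    intro v
    rw [LinearMap.zero_apply]
    apply hfr
    have h3 : (Z - 1) * ∑ k ∈ Finset.range r, Z ^ k = Z ^ r - 1 := mul_geom_sum Z r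
    rw [hZ, sub_self] at h3
    have h4 := congrArg (fun f : Module.End F V => f v) h3
    exact sub_eq_zero.1 h4
  have hXYr : ∀ i, (X * Y ^ i) ^ r = 1 := by
    intro i
    rw [(hXY.pow_right i).mul_pow, hX, ← pow_mul, mul_comm, pow_mul, hY, one_pow, one_mul]
  have e1 : ∀ i, ∑ k ∈ Finset.range r, (X * Y ^ i) ^ k = 0 := fun i =>
    key _ (hXYr i) fun v hv => by
      by_contra h0
      exact h1 i v h0 hv
  -- powers of `Y`
  have e2 : ∀ k, 0 < k → k < r → ∑ i ∈ Finset.range r, (Y ^ k) ^ i = 0 := by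
    intro k hk hkr
    refine key _ (by rw [← pow_mul, mul_comm, pow_mul, hY, one_pow]) fun v hv => ?_
    by_contra h0
    apply h2 v h0
    have hco : Nat.Coprime k r := (Nat.coprime_comm.1 ((Nat.Prime.coprime_iff_not_dvd hr).2 fun hd => by
      have := Nat.le_of_dvd hk hd
      omega))
    obtain ⟨j, hj1, hj2⟩ := Nat.chineseRemainder hco 0 1
    have h3 : Y ^ j = Y := by
      have h4 := pow_eq_pow_of_modEq hj2 hY
      rwa [pow_one] at h4
    obtain ⟨l, hl⟩ := (Nat.modEq_zero_iff_dvd.1 hj1)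
    have h5 : ∀ l : ℕ, ((Y ^ k) ^ l) v = v := by
      intro l
      induction l with
      | zero => rfl
      | succ l ih => rw [pow_succ', Module.End.mul_apply, ih, hv]
    rw [← h3, hl, pow_mul]
    exact h5 l
  have h3 : ∑ i ∈ Finset.range r, ∑ k ∈ Finset.range r, (X * Y ^ i) ^ k = 0 :=
    Finset.sum_eq_zero fun i _ => e1 i
  rw [Finset.sum_comm] at h3
  have h4 : ∀ k ∈ Finset.range r, ∑ i ∈ Finset.range r, (X * Y ^ i) ^ k =
      if k = 0 then (r : Module.End F V) else 0 := by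
    intro k hk
    split_ifs with h0
    · subst h0
      simp only [_root_.pow_zero, _root_.Finset.sum_const, _root_.Finset.card_range, _root_.nsmul_eq_mul, _root_.mul_one]
    · have h5 : ∀ i ∈ Finset.range r, (X * Y ^ i) ^ k = X ^ k * (Y ^ k) ^ i := by
        intro i _
        rw [(hXY.pow_right i).mul_pow, ← pow_mul, ← pow_mul, mul_comm i k]
      rw [Finset.sum_congr rfl h5, ← Finset.mul_sum, e2 k (Nat.pos_of_ne_zero h0) (Finset.mem_range.1 hk), mul_zero]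
  rw [Finset.sum_congr rfl h4, Finset.sum_ite_eq' (Finset.range r) 0, if_pos (Finset.mem_range.2 hr.pos)] at h3
  have h5 := congrArg (fun f : Module.End F V => f v₀) h3
  have h6 : (r : F) • v₀ = 0 := by
    have h7 : (r : Module.End F V) v₀ = r • v₀ := Module.End.natCast_apply r v₀
    rw [Nat.cast_smul_eq_nsmul, ← h7]
    exact h5
  exact hv₀ ((smul_eq_zero.1 h6).resolve_left hrF)

end fix

section

variable {F : Type} [Field F] [Fintype F] {p a r b : ℕ}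

theorem lin_mul (g h : GL I8 F) : lin (g * h) = lin g * lin h := by
  rw [lin, Units.val_mul, Matrix.toLin'_mul]
  rfl

theorem lin_pow (g : GL I8 F) (n : ℕ) : lin (g ^ n) = lin g ^ n := by
  rw [lin, Units.val_pow_eq_pow_val, Matrix.toLin'_pow]

theorem lin_one : lin (1 : GL I8 F) = 1 := by
  rw [lin, Units.val_one, Matrix.toLin'_one]
  rfl

theorem lin_eq_one {g : GL I8 F} (h : lin g = 1) : g = 1 := by
  apply Units.ext
  apply Matrix.toLin'.injective
  rw [Units.val_one, Matrix.toLin'_one]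
  exact h

theorem rb_numbers (hF : Nat.card F = p ^ a) (h : RB p a r b) :
    r ∣ Nat.card F ^ 4 - 1 ∧ (∀ i, 1 ≤ i → i < 4 → ¬ r ∣ Nat.card F ^ i - 1) ∧ r.Coprime (Nat.card F) := by
  have ha := h.ha
  rw [hF]
  refine ⟨?_, fun i h1 h2 => ?_, ?_⟩
  · rw [← pow_mul]
    exact (h.prim.dvd_iff _).2 (by rw [mul_comm])
  · rw [← pow_mul, h.prim.dvd_iff]
    intro hd
    have h3 := Nat.le_of_dvd (by positivity) hd
    have h4 : a * i < 4 * a := by nlinarith only [ha, h2]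
    omega
  · apply Nat.Coprime.pow_right
    exact (Nat.Prime.coprime_iff_not_dvd h.prim.prime).2 h.prim.not_dvd

/-- N2: a noncyclic `r`-group contains an element with `dim [V, g] = 4`. -/
theorem exists_four (hF : Nat.card F = p ^ a) (h : RB p a r b) {P : Subgroup (GL I8 F)}
    (hPr : IsPGroup r P) (hP : ¬ IsCyclic P) : ∃ g ∈ P, g ^ r = 1 ∧ g ≠ 1 ∧ finrank F (cm (lin g)) = 4 := by
  classical
  have hr := h.prim.prime
  have : Fact r.Prime := ⟨hr⟩
  obtain ⟨n1, n2, n3⟩ := rb_numbers hF h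
  have hr2 : r ≠ 2 := by
    have := h.cases
    omega
  have hrF : (r : F) ≠ 0 := H383.Cov.coprime_ne_zero n3
  obtain ⟨A, -, ⟨hAc, hAr⟩, hAcard⟩ := S0126.result (R := P) hr2 hPr hP
  -- two generators
  have hA1 : ∃ y ∈ A, y ≠ 1 := by
    by_contra hcon
    push Not at hcon
    have h1 : A = ⊥ := (Subgroup.eq_bot_iff_forall A).2 hcon
    rw [h1, Subgroup.card_bot] at hAcard
    have h2 : 1 < r ^ 2 := Nat.one_lt_pow two_ne_zero hr.one_lt
    omega
  obtain ⟨y, hyA, hy1⟩ := hA1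
  have hyr : y ^ r = 1 := hAr y hyA
  have hoy : orderOf y = r := orderOf_eq_prime hyr hy1
  have hA2 : ∃ x ∈ A, x ∉ Subgroup.zpowers y := by
    by_contra hcon
    push Not at hcon
    have h1 : A ≤ Subgroup.zpowers y := hcon
    have h2 := Nat.le_of_dvd (Nat.card_pos) (Subgroup.card_dvd_of_le h1)
    rw [hAcard, Nat.card_zpowers, hoy] at h2
    have h3 : r < r ^ 2 := by
      rw [pow_two]
      nlinarith only [hr.two_le]
    omega
  obtain ⟨x, hxA, hxy⟩ := hA2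
  have hxr : x ^ r = 1 := hAr x hxA
  have hcomm : x * y = y * x := by
    have h1 := hAc.is_comm.comm ⟨x, hxA⟩ ⟨y, hyA⟩
    exact congrArg Subtype.val h1
  -- the linear maps
  have hXY : Commute (lin (x : GL I8 F)) (lin (y : GL I8 F)) := by
    have h1 : ((x * y : P) : GL I8 F) = ((y * x : P) : GL I8 F) := by rw [hcomm]
    rw [Subgroup.coe_mul, Subgroup.coe_mul] at h1
    change lin (x : GL I8 F) * lin (y : GL I8 F) = lin (y : GL I8 F) * lin (x : GL I8 F)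
    rw [← lin_mul, ← lin_mul, h1]
  have hXr : lin (x : GL I8 F) ^ r = 1 := by
    rw [← lin_pow, ← Subgroup.coe_pow, hxr, Subgroup.coe_one, lin_one]
  have hYr : lin (y : GL I8 F) ^ r = 1 := by
    rw [← lin_pow, ← Subgroup.coe_pow, hyr, Subgroup.coe_one, lin_one]
  -- an element with fixed vectors
  have hex : ∃ g : P, g ^ r = 1 ∧ g ≠ 1 ∧ ∃ v : I8 → F, v ≠ 0 ∧ lin (g : GL I8 F) v = v := by
    have hv₀ : (fun _ => 1 : I8 → F) ≠ 0 := fun h0 => one_ne_zero (congrFun h0 (Sum.inl 0))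
    rcases exists_fixed_of_comm hr hrF hXY hXr hYr hv₀ with ⟨i, v, hv, hf⟩ | ⟨v, hv, hf⟩
    · refine ⟨x * y ^ i, ?_, ?_, v, hv, ?_⟩
      · have hc : Commute x (y ^ i) := Commute.pow_right hcomm i
        rw [hc.mul_pow, hxr, ← pow_mul, mul_comm, pow_mul, hyr, one_pow, one_mul]
      · intro h1
        apply hxy
        have h2 : x = (y ^ i)⁻¹ := (eq_inv_of_mul_eq_one_left (h1 :) :)
        rw [h2]
        exact Subgroup.inv_mem _ (Subgroup.pow_mem _ (Subgroup.mem_zpowers y) i)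
      · rw [Subgroup.coe_mul, Subgroup.coe_pow, lin_mul, lin_pow]
        exact hf
    · exact ⟨y, hyr, hy1, v, hv, hf⟩
  obtain ⟨g, hgr, hg1, v, hv, hf⟩ := hex
  have hGr : lin (g : GL I8 F) ^ r = 1 := by
    rw [← lin_pow, ← Subgroup.coe_pow, hgr, Subgroup.coe_one, lin_one]
  refine ⟨g, g.2, by rw [← Subgroup.coe_pow, hgr, Subgroup.coe_one], fun h1 => hg1 (Subtype.ext h1), ?_⟩
  -- the dimension
  have hd4 : 4 ∣ finrank F (cm (lin (g : GL I8 F))) := by
    refine H383.Cov.dvd_of_free (x := lin (g : GL I8 F)) hr hGr (by norm_num) n1 n2 ?_ ?_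
    · rintro _ ⟨u, rfl⟩
      refine ⟨lin (g : GL I8 F) u, ?_⟩
      change lin (g : GL I8 F) (lin (g : GL I8 F) u) - lin (g : GL I8 F) u = lin (g : GL I8 F) (lin (g : GL I8 F) u - u)
      rw [map_sub]
    · rintro w ⟨u, hu⟩ hw
      exact H383.Cov.eq_zero_of_fix hGr n3 (v := u) hu.symm hw
  have hrn : finrank F (cm (lin (g : GL I8 F))) + finrank F (fx (lin (g : GL I8 F))) = 8 := by
    have h1 := LinearMap.finrank_range_add_finrank_ker (lin (g : GL I8 F) - 1)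
    rw [Module.finrank_fintype_fun_eq_card] at h1
    exact h1
  have hfx : 0 < finrank F (fx (lin (g : GL I8 F))) := by
    apply Nat.pos_of_ne_zero
    intro h0
    have h1 : fx (lin (g : GL I8 F)) = ⊥ := Submodule.finrank_eq_zero.1 h0
    have h2 : v ∈ fx (lin (g : GL I8 F)) := by
      rw [H951.mem_fx]
      exact hf
    rw [h1] at h2
    exact hv ((Submodule.mem_bot F).1 h2)
  have hcm : 0 < finrank F (cm (lin (g : GL I8 F))) := by
    apply Nat.pos_of_ne_zero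
    intro h0
    have h1 : cm (lin (g : GL I8 F)) = ⊥ := Submodule.finrank_eq_zero.1 h0
    have h2 : lin (g : GL I8 F) - 1 = 0 := LinearMap.range_eq_bot.1 h1
    exact hg1 (Subtype.ext (lin_eq_one (sub_eq_zero.1 h2)))
  omega

end

end Cfsg.Agent.H989.Cov.O8
end

-- part: H708/O8/Core
section
/-!
# COV-O8+: subgroups meeting two of the classes (helper708)
-/

set_option autoImplicit false
set_option linter.unusedSectionVars false

namespace Cfsg.Agent.H708.O8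

open Module QuadraticMap Cfsg Cfsg.Geo Cfsg.Agent.LieClassical.OrthCore Cfsg.Agent.H955 Cfsg.Agent.H954.TSing
open Cfsg.Agent.LieClassical.OmegaReindex
open Cfsg.Agent.H951 (fx cm Inv)
open Cfsg.Agent.H884.El
open Cfsg.Agent.H436 (Prim)
open Cfsg.Agent.H264.FKS (Cyc mem_zpowers_of_cyclic)
open scoped MatrixGroups Matrix

section

variable {F : Type} [Field F] [Fintype F] {p a r b s : ℕ}

instance finite_T8 : Finite (T8 F) := Quotient.finite _

seal _root_.Finset.sum _root_.dotProduct in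
/-- the order of the image of an element of order prime to two -/
theorem orderOf_pj {x : OO F} (hx : Odd (orderOf x)) : orderOf (pj F x) = orderOf x := by
  apply Nat.dvd_antisymm (orderOf_map_dvd _ _)
  have h1 : pj F (x ^ orderOf (pj F x)) = 1 := by rw [map_pow, pow_orderOf_eq_one]
  have h2 := center_sq8 h1
  rw [← pow_mul] at h2
  exact (Nat.Coprime.dvd_of_dvd_mul_right (Nat.Coprime.symm (Nat.coprime_two_left.2 hx))
    (orderOf_dvd_of_pow_eq_one h2))

theorem orderOf_vl (x : OO F) : orderOf (vl F x) = orderOf x := orderOf_injective _ vl_injective x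

/-- the elements of `R` of orders `r` and `r ^ b` -/
theorem TypeB.exists_pow (h : RB p a r b) {y : OO F} {X Y : Submodule F (I8 → F)} (hB : TypeB (vl F y) X Y r b) :
    ∃ m n : ℕ, orderOf (pj F y ^ m) = r ^ b ∧ orderOf (pj F y ^ n) = r := by
  have hob_ := hB.m
  obtain ⟨m, -, h1, h2⟩ := hob_
  have hr := h.prim.prime
  have := Fact.mk hr
  have hb := h.b1
  have hodd : Odd r := hr.odd_of_ne_two (by have := h.five; omega)
  have e1 : (y ^ m) ^ (r ^ b) = 1 := by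
    apply vl_injective
    rw [map_pow, map_pow, map_one, ← pow_mul, mul_comm, h1]
  have e2 : ¬ (y ^ m) ^ (r ^ (b - 1)) = 1 := by
    intro h0
    have h3 : (vl F y) ^ (r ^ (b - 1) * m) = 1 := by
      rw [mul_comm, pow_mul, ← map_pow, ← map_pow, h0, map_one]
    rw [h3, lin_one'] at h2
    have h4 : cm (1 : Module.End F (I8 → F)) = ⊥ := by
      unfold H951.cm
      rw [sub_self, LinearMap.range_zero]
    rw [h4] at h2
    have h5 := congrArg (fun W : Submodule F (I8 → F) => finrank F W) h2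
    simp only [finrank_top, finrank_bot] at h5
    rw [finrank_V] at h5
    simp at h5
  have e3 : orderOf (y ^ m) = r ^ b := by
    have hob_ := Nat.exists_eq_add_of_le hb
    obtain ⟨c, rfl⟩ := hob_
    rw [Nat.add_sub_cancel_left] at e2
    rw [add_comm] at e1 ⊢
    exact orderOf_eq_prime_pow e2 e1
  have e4 : orderOf (pj F (y ^ m)) = r ^ b := by rw [orderOf_pj (by rw [e3]; exact hodd.pow), e3]
  refine ⟨m, m * r ^ (b - 1), by rw [← map_pow, e4], ?_⟩
  rw [pow_mul, orderOf_pow' _ (pow_ne_zero _ hr.ne_zero), ← map_pow, e4]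
  obtain ⟨c, rfl⟩ := Nat.exists_eq_add_of_le hb
  rw [Nat.add_sub_cancel_left, Nat.gcd_eq_right (pow_dvd_pow r (by omega)), pow_add, pow_one,
    Nat.mul_div_cancel _ (pow_pos hr.pos _)]

theorem TypeA.exists_pow (h : RB p a r b) {x : OO F} {u w : GL I8 F} (hx : vl F x = u * w) (hA : TypeA u w r s) :
    ∃ n : ℕ, vl F x ^ n = u ∧ orderOf (pj F x ^ n) = r := by
  have hr := h.prim.prime
  have := Fact.mk hr
  have hodd : Odd r := hr.odd_of_ne_two (by have := h.five; omega)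
  have hob_ := Nat.chineseRemainder hA.cop 1 0
  obtain ⟨k, hk1, hk2⟩ := hob_
  have hcom : Commute u w := hA.comm
  have e1 : u ^ k = u := by
    have h1 : k ≡ 1 [MOD orderOf u] := by rw [orderOf_eq_prime hA.u_pow hA.u_ne]; exact hk1
    have := (pow_eq_pow_iff_modEq (x := u)).2 h1
    rwa [pow_one] at this
  have e2 : w ^ k = 1 := by
    obtain ⟨c, hc⟩ := (Nat.modEq_zero_iff_dvd.1 hk2)
    rw [hc, pow_mul, hA.w_pow, one_pow]
  have e3 : vl F x ^ k = u := by rw [hx, hcom.mul_pow, e1, e2, mul_one]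
  refine ⟨k, e3, ?_⟩
  have e4 : orderOf (x ^ k) = r := by
    rw [← orderOf_vl, map_pow, e3]
    exact orderOf_eq_prime hA.u_pow hA.u_ne
  rw [← map_pow, orderOf_pj (by rw [e4]; exact hodd), e4]

/-- the Sylow `r`-subgroups are not cyclic -/
theorem not_cyc (h : RB p a r b) {R : Subgroup (T8 F)} {x y : T8 F} (hx : x ∈ R) (hy : y ∈ R) (hs : SepE r x y)
    {i l : ℕ} (hi : orderOf (x ^ i) = r) (hl : orderOf (y ^ l) = r) : ¬ Cyc r R := by
  intro hR
  have := Fact.mk h.prim.prime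
  obtain ⟨c, j, hc⟩ := hR.exists_conj (a := (⟨x ^ i, R.pow_mem hx i⟩ : R)) (b := (⟨y ^ l, R.pow_mem hy l⟩ : R))
    (by rw [Subgroup.orderOf_mk, hi]) (by rw [Subgroup.orderOf_mk, hl])
  exact hs c i l j hi hl (congrArg Subtype.val hc).symm

seal _root_.Finset.sum _root_.dotProduct in
seal _root_.Matrix _root_.MulAction.orbitRel _root_.Quotient _root_.Quotient.map₂ in
theorem card_dvd_of_not_cyc (h : RB p a r b) {R : Subgroup (T8 F)} (hR : ¬ Cyc r R) {y : T8 F} (hy : y ∈ R)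
    (hyo : orderOf y = r ^ b) : r ^ (b + 1) ∣ Nat.card R := by
  have := Fact.mk h.prim.prime
  have hP : IsPGroup r (Subgroup.zpowers (⟨y, hy⟩ : R)) :=
    IsPGroup.of_card (n := b) (by rw [Nat.card_zpowers, Subgroup.orderOf_mk, hyo])
  have hob_ := hP.exists_le_sylow
  obtain ⟨Q, hQ⟩ := hob_
  have hob_ := IsPGroup.iff_card.1 Q.isPGroup'
  obtain ⟨n, hn⟩ := hob_
  have h1 : ¬ n ≤ b := by
    intro hnb
    have h2 : Subgroup.zpowers (⟨y, hy⟩ : R) = (Q : Subgroup R) := by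
      apply Subgroup.eq_of_le_of_card_ge hQ
      simp only [hn, Nat.card_zpowers, Subgroup.orderOf_mk, hyo]
      exact Nat.pow_le_pow_right h.prim.prime.pos hnb
    apply hR
    refine Cyc.of_sylow ⟨Q, ?_⟩
    rw [← h2]
    infer_instance
  exact (pow_dvd_pow r (by omega)).trans (hn ▸ Subgroup.card_subgroup_dvd_card (Q : Subgroup R))

/-- an element of order `r` of the preimage, `dim [V, g] = 4` -/
theorem exists_four_pre (h : RB p a r b) (hF : Nat.card F = p ^ a) {R : Subgroup (T8 F)} (hR : ¬ Cyc r R) :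
    ∃ g ∈ pre (quadFormPlus 4 F) R, g ^ r = 1 ∧ finrank F (cm (lin g)) = 4 := by
  have := Fact.mk h.prim.prime
  let M : Subgroup (OO F) := R.comap (pj F)
  have hM : ¬ Cyc r M := by
    intro hM
    apply hR
    let f : M →* R := (pj F).subgroupComap R
    have hf : Function.Surjective f := by
      rintro ⟨y, hy⟩
      have hob_ := pj_surjective y
      obtain ⟨x, rfl⟩ := hob_
      exact ⟨⟨x, hy⟩, rfl⟩
    exact hM.of_surjective f hf
  unfold Cyc at hM
  push Not at hM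
  obtain ⟨P, hP, hPc⟩ := hM
  let f : M →* GL I8 F := (vl F).comp M.subtype
  have hf : Function.Injective f := fun _ _ e => Subtype.ext (vl_injective e)
  have h1 : ¬ IsCyclic (P.map f) := by
    intro hc
    exact hPc (isCyclic_of_injective ((P.equivMapOfInjective f hf).toMonoidHom)
      (P.equivMapOfInjective f hf).injective)
  obtain ⟨g, hg, hgr, -, hgd⟩ := H989.Cov.O8.exists_four hF h (hP.map f) h1
  obtain ⟨x, hx, rfl⟩ := hg
  exact ⟨f x, mem_pre8.2 x.2, hgr, hgd⟩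

end

end Cfsg.Agent.H708.O8
end

-- part: H781/O8/FieldA
section
/-!
# COV-O8+: quadratic extension fields (piece G2, helper781)

`kill_field_A` : no quadratic field is normalised by a group of isometries with an element of type `A`.
-/

set_option autoImplicit false
set_option linter.unusedSectionVars false

namespace Cfsg.Agent.H781.O8

open Module QuadraticMap Polynomial Cfsg Cfsg.Geo Cfsg.Agent.LieClassical.OrthCore Cfsg.Agent.H955 Cfsg.Agent.H954.TSing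
open Cfsg.Agent.H951 (fx cm Inv)
open Cfsg.Agent.H884.El
open Cfsg.Agent.H436 (Prim)
open Cfsg.Agent.H708.O8 (I8 RB TypeA)
open scoped MatrixGroups Matrix

universe u v

/-! ### linear algebra -/

section Abs

variable {F : Type u} [Field F] [Fintype F] {V : Type v} [AddCommGroup V] [Module F V] [FiniteDimensional F V]
  {Q : QuadraticForm F V} {x : Module.End F V} {r e : ℕ}

/-- the commutator space is orthogonal to the fixed space -/
theorem polar_cm_fx (hQ : ∀ v, Q (x v) = Q v) {a b : V} (ha : a ∈ cm x) (hb : b ∈ fx x) : polar Q a b = 0 := by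
  obtain ⟨c, rfl⟩ := H951.mem_cm.1 ha
  have h1 := polar_isom hQ c b
  rw [H951.mem_fx.1 hb] at h1
  rw [polar_sub_left, h1, sub_self]

/-- the polynomials in `x` applied to a vector -/
noncomputable def cyc (x : Module.End F V) (v : V) : Submodule F V :=
  LinearMap.range ((LinearMap.applyₗ v).comp (aeval x : F[X] →ₐ[F] Module.End F V).toLinearMap)

theorem mem_cyc {v w : V} : w ∈ cyc x v ↔ ∃ P : F[X], aeval x P v = w := by
  unfold cyc
  rw [LinearMap.mem_range]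
  rfl

theorem self_mem_cyc {v : V} : v ∈ cyc x v := mem_cyc.2 ⟨1, by rw [map_one]; rfl⟩

theorem inv_cyc {v : V} : H951.Inv x (cyc x v) := by
  intro w hw
  obtain ⟨P, rfl⟩ := mem_cyc.1 hw
  exact mem_cyc.2 ⟨X * P, by rw [map_mul, aeval_X]; rfl⟩

theorem cyc_le {v : V} {W : Submodule F V} (hW : H951.Inv x W) (hv : v ∈ W) : cyc x v ≤ W := by
  intro w hw
  obtain ⟨P, rfl⟩ := mem_cyc.1 hw
  exact hW.aeval P v hv

/-- the commutator space of dimension `e` is cyclic -/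
theorem cyc_eq (h : Iso Q x r) (hr : PP (Nat.card F) e r) (hd : finrank F (cm x) = e) {v : V} (hv : v ∈ cm x)
    (hv0 : v ≠ 0) : cyc x v = cm x := by
  have h1 : cyc x v ≤ cm x := cyc_le H951.inv_cm hv
  have h2 := h.dvd hr (W := cyc x v) inv_cyc
  rw [inf_eq_left.2 h1] at h2
  refine Submodule.eq_of_le_of_finrank_eq h1 (le_antisymm (Submodule.finrank_mono h1) ?_)
  rw [hd]
  refine Nat.le_of_dvd (Nat.pos_of_ne_zero fun h0 => ?_) h2
  have h3 := Submodule.finrank_eq_zero.1 h0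
  apply hv0
  rw [← Submodule.mem_bot (R := F), ← h3]
  exact self_mem_cyc

/-- an endomorphism commuting with `x` is a polynomial in `x` on a cyclic space -/
theorem exists_poly {k : Module.End F V} (hk : Commute k x) {v : V} (hkv : k v ∈ cyc x v) :
    ∃ P : F[X], ∀ y ∈ cyc x v, k y = aeval x P y := by
  obtain ⟨P, hP⟩ := mem_cyc.1 hkv
  refine ⟨P, fun y hy => ?_⟩
  obtain ⟨R, rfl⟩ := mem_cyc.1 hy
  have h1 : Commute k (aeval x R) := by
    induction R using Polynomial.induction_on' with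
    | add p q hp hq => rw [map_add]; exact (hp (mem_cyc.2 ⟨p, rfl⟩)).add_right (hq (mem_cyc.2 ⟨q, rfl⟩))
    | monomial n a =>
      rw [aeval_monomial]
      exact (Algebra.commute_algebraMap_right a k).mul_right (hk.pow_right n)
  have h2 : k (aeval x R v) = aeval x R (k v) := by
    rw [← Module.End.mul_apply, h1.eq, Module.End.mul_apply]
  rw [h2, ← hP, ← Module.End.mul_apply, ← Module.End.mul_apply, ← map_mul, ← map_mul, mul_comm]

/-- the adjoint of a polynomial in `x` -/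
theorem polar_aeval (hQ : ∀ v, Q (x v) = Q v) {n : ℕ} (hn : x ^ (n + 1) = 1) (P : F[X]) (a b : V) :
    polar Q (aeval x P a) b = polar Q a (aeval (x ^ n) P b) := by
  have h1 : ∀ a b : V, polar Q (x a) b = polar Q a ((x ^ n) b) := by
    intro a b
    rw [← polar_isom hQ a ((x ^ n) b), ← Module.End.mul_apply x, ← pow_succ', hn]
    rfl
  have h2 : ∀ (m : ℕ) (a b : V), polar Q ((x ^ m) a) b = polar Q a (((x ^ n) ^ m) b) := by
    intro m
    induction m with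
    | zero => intro a b; rfl
    | succ m ih =>
      intro a b
      rw [pow_succ', Module.End.mul_apply, h1, ih, ← Module.End.mul_apply, ← pow_succ]
  induction P using Polynomial.induction_on' with
  | add p q hp hq =>
    rw [map_add, map_add, LinearMap.add_apply, LinearMap.add_apply, polar_add_left, polar_add_right, hp, hq]
  | monomial m c =>
    rw [aeval_monomial, aeval_monomial, Module.End.mul_apply, Module.End.mul_apply, Module.algebraMap_end_apply,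
      Module.algebraMap_end_apply, polar_smul_left, polar_smul_right, h2]

/-- the Frobenius map on polynomials in `x` -/
theorem aeval_pow_card (P : F[X]) : aeval (x ^ Fintype.card F) P = aeval x P ^ Fintype.card F := by
  rw [← Polynomial.expand_aeval, FiniteField.expand_card, map_pow]

theorem aeval_pow_card_sq (P : F[X]) : aeval (x ^ (Fintype.card F ^ 2)) P = aeval x P ^ (Fintype.card F ^ 2) := by
  rw [_root_.sq, pow_mul, aeval_pow_card, aeval_pow_card, ← pow_mul]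

/-- **The adjoint of an endomorphism commuting with `x` on the commutator space.** -/
theorem polar_commute (h : Iso Q x r) (hr : PP (Nat.card F) e r) (hd : finrank F (cm x) = e)
    (hx : x ^ (Fintype.card F ^ 2 + 1) = 1) {k : Module.End F V} (hk : Commute k x)
    (hkq : k ^ (Fintype.card F ^ 2) = k) {v : V} (hv : v ∈ cm x) (y : V) : polar Q (k v) y = polar Q v (k y) := by
  have hkcm : ∀ v ∈ cm x, k v ∈ cm x := by
    intro v hv
    obtain ⟨c, rfl⟩ := H951.mem_cm.1 hv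
    refine H951.mem_cm.2 ⟨k c, ?_⟩
    rw [map_sub, ← Module.End.mul_apply, ← hk.eq, Module.End.mul_apply]
  have hkfx : ∀ v ∈ fx x, k v ∈ fx x := by
    intro v hv
    rw [H951.mem_fx, ← Module.End.mul_apply, ← hk.eq, Module.End.mul_apply, H951.mem_fx.1 hv]
  by_cases hv0 : v = 0
  · subst hv0
    rw [map_zero, polar_zero_left, polar_zero_left]
  have hc := cyc_eq h hr hd hv hv0
  obtain ⟨P, hP⟩ := exists_poly hk (v := v) (by rw [hc]; exact hkcm v hv)
  rw [hc] at hP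
  have hpow : ∀ (n : ℕ) (y : V), y ∈ cm x → (aeval x P ^ n) y = (k ^ n) y ∧ (k ^ n) y ∈ cm x := by
    intro n
    induction n with
    | zero => intro y hy; exact ⟨rfl, hy⟩
    | succ n ih =>
      intro y hy
      obtain ⟨h1, h2⟩ := ih y hy
      rw [pow_succ', pow_succ', Module.End.mul_apply, Module.End.mul_apply, h1]
      exact ⟨(hP _ h2).symm, hkcm _ h2⟩
  have hcm : ∀ y ∈ cm x, polar Q (k v) y = polar Q v (k y) := by
    intro y hy
    rw [hP v hv, polar_aeval h.iso hx, aeval_pow_card_sq, (hpow _ y hy).1, hkq]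
  -- all vectors
  have hy : y ∈ fx x ⊔ cm x := by
    rw [(H951.isCompl_fx_cm h.ne0 h.pow).sup_eq_top]
    exact Submodule.mem_top
  obtain ⟨y1, hy1, y2, hy2, rfl⟩ := Submodule.mem_sup.1 hy
  rw [map_add, polar_add_right, polar_add_right, hcm y2 hy2, polar_cm_fx h.iso (hkcm v hv) hy1,
    polar_cm_fx h.iso hv (hkfx y1 hy1)]

end Abs

/-! ### fields of matrices -/

section Mat

variable {ι : Type} [Fintype ι] [DecidableEq ι] {F : Type u} [Field F] [Fintype F] {Q : QuadraticForm F (ι → F)}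
  {r e : ℕ}

/-- elements of odd order commute with a normalised quadratic field -/
theorem comm_odd [Nonempty ι] {K : Subalgebra F (Matrix ι ι F)} (hK : IsFieldSubalgebra 2 K)
    {g : GL ι F} (hgK : g ∈ subalgebraNormalizer K) {n : ℕ} (hn : Odd n) (hgn : g ^ n = 1) :
    ∀ x ∈ K, (g : Matrix ι ι F) * x = x * (g : Matrix ι ι F) := by
  have hN : H912.NormAlg (subalgebraNormalizer K) K := fun _ hh a ha => (hh a).mp ha
  let _ : Field K := (H912.isField_of_fieldSub hK).toField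
  have hfd : Module.Finite F K := inferInstance
  have hKfin : Finite K := Module.finite_of_finite F
  have hgal : IsGalois F K := inferInstance
  let σ : K ≃ₐ[F] K := H912.conjSub hN ⟨g, hgK⟩
  have hσk : ∀ (k : ℕ) (x : K), (((σ ^ k) x : K) : Matrix ι ι F) =
      ((g ^ k : GL ι F) : Matrix ι ι F) * x * (((g ^ k)⁻¹ : GL ι F) : Matrix ι ι F) := by
    intro k
    induction k with
    | zero => intro x; simp
    | succ k ih =>
      intro x
      rw [pow_succ, AlgEquiv.mul_apply, ih, H912.conjSub_coe, pow_succ, _root_.mul_inv_rev, Units.val_mul,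
        Units.val_mul]
      simp only [Matrix.mul_assoc]
  have hσs : σ ^ n = 1 := by
    apply AlgEquiv.ext
    intro x
    apply Subtype.ext
    rw [hσk, hgn]
    simp
  have hσ1 : σ = 1 := by
    have h1 : orderOf σ ∣ n := orderOf_dvd_of_pow_eq_one hσs
    have h2 : orderOf σ ∣ 2 := by
      have h3 : Nat.card (K ≃ₐ[F] K) = 2 := by
        rw [IsGalois.card_aut_eq_finrank, hK.finrank_eq]
      rw [← h3]
      exact orderOf_dvd_natCard σ
    have h3 : Nat.Coprime n 2 := Nat.coprime_two_right.2 hn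
    have h4 : orderOf σ ∣ 1 := by
      rw [← Nat.Coprime.gcd_eq_one h3]
      exact Nat.dvd_gcd h1 h2
    exact orderOf_eq_one_iff.1 (Nat.dvd_one.1 h4)
  intro x hx
  have h1 := H912.conjSub_coe hN ⟨g, hgK⟩ ⟨x, hx⟩
  have h2 : (H912.conjSub hN ⟨g, hgK⟩ ⟨x, hx⟩ : K) = ⟨x, hx⟩ := by
    change σ ⟨x, hx⟩ = ⟨x, hx⟩
    rw [hσ1]; rfl
  rw [h2] at h1
  have h3 : x = (g : Matrix ι ι F) * x * ((g⁻¹ : GL ι F) : Matrix ι ι F) := h1
  conv_rhs => rw [h3]
  rw [Matrix.mul_assoc, ← Units.val_mul, inv_mul_cancel, Units.val_one, Matrix.mul_one]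

/-- the elements of a quadratic field are fixed by the square of the Frobenius map -/
theorem pow_card_field [Nonempty ι] {K : Subalgebra F (Matrix ι ι F)} (hK : IsFieldSubalgebra 2 K)
    {k : Matrix ι ι F} (hk : k ∈ K) : k ^ (Fintype.card F ^ 2) = k := by
  let _ : Field K := (H912.isField_of_fieldSub hK).toField
  have hfd : Module.Finite F K := inferInstance
  have hKfin : Finite K := Module.finite_of_finite F
  let _ : Fintype K := Fintype.ofFinite K
  have h1 : Fintype.card K = Fintype.card F ^ 2 := by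
    rw [Module.card_eq_pow_finrank (K := F) (V := K), hK.finrank_eq]
  have h2 := FiniteField.pow_card (⟨k, hk⟩ : K)
  rw [h1] at h2
  exact congrArg Subtype.val h2

/-- an element of a field of matrices which kills a nonzero vector is zero -/
theorem eq_zero_of_mulVec {s : ℕ} {K : Subalgebra F (Matrix ι ι F)} (hK : IsFieldSubalgebra s K) {k : Matrix ι ι F}
    (hk : k ∈ K) {v : ι → F} (hv : v ≠ 0) (h : k *ᵥ v = 0) : k = 0 := by
  by_contra hk0
  obtain ⟨k', -, hk'⟩ := hK.inv k hk hk0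
  have h1 := mul_eq_one_comm.1 hk'
  apply hv
  rw [← Matrix.one_mulVec v, ← h1, ← Matrix.mulVec_mulVec, h, Matrix.mulVec_zero]

/-- **The field is self adjoint.** -/
theorem self_adj [Nonempty ι] (hQ : Nondeg Q) {K : Subalgebra F (Matrix ι ι F)} (hK : IsFieldSubalgebra 2 K)
    (hadj : IsAdjointClosedFor (polar Q) K) {u : GL ι F} (h : Iso Q (lin u) r) (hr : PP (Nat.card F) e r)
    (hd : finrank F (cm (lin u)) = e) (he : e ≠ 0) (hx : lin u ^ (Fintype.card F ^ 2 + 1) = 1)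
    (hcomm : ∀ x ∈ K, (u : Matrix ι ι F) * x = x * (u : Matrix ι ι F)) {k : Matrix ι ι F} (hk : k ∈ K)
    (a b : ι → F) : polar Q (k *ᵥ a) b = polar Q a (k *ᵥ b) := by
  obtain ⟨k', hk', hkk⟩ := hadj k hk
  have hne : ∃ v ∈ cm (lin u), v ≠ 0 := by
    by_contra hcon
    push Not at hcon
    have h1 : cm (lin u) = ⊥ := by
      rw [eq_bot_iff]
      intro v hv
      exact (Submodule.mem_bot F).2 (hcon v hv)
    rw [h1, finrank_bot] at hd
    exact he hd.symm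
  obtain ⟨v, hv, hv0⟩ := hne
  have hkc : Commute (Matrix.toLin' k) (lin u) := by
    show Matrix.toLin' k * Matrix.toLin' (u : Matrix ι ι F) = Matrix.toLin' (u : Matrix ι ι F) * Matrix.toLin' k
    rw [Module.End.mul_eq_comp, Module.End.mul_eq_comp, ← Matrix.toLin'_mul, ← Matrix.toLin'_mul, hcomm k hk]
  have hkq : Matrix.toLin' k ^ (Fintype.card F ^ 2) = Matrix.toLin' k := by
    rw [← Matrix.toLin'_pow, pow_card_field hK hk]
  have h1 : ∀ y, polar Q (k *ᵥ v) y = polar Q v (k *ᵥ y) := by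
    intro y
    have h2 := polar_commute h hr hd hx hkc hkq hv y
    rwa [Matrix.toLin'_apply, Matrix.toLin'_apply] at h2
  have h2 : (k' - k) *ᵥ v = 0 := by
    apply hQ
    intro y
    rw [Matrix.sub_mulVec, polar_sub_left, sub_eq_zero, QuadraticMap.polar_comm Q (k' *ᵥ v), ← hkk, h1, QuadraticMap.polar_comm Q v]
  have h3 := eq_zero_of_mulVec hK (K.sub_mem hk' hk) hv0 h2
  rw [hkk, sub_eq_zero.1 h3]

/-- the line of the field through a vector -/
def line (K : Subalgebra F (Matrix ι ι F)) (v : ι → F) : K →ₗ[F] (ι → F) where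
  toFun k := (k : Matrix ι ι F) *ᵥ v
  map_add' a b := by rw [Subalgebra.coe_add, Matrix.add_mulVec]
  map_smul' c a := by rw [Subalgebra.coe_smul, Matrix.smul_mulVec, RingHom.id_apply]

/-- **A self adjoint quadratic field does not commute with an isometry with a commutator space of dimension two.** -/
theorem no_line (hQ : Nondeg Q) {K : Subalgebra F (Matrix ι ι F)} (hK : IsFieldSubalgebra 2 K)
    (hsa : ∀ k ∈ K, ∀ a b : ι → F, polar Q (k *ᵥ a) b = polar Q a (k *ᵥ b)) {w : GL ι F} {s : ℕ}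
    (h : Iso Q (lin w) s) (hd : finrank F (cm (lin w)) = 2)
    (hcomm : ∀ x ∈ K, (w : Matrix ι ι F) * x = x * (w : Matrix ι ι F)) : False := by
  have hw : ∀ (k : Matrix ι ι F), k ∈ K → ∀ y, (w : Matrix ι ι F) *ᵥ (k *ᵥ y) = k *ᵥ ((w : Matrix ι ι F) *ᵥ y) := by
    intro k hk y
    rw [Matrix.mulVec_mulVec, Matrix.mulVec_mulVec, hcomm k hk]
  have hlw : ∀ y, lin w y = (w : Matrix ι ι F) *ᵥ y := fun y => Matrix.toLin'_apply _ _
  have hne : ∃ v ∈ cm (lin w), v ≠ 0 := by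
    by_contra hcon
    push Not at hcon
    have h1 : cm (lin w) = ⊥ := by
      rw [eq_bot_iff]
      intro v hv
      exact (Submodule.mem_bot F).2 (hcon v hv)
    rw [h1, finrank_bot] at hd
    omega
  obtain ⟨v, hv, hv0⟩ := hne
  have hkcm : ∀ k ∈ K, ∀ y ∈ cm (lin w), k *ᵥ y ∈ cm (lin w) := by
    intro k hk y hy
    obtain ⟨c, rfl⟩ := H951.mem_cm.1 hy
    refine H951.mem_cm.2 ⟨k *ᵥ c, ?_⟩
    rw [hlw, hlw, hw k hk, Matrix.mulVec_sub]
  have hinj : Function.Injective (line K v) := by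
    rw [injective_iff_map_eq_zero]
    intro k hk
    exact Subtype.ext (eq_zero_of_mulVec hK k.2 hv0 hk)
  have hrange : LinearMap.range (line K v) = cm (lin w) := by
    apply Submodule.eq_of_le_of_finrank_eq
    · rintro _ ⟨k, rfl⟩
      exact hkcm k k.2 v hv
    · rw [LinearMap.finrank_range_of_inj hinj, hK.finrank_eq, hd]
  -- `w = k` on the commutator space
  obtain ⟨k, hk⟩ : ∃ k : K, line K v k = lin w v := by
    rw [← LinearMap.mem_range, hrange]
    exact H951.inv_cm v hv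
  have hkw : ∀ y ∈ cm (lin w), lin w y = (k : Matrix ι ι F) *ᵥ y := by
    intro y hy
    rw [← hrange] at hy
    obtain ⟨k1, rfl⟩ := hy
    show lin w ((k1 : Matrix ι ι F) *ᵥ v) = (k : Matrix ι ι F) *ᵥ ((k1 : Matrix ι ι F) *ᵥ v)
    rw [hlw, hw _ k1.2, ← hlw, ← hk]
    show (k1 : Matrix ι ι F) *ᵥ ((k : Matrix ι ι F) *ᵥ v) = _
    rw [Matrix.mulVec_mulVec, Matrix.mulVec_mulVec, hK.comm _ k1.2 _ k.2]
  have hsq : ∀ y ∈ cm (lin w), lin w (lin w y) = y := by
    intro y hy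
    have hwy : lin w y ∈ cm (lin w) := H951.inv_cm y hy
    have hwwy : lin w (lin w y) ∈ cm (lin w) := H951.inv_cm _ hwy
    have h1 : ∀ t, polar Q (lin w (lin w y) - y) t = 0 := by
      intro t
      have ht : t ∈ fx (lin w) ⊔ cm (lin w) := by
        rw [(H951.isCompl_fx_cm h.ne0 h.pow).sup_eq_top]
        exact Submodule.mem_top
      obtain ⟨t1, ht1, t2, ht2, rfl⟩ := Submodule.mem_sup.1 ht
      rw [polar_add_right, polar_cm_fx h.iso (sub_mem hwwy hy) ht1, zero_add, polar_sub_left, sub_eq_zero]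
      rw [← polar_isom h.iso y t2, hkw _ hwy, hsa _ k.2, ← hkw _ ht2]
    exact sub_eq_zero.1 (hQ _ h1)
  have hodd : Odd s := h.prime.odd_of_ne_two (by have := h.two_lt; omega)
  obtain ⟨j, hj⟩ := hodd
  have h2 : ∀ (n : ℕ) (y : ι → F), y ∈ cm (lin w) → (lin w ^ (2 * n)) y = y := by
    intro n
    induction n with
    | zero => intro y _; rfl
    | succ n ih =>
      intro y hy
      rw [show 2 * (n + 1) = 2 * n + 1 + 1 by ring, pow_succ, pow_succ, Module.End.mul_apply, Module.End.mul_apply,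
        hsq y hy, ih y hy]
  have h3 : lin w v = v := by
    have h4 : (lin w ^ s) v = v := by rw [h.pow]; rfl
    rw [hj, pow_succ', Module.End.mul_apply, h2 j v hv] at h4
    exact h4
  have h4 : v ∈ cm (lin w) ⊓ fx (lin w) := ⟨hv, H951.mem_fx.2 h3⟩
  rw [H951.inf_fx_of_le_cm h.ne0 h.pow le_rfl] at h4
  exact hv0 ((Submodule.mem_bot F).1 h4)

end Mat

/-! ### the theorem -/

section

variable {F : Type} [Field F] [Fintype F] {p a r b : ℕ}

/-- **No quadratic field is normalised by a group with an element of type `A`.** -/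
theorem kill_field_A (hF : Nat.card F = p ^ a) (h : RB p a r b) {K : Subalgebra F (Matrix I8 I8 F)}
    (hK : IsFieldSubalgebra 2 K) (hadj : IsAdjointClosedFor (polar (quadFormPlus 4 F)) K) {H : Subgroup (GL I8 F)}
    (hH : H ≤ isometryGroup F (quadFormPlus 4 F)) (hHK : H ≤ subalgebraNormalizer K) {u w : GL I8 F} {s : ℕ}
    (hA : TypeA u w r s) (hu : u ∈ H) (hw : w ∈ H) : False := by
  have hr4 := RB.pp4 hF h
  have hq := Finite.one_lt_card (α := F)
  have hwc := comm_odd hK (hHK hw) hA.odd hA.w_pow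
  rcases hA.sharp with h1 | ⟨hs, hd⟩
  · -- the rank of `(w - 1)²` is one
    have h2 := even_of_field hK (W := LinearMap.range ((lin w - 1) ^ 2)) (fun k hk y hy => by
      obtain ⟨c, rfl⟩ := hy
      refine ⟨k *ᵥ c, ?_⟩
      have h3 : ∀ y, (lin w - 1) (k *ᵥ y) = k *ᵥ ((lin w - 1) y) := by
        intro y
        rw [LinearMap.sub_apply, LinearMap.sub_apply, Module.End.one_apply, Module.End.one_apply, lin,
          Matrix.toLin'_apply, Matrix.toLin'_apply, Matrix.mulVec_sub, Matrix.mulVec_mulVec, Matrix.mulVec_mulVec,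
          hwc k hk]
      rw [pow_two, Module.End.mul_apply, Module.End.mul_apply, h3, h3])
    rw [h1] at h2
    exact absurd h2 (by decide)
  · rw [← LieClassical.OmegaReindex.coe_quadPlus] at hadj hH
    have hQ : Nondeg (LieClassical.OmegaReindex.quadPlus 4 F) :=
      nondeg_iff.2 LieClassical.OmegaReindex.quadPlus_nondegenerate
    have hrodd : Odd r := hr4.odd (by omega)
    have huc := comm_odd hK (hHK hu) hrodd hA.u_pow
    have hup : lin u ^ r = 1 := by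
      rw [← H251.GeoCard.toLin_pow, hA.u_pow]
      exact lin_one
    have hwp : lin w ^ s = 1 := by
      rw [← H251.GeoCard.toLin_pow, hA.w_pow]
      exact lin_one
    have hiu : Iso (LieClassical.OmegaReindex.quadPlus 4 F) (lin u) r := Iso.mk' hr4 (by omega) hup (lin_iso hH hu)
    have hiw : Iso (LieClassical.OmegaReindex.quadPlus 4 F) (lin w) s := Iso.mk' hs le_rfl hwp (lin_iso hH hw)
    -- `r ∣ q² + 1`
    have hrd : r ∣ Fintype.card F ^ 2 + 1 := by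
      rw [← Nat.card_eq_fintype_card]
      have h2 : r ∣ Nat.card F ^ 4 - 1 := (hr4.dvd_iff (by omega) 4).2 dvd_rfl
      have h3 : ¬ r ∣ Nat.card F ^ 2 - 1 := fun h3 => by
        have := (hr4.dvd_iff (by omega) 2).1 h3
        omega
      have e : Nat.card F ^ 4 - 1 = (Nat.card F ^ 2 - 1) * (Nat.card F ^ 2 + 1) := by
        have h5 : 1 ≤ Nat.card F ^ 2 := Nat.one_le_pow _ _ (by omega)
        obtain ⟨x, hx⟩ := Nat.exists_eq_add_of_le h5
        have h6 : Nat.card F ^ 4 = (Nat.card F ^ 2) ^ 2 := by ring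
        rw [h6, hx, Nat.add_sub_cancel_left]
        apply Nat.sub_eq_of_eq_add
        ring
      rw [e] at h2
      rcases (Nat.Prime.dvd_mul h.prim.prime).1 h2 with h4 | h4
      · exact absurd h4 h3
      · exact h4
    have hx : lin u ^ (Fintype.card F ^ 2 + 1) = 1 := by
      obtain ⟨c, hc⟩ := hrd
      rw [hc, pow_mul, hup, one_pow]
    refine no_line hQ hK (fun k hk a b => ?_) hiw hd hwc
    exact self_adj hQ hK hadj hiu hr4 hA.u_dim (by omega) hx huc hk a b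

end

end Cfsg.Agent.H781.O8
end

-- part: H708/O8/Main
section
/-!
# COV-O8+: `PΩ⁺₈(q)` is not the union of the conjugates of two proper subgroups (helper708)
-/

set_option autoImplicit false
set_option linter.unusedSectionVars false

namespace Cfsg.Agent.H708.O8

open Module QuadraticMap Cfsg Cfsg.Geo Cfsg.Agent.LieClassical.OrthCore Cfsg.Agent.H955 Cfsg.Agent.H954.TSing
open Cfsg.Agent.LieClassical.OmegaReindex Cfsg.Agent.H915.LD
open Cfsg.Agent.H951 (fx cm Inv)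
open Cfsg.Agent.H884.El
open Cfsg.Agent.H436 (Prim)
open Cfsg.Agent.H264.FKS (Cyc mem_zpowers_of_cyclic)
open Cfsg.Agent.H278.Cov
open scoped MatrixGroups Matrix

section

variable {F : Type} [Field F] [Fintype F] {p a r b s : ℕ}

/-- the residual step for `q = 2` -/
def SmallTwo (F : Type) [Field F] [Fintype F] : Prop :=
  Nat.card F = 2 → ∀ (R : Subgroup (T8 F)) (S : Subgroup R), S.Normal → IsSimpleGroup S → ¬ IsMulCommutative S →
    Subgroup.centralizer (S : Set R) = ⊥ → ∀ P : Subgroup (GL I8 F), IsResidualCore (pre (quadFormPlus 4 F) R) P →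
    (S ≃* Soc P) → ¬ IsLieTypeChar 2 (Soc P) → ∀ x y : T8 F, x ∈ R → y ∈ R → orderOf x = 15 → orderOf y = 15 →
    (∀ (c : T8 F) (j : ℤ), c * (x ^ 3) ^ j * c⁻¹ ≠ y ^ 3) → 25 ∣ Nat.card R → False

/-- the residual step for `q = 3` -/
def SmallThree (F : Type) [Field F] [Fintype F] : Prop :=
  Nat.card F = 3 → ∀ (R : Subgroup (T8 F)) (S : Subgroup R), S.Normal → IsSimpleGroup S → ¬ IsMulCommutative S →
    Subgroup.centralizer (S : Set R) = ⊥ → ∀ P : Subgroup (GL I8 F), IsResidualCore (pre (quadFormPlus 4 F) R) P →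
    (S ≃* Soc P) → ¬ IsLieTypeChar 3 (Soc P) → ∀ x y : T8 F, x ∈ R → y ∈ R → (orderOf x = 15 ∨ orderOf x = 20) →
    orderOf y = 20 → (∀ (c : T8 F) (j : ℤ), c * (x ^ (orderOf x / 5)) ^ j * c⁻¹ ≠ y ^ 4) → 25 ∣ Nat.card R → False

theorem RB.small (h : RB p a r b) (hq : p ^ a = 2 ∨ p ^ a = 3) : r = 5 ∧ b = 1 := by
  have hp := h.hp
  have ha : a = 1 ∧ (p = 2 ∨ p = 3) := by
    have h1 : 2 ≤ p := hp.two_le
    have ha := h.ha
    have : a < 2 := by
      by_contra hcon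
      push Not at hcon
      have h2 : p ^ 2 ≤ p ^ a := Nat.pow_le_pow_right (by omega) hcon
      have h3 : 2 ^ 2 ≤ p ^ 2 := Nat.pow_le_pow_left h1 2
      omega
    have : a = 1 := by omega
    subst this
    rw [pow_one] at hq
    exact ⟨rfl, hq⟩
  obtain ⟨rfl, hp3⟩ := ha
  rcases h.cases with ⟨h13, -⟩ | ⟨-, -, h7, -⟩ | ⟨h1, h2, -, -⟩
  · exfalso
    have h1 := (h.prim.dvd_iff 4).2 (by norm_num)
    rcases hp3 with rfl | rfl
    · have := Nat.le_of_dvd (by norm_num) h1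
      norm_num at this
      have hr := h.prim.prime
      interval_cases r <;> revert h1 hr <;> decide
    · norm_num at h1
      have hr := h.prim.prime
      have h2 : r ∣ 2 ^ 4 * 5 := h1
      rcases (hr.dvd_mul.1 h2) with h3 | h3
      · have := Nat.le_of_dvd (by norm_num) (hr.dvd_of_dvd_pow h3)
        omega
      · have := Nat.le_of_dvd (by norm_num) h3
        omega
  · omega
  · exact ⟨h1, h2⟩

/-- orders in `PΩ` for `q = 2, 3` -/
theorem TypeB.order_two {y : OO F} {X Y : Submodule F (I8 → F)} (hB : TypeB (vl F y) X Y r b) (h2 : Nat.card F = 2) :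
    orderOf (pj F y) = 15 := by
  have h1 := hB.ord.1 h2
  rw [orderOf_vl] at h1
  rw [orderOf_pj (by rw [h1]; decide), h1]

seal _root_.Finset.sum _root_.dotProduct in
theorem TypeB.order_three {y : OO F} {X Y : Submodule F (I8 → F)} (hB : TypeB (vl F y) X Y r b) (h3 : Nat.card F = 3) :
    orderOf (pj F y) = 20 := by
  have hob_ := hB.ord.2 h3
  obtain ⟨h1, h2⟩ := hob_
  rw [orderOf_vl] at h1
  apply Nat.dvd_antisymm
  · apply orderOf_dvd_of_pow_eq_one
    rw [← map_pow]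
    refine (QuotientGroup.eq_one_iff (y ^ 20)).2 (Subgroup.mem_center_iff.2 fun g => vl_injective ?_)
    simp only [(vl F).map_mul, (vl F).map_mul, (vl F).map_pow]
    apply Units.ext
    simp only [Units.val_mul, Units.val_mul, h2, mul_neg, mul_one, neg_mul, one_mul]
  · have h4 : pj F (y ^ orderOf (pj F y)) = 1 := by rw [map_pow, pow_orderOf_eq_one]
    have h5 := center_sq8 h4
    rw [← pow_mul] at h5
    have h6 := orderOf_dvd_of_pow_eq_one h5
    rw [h1] at h6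
    omega

theorem TypeA.order_small {x : OO F} {u w : GL I8 F} (hx : vl F x = u * w) (hA : TypeA u w 5 s)
    (hF : Nat.card F = 2 ∨ Nat.card F = 3) : orderOf (pj F x) = 15 := by
  have hob_ := hA.ord hF
  obtain ⟨rfl, hw⟩ := hob_
  have hcom : Commute u w := hA.comm
  have h5 : Fact (Nat.Prime 5) := ⟨by norm_num⟩
  have h3 : Fact (Nat.Prime 3) := ⟨by norm_num⟩
  have h1 : orderOf x = 15 := by
    rw [← orderOf_vl, hx, hcom.orderOf_mul_eq_mul_orderOf_of_coprime, orderOf_eq_prime hA.u_pow hA.u_ne,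
      orderOf_eq_prime hA.w_pow hw]
    rw [orderOf_eq_prime hA.u_pow hA.u_ne, orderOf_eq_prime hA.w_pow hw]
    norm_num
  rw [orderOf_pj (by rw [h1]; decide), h1]

/-- **No proper subgroup** contains an element of type `B` and an element `x` separated from it (under the conditions of
the small cases and if there is no quadratic field). -/
theorem main_pair (hKn : ∀ (X : Type) [Group X] [Finite X] [IsSimpleGroup X], Cfsg.IsKnownSimple' X)
    (hs2 : SmallTwo F) (hs3 : SmallThree F)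
    (hF : Nat.card F = p ^ a) (h : RB p a r b) {R : Subgroup (T8 F)} (hR : R ≠ ⊤) {x y : OO F}
    (hx : pj F x ∈ R) (hy : pj F y ∈ R) (hsep : SepE r (pj F x) (pj F y)) {i : ℕ} (hi : orderOf (pj F x ^ i) = r)
    {X Y : Submodule F (I8 → F)} (hB : TypeB (vl F y) X Y r b)
    (hK : ∀ K : Subalgebra F (Matrix I8 I8 F), IsFieldSubalgebra 2 K →
      IsAdjointClosedFor (polar (quadFormPlus 4 F)) K → pre (quadFormPlus 4 F) R ≤ subalgebraNormalizer K → False)
    (h2 : Nat.card F = 2 → orderOf (pj F x) = 15)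
    (h3 : Nat.card F = 3 → orderOf (pj F x) = 15 ∨ orderOf (pj F x) = 20) : False := by
  obtain ⟨m, n, hm, hn⟩ := hB.exists_pow h
  have hcyc := not_cyc h hx hy hsep hi hn
  have hcard := card_dvd_of_not_cyc h hcyc (R.pow_mem hy m) hm
  obtain ⟨g, hg, hgr, hgd⟩ := exists_four_pre h hF hcyc
  rcases geo hF h (pre_le (Q := quadFormPlus 4 F) (M := R)) (hcard.trans card_dvd_pre) hg hgr hgd hB (mem_pre8.2 hy) with
    ⟨P, hP, -⟩ | ⟨K, hK1, hK2, hK3⟩
  · obtain ⟨S, hSn, hSs, hna, hC, ⟨e⟩⟩ := H264.FKS.exists_res_plus le_rfl (M := R) hP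
    by_cases hL : IsLieTypeChar p (Soc P)
    · exact H659.O8.own_card hF h hR S hSs hna hC hP e hL hcard
    · rcases Nat.lt_or_ge (p ^ a) 4 with h4 | h4
      · have hq : 1 < Nat.card F := Finite.one_lt_card
        have hq2 : p ^ a = 2 ∨ p ^ a = 3 := by omega
        obtain ⟨rfl, rfl⟩ := h.small hq2
        have ha : a = 1 := by
          rcases h.cases with h1 | h1 | h1 <;> omega
        subst ha
        rw [pow_one] at hq2 hF
        have h25 : 25 ∣ Nat.card R := hcard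
        rcases hq2 with rfl | rfl
        · have o1 := h2 hF
          have o2 := hB.order_two hF
          refine hs2 hF R S hSn hSs hna hC P hP e hL _ _ hx hy o1 o2 (fun c j => hsep c 3 3 j ?_ ?_) h25
          · rw [orderOf_pow' _ (by norm_num), o1]; norm_num
          · rw [orderOf_pow' _ (by norm_num), o2]; norm_num
        · have o1 := h3 hF
          have o2 := hB.order_three hF
          refine hs3 hF R S hSn hSs hna hC P hP e hL _ _ hx hy o1 o2 (fun c j => hsep c (orderOf (pj F x) / 5) 4 j ?_ ?_) h25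
          · rcases o1 with o1 | o1 <;> rw [orderOf_pow' _ (by rw [o1]; norm_num), o1] <;> norm_num
          · rw [orderOf_pow' _ (by norm_num), o2]; norm_num
      · have := hP.simple
        exact H105.O8.cross_card hF h4 h S hSs hna hC hP e hL (hKn (Soc P)) hcard
  · exact hK K hK1 hK2 hK3

private theorem mapc67 {A B : Type*} [Group A] [Group B] (f : A →* B) (c x : A) :
    f (c * x * c⁻¹) = f c * f x * (f c)⁻¹ := by rw [map_mul, map_mul, map_inv]

/-- conjugates -/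
theorem exists_lift {R : Subgroup (T8 F)} {x : OO F} (h : ¬ Av (pj F x) R) : ∃ c : OO F, pj F (c * x * c⁻¹) ∈ R := by
  have hob_ := not_av h
  obtain ⟨g, hg⟩ := hob_
  have hob_ := pj_surjective g
  obtain ⟨c, rfl⟩ := hob_
  exact ⟨c, by rw [mapc67 (pj F) c x]; exact hg⟩

theorem vl_conj (c x : OO F) : vl F (c * x * c⁻¹) = vl F c * vl F x * (vl F c)⁻¹ := mapc67 (vl F) c x

theorem inc_AB (hKn : ∀ (X : Type) [Group X] [Finite X] [IsSimpleGroup X], Cfsg.IsKnownSimple' X)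
    (hs2 : SmallTwo F) (hs3 : SmallThree F) (hF : Nat.card F = p ^ a) (h : RB p a r b) {x y : OO F} {u w : GL I8 F} (hx : vl F x = u * w)
    (hA : TypeA u w r s) {X Y : Submodule F (I8 → F)} (hB : TypeB (vl F y) X Y r b) : Inc (pj F x) (pj F y) := by
  intro R hR
  by_contra hcon
  push Not at hcon
  obtain ⟨c, hc⟩ := exists_lift hcon.1
  obtain ⟨d, hd⟩ := exists_lift hcon.2
  have hB' := hB.conj (vl_iso d)
  rw [← vl_conj] at hB'
  have hA' := hA.conj (vl_iso c)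
  have hx' : vl F (c * x * c⁻¹) = vl F c * u * (vl F c)⁻¹ * (vl F c * w * (vl F c)⁻¹) := by
    simp only [vl_conj, hx]; group
  obtain ⟨n, hn1, hn2⟩ := hA'.exists_pow h hx'
  have hxH : vl F (c * x * c⁻¹) ∈ pre (quadFormPlus 4 F) R := mem_pre8.2 hc
  have hu : vl F c * u * (vl F c)⁻¹ ∈ pre (quadFormPlus 4 F) R := by
    rw [← hn1]
    exact Subgroup.pow_mem _ hxH n
  have hw : vl F c * w * (vl F c)⁻¹ ∈ pre (quadFormPlus 4 F) R := by
    have h1 : vl F c * w * (vl F c)⁻¹ = (vl F c * u * (vl F c)⁻¹)⁻¹ * vl F (c * x * c⁻¹) := by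
      simp only [hx']; group
    rw [h1]
    exact Subgroup.mul_mem _ (Subgroup.inv_mem _ hu) hxH
  refine main_pair hKn hs2 hs3 hF h hR hc hd (sep_AB h hF hx' hA' hB') hn2 hB' (fun K hK1 hK2 hK3 => ?_) (fun h2 => ?_) fun h3 => ?_
  · exact H781.O8.kill_field_A hF h hK1 hK2 pre_le hK3 hA' hu hw
  · have h5 := (h.small (Or.inl (hF ▸ h2))).1
    subst h5
    exact hA'.order_small hx' (Or.inl h2)
  · have h5 := (h.small (Or.inr (hF ▸ h3))).1
    subst h5
    exact Or.inl (hA'.order_small hx' (Or.inr h3))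

theorem inc_BB (hKn : ∀ (X : Type) [Group X] [Finite X] [IsSimpleGroup X], Cfsg.IsKnownSimple' X)
    (hs2 : SmallTwo F) (hs3 : SmallThree F) (hF : Nat.card F = p ^ a) (h : RB p a r b) {x y : OO F}
    (hx : TypeB (vl F x) (tr (rho F) (XX F)) (tr (rho F) (YY F)) r b) (hy : TypeB (vl F y) (XX F) (YY F) r b) :
    Inc (pj F x) (pj F y) := by
  intro R hR
  by_contra hcon
  push Not at hcon
  obtain ⟨c, hc⟩ := exists_lift hcon.1
  obtain ⟨d, hd⟩ := exists_lift hcon.2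
  have hx' := hx.conj (vl_iso c)
  have hy' := hy.conj (vl_iso d)
  simp only [← vl_conj] at hx' hy'
  have hodd : ∀ e : OO F, Odd (finrank F ↥(tr (vl F d) (XX F) ⊓ tr (vl F e) (tr (vl F c) (tr (rho F) (XX F))))) := by
    intro e
    have h1 := odd_inter (vl_mem (d⁻¹ * e * c))
    have h2 := finrank_tr (vl F d) (XX F ⊓ tr (vl F (d⁻¹ * e * c) * rho F) (XX F))
    rw [tr_inf, ← tr_mul, ← mul_assoc, ← (vl F).map_mul, show d * (d⁻¹ * e * c) = e * c by rw [mul_assoc, mul_inv_cancel_left]] at h2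
    rw [← tr_mul, ← tr_mul, ← (vl F).map_mul, h2]
    exact h1
  obtain ⟨m, n, -, hn⟩ := hx'.exists_pow h
  refine main_pair hKn hs2 hs3 hF h hR hc hd (sep_BB h hF hx' hy' hodd) hn hy' (fun K hK1 hK2 hK3 => ?_)
    (fun h2 => hx'.order_two h2) fun h3 => Or.inr (hx'.order_three h3)
  refine kill_field_B hK1 hK3 hy' hx' (mem_pre8.2 hd) (mem_pre8.2 hc) ?_
  have := hodd 1
  rwa [map_one, tr_one] at this

/-- **`PΩ⁺₈(q)` is not the union of the conjugates of two proper subgroups** (modulo the residual steps for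
`q = 2, 3`). -/
theorem noTwo_of (hKn : ∀ (X : Type) [Group X] [Finite X] [IsSimpleGroup X], Cfsg.IsKnownSimple' X) (F : Type) [Field F] [Fintype F]
    (hs2 : SmallTwo F) (hs3 : SmallThree F) : NoTwo (POmega F (quadFormPlus 4 F)) := by
  obtain ⟨p, hp⟩ := CharP.exists F
  obtain ⟨a, hpp, ha⟩ := FiniteField.card F p
  have hF : Nat.card F = p ^ (a : ℕ) := by rw [Nat.card_eq_fintype_card, ha]
  obtain ⟨r, b, h⟩ := H989.Cov.O8.exists_rb hpp a.pos
  obtain ⟨x, hx⟩ : ∃ x, TypeB (F := F) x (XX F) (YY F) r b := by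
    obtain ⟨x, h1, h2, h3, h4, h5, h6, h7, h8, h9, h10, h11⟩ :=
      H375.O8.exists_typeB_aux hF h.hp h.ha h.prim h.b1 h.dvd h.not_dvd (X := XX F) (Y := YY F)
        (fun _ => Iff.rfl) fun _ => Iff.rfl
    exact ⟨x, ⟨h1, h2, h3, h4, h5, h6, h7, h8, h9, h10, h11⟩⟩
  obtain ⟨u, w, s, hA⟩ : ∃ u w s, TypeA (F := F) u w r s := by
    obtain ⟨u, w, s, h1, h2, h3, h4, h5, h6, h7, h8, h9, h10, h11, h12⟩ :=
      H375.O8.exists_typeA_aux hF h.hp h.ha h.prim
    exact ⟨u, w, s, ⟨h1, h2, h3, h4, h5, h6, h7, h8, h9, h10, h11, h12⟩⟩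
  have hx3 := hx.conj rho_mem
  obtain ⟨x2, rfl⟩ := exists_vl hx.mem
  obtain ⟨x3, hx3'⟩ := exists_vl hx3.mem
  rw [← hx3'] at hx3
  -- `u w` lies in `Ω`
  have hodd : Odd (r * s) := (h.prim.prime.odd_of_ne_two (by have := h.five; omega)).mul hA.odd
  have hcom : Commute u w := hA.comm
  obtain ⟨x1, hx1⟩ : ∃ x1 : OO F, vl F x1 = u * w := by
    apply exists_vl
    have h1 : ∀ g ∈ isometryGroup F (⇑(quadPlus 4 F)), g ^ (r * s) = 1 → g ∈ omegaGL (⇑(quadPlus 4 F)) := by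
      intro g hg hgo
      obtain ⟨x, rfl⟩ := exists_omega (data_plus le_rfl) hg hodd hgo
      exact Subgroup.mem_map.2 ⟨x, x.2, rfl⟩
    rw [coe_quadPlus] at h1
    refine h1 _ (mul_mem hA.u_mem hA.w_mem) ?_
    rw [hcom.mul_pow, pow_mul, hA.u_pow, one_pow, one_mul, mul_comm, pow_mul, hA.w_pow, one_pow]
  exact noTwo_of_three (inc_AB hKn hs2 hs3 hF h hx1 hA hx) (inc_BB hKn hs2 hs3 hF h hx3 hx).symm (inc_AB hKn hs2 hs3 hF h hx1 hA hx3)

end

end Cfsg.Agent.H708.O8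
end
end

-- part: H325/Cov/CoreR
section
set_option linter.all false
open scoped Cfsg.Agent.FastGrp

/-!
# The simple normal subgroup, with an abstract elimination (helper325)

Variants of `H563.KG.exists_name` and `H563.KG.core`, in which the cross-characteristic elimination, the sporadic
elimination and the reducedness are hypotheses.
-/

set_option autoImplicit false

namespace Cfsg.Agent.H325.Cov

open Cfsg Cfsg.Agent.OrdDiv Cfsg.Agent.H436 Cfsg.Agent.H902 Cfsg.Agent.H902.Names Cfsg.Agent.H915.GN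
  Cfsg.Agent.H290.ElReg Cfsg.Agent.H264.FKS Cfsg.Agent.H56.Exc Cfsg.Agent.H325.Loc Cfsg.Agent.H563.KG

variable {n : ℕ} {Y : Art.Sh} {fam : List ℕ} {p f : ℕ} {M E : ℕ → ℕ}

/-- the elimination of the groups not of Lie type in characteristic `p` -/
structure ElimX (n : ℕ) (Y : Art.Sh) (fam : List ℕ) (p f : ℕ) : Prop where
  hn : n ≤ 248
  cross : ∀ {X : Art.Sh} {l a N : ℕ}, Art.Real X l a N → lb X (l ^ a) ≤ n → p ≠ l →
    (∀ e ∈ fam, ncl e (p ^ f) ∣ N) → N ∣ OL Y (p ^ f) → False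
  spor : ∀ {x : Grp × ℕ}, x ∈ OrdDiv.spor → (∀ e ∈ fam, ncl e (p ^ f) ∣ x.2) → x.2 ∣ OL Y (p ^ f) → False

theorem ElimX.of_tbl {cls : List ℕ} {e₀ : ℕ} (ht : Tbl n Y cls e₀) (hsub : ∀ c ∈ cls, c ∈ fam) (hp : p.Prime)
    (hf : 1 ≤ f) : ElimX n Y fam p f where
  hn := ht.hn
  cross hR hlb hpl hcls hd := no_cross ht.hn ht.hb ht.hs ht.he₀ ht.hmem ht.hle hR hlb hp hf hpl
    (fun e he => hcls e (hsub e he)) hd
  spor hx hcls hd := no_spor ht.hbS ht.hsS ht.he₀ ht.hmem ht.hle hx hp hf (fun e he => hcls e (hsub e he)) hd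

/-- **The name.** -/
theorem exists_nameX (tb : OrderTable.{0}) (hE : ElimX n Y fam p f)
    (hp : p.Prime) (hf : 1 ≤ f) {F : Type} [Field F] [CharP F p] {S : Type} [Group S] [Finite S] [IsSimpleGroup S]
    (hna : ¬ IsMulCommutative S) (hK : IsKnownSimple' S) (hrep : Fth n F S)
    (hcls : ∀ e ∈ fam, ncl e (p ^ f) ∣ Nat.card S) (hd : Nat.card S ∣ OL Y (p ^ f))
    {e e' : ℕ} (he : e ∈ fam) (he' : e' ∈ fam) (hcl : Cls e) (hcl' : Cls e') (he7 : 7 ≤ e) (he7' : 7 ≤ e')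
    (hd4 : ncl e (p ^ f) + 4 ≤ ncl e' (p ^ f) ∨ ncl e' (p ^ f) + 4 ≤ ncl e (p ^ f))
    (hcyc : ∀ r, Prim (p ^ f) e r ∨ Prim (p ^ f) e' r → ∀ x : S, orderOf x = r → IsCyclic ↥(Subgroup.centralizer {x})) :
    ∃ g, IsNamed g S ∧ HasChar p g := by
  have hna' : ¬ ∀ a b : S, a * b = b * a := fun h => hna ⟨⟨h⟩⟩
  have hq : 2 ≤ p ^ f := hp.two_le.trans (Nat.le_self_pow (by omega) p)
  obtain ⟨g, hgS⟩ := exists_named tb hK hna'
  rcases Cfsg.Agent.H192.Singer.cases_name hgS.cond with ⟨m, rfl⟩ | hsp | ⟨l, hl, hch⟩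
  · exfalso
    obtain ⟨Φ⟩ : Nonempty (S ≃* alternatingGroup (Fin m)) := hgS.real
    have hm : 5 ≤ m := hgS.cond
    have hnil : ∀ r, Prim (p ^ f) e r ∨ Prim (p ^ f) e' r → ∀ x : S, orderOf x = r →
        Group.IsNilpotent (Subgroup.centralizer ({x} : Set S)) := by
      intro r hr x hx
      have := hcyc r hr x hx
      let _ := IsCyclic.commGroup (α := ↥(Subgroup.centralizer ({x} : Set S)))
      infer_instance
    have h1 := window hq hcl he7 (by omega) Φ (hcls e he) fun r hr => hnil r (Or.inl hr)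
    have h2 := window hq hcl' he7' (by omega) Φ (hcls e' he') fun r hr => hnil r (Or.inr hr)
    omega
  · exfalso
    have h1 := Cfsg.Agent.H192.Singer.spor_mem hsp
    have h2 : Nat.card S = ordN g := hgS.ord
    exact hE.spor h1 (fun e he => by rw [← h2]; exact hcls e he) (by rw [← h2]; exact hd)
  · by_cases hpl : p = l
    · subst hpl
      exact ⟨g, hgS, hch⟩
    · exfalso
      obtain ⟨X, f₁, h1, h2, -⟩ := exists_lie hl hgS hch
      have hlF : (l : F) ≠ 0 := by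
        intro h
        exact hpl ((Nat.prime_dvd_prime_iff_eq hp hl).1 ((CharP.cast_eq_zero_iff F p l).1 h))
      have h3 := lb_le hna' hE.hn hrep h1 hgS.real h2 hlF
      exact hE.cross h2 h3 hpl hcls hd

/-- **The simple normal subgroup.** -/
theorem coreX (tb : OrderTable.{0}) (hcyc : CycFixSolv.{0})
    (hcfsg : ∀ (S : Type) [Group S] [Finite S] [IsSimpleGroup S], IsKnownSimple' S)
    (hX : ElimX n Y fam p f) {e e' : ℕ} (hee : e ∈ fam) (hee' : e' ∈ fam)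
    (hd4 : ncl e (p ^ f) + 4 ≤ ncl e' (p ^ f) ∨ ncl e' (p ^ f) + 4 ≤ ncl e (p ^ f))
    (hcl : ∀ c ∈ fam, Cls c) (h7 : ∀ c ∈ fam, 7 ≤ c)
    (hp : p.Prime) (hf : 1 ≤ f) {F : Type} [Field F] [CharP F p]
    {T : Type} [Group T] [Finite T] (hrep : Fth n F T) (hdT : Nat.card T ∣ OL Y (p ^ f))
    (hbig : ∀ c ∈ fam, ∀ r, Prim (p ^ f) c r → Big T r (M c) (E c))
    (hnT : ∀ c ∈ fam, ncl c (p ^ f) ∣ Nat.card T)
    {c₀ r₀ : ℕ} (hc₀ : c₀ ∈ fam) (hr₀ : Prim (p ^ f) c₀ r₀)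
    {B : Subgroup T} (hsep : ∀ c ∈ fam, ¬ Nat.card B ∣ E c * M c) (hoff : Off (p ^ f) fam B)
    (hred : Red ↥B (Pr (Fm (p ^ f) fam M E))) :
    ∃ (S : Subgroup B) (_ : S.Normal) (_ : IsSimpleGroup S), ¬ IsMulCommutative S ∧
      (∀ c ∈ fam, ncl c (p ^ f) ∣ Nat.card S) ∧ (∀ c ∈ fam, S.index ∣ E c * M c) ∧
      (∀ c ∈ fam, ∀ r, Prim (p ^ f) c r → Big S r (M c) (E c) ∧ ¬ r ∣ S.index ∧ r ∣ Nat.card S) ∧
      ∃ g, IsNamed g S ∧ HasChar p g := by
  have := Fact.mk hp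
  have hq2 : 2 ≤ p ^ f := hp.two_le.trans (Nat.le_self_pow (by omega) p)
  have hq1 : 1 ≤ p ^ f := by omega
  have hrf : RFam ↥B (Fm (p ^ f) fam M E) :=
    { big := by
        rintro r m e ⟨c, hc, h, rfl, rfl⟩
        exact (hbig c hc r h).subgroup B
      dvd := by
        rintro r m e ⟨c, hc, h, rfl, rfl⟩
        exact (dvd_ncl (hcl c hc) hq1 h).trans (hoff.ncl_dvd hc (hcl c hc) hq1 (hnT c hc))
      sep := by
        rintro r m e ⟨c, hc, h, rfl, rfl⟩
        exact hsep c hc }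
  obtain ⟨S, hSn, hSs, hSna, hS⟩ :=
    hrf.exists_full hcyc hred (r₁ := r₀) (m₁ := M c₀) (e₁ := E c₀) ⟨c₀, hc₀, hr₀, rfl, rfl⟩
  have hall : ∀ c ∈ fam, ∀ r, Prim (p ^ f) c r →
      Big S r (M c) (E c) ∧ r ∣ Nat.card S ∧ ¬ r ∣ S.index ∧ S.index ∣ E c * M c :=
    fun c hc r h => hS r (M c) (E c) ⟨c, hc, h, rfl, rfl⟩
  have hnS : ∀ c ∈ fam, ncl c (p ^ f) ∣ Nat.card S := by
    intro c hc
    have h1 := hoff.ncl_dvd hc (hcl c hc) hq1 (hnT c hc)
    rw [← S.index_mul_card] at h1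
    exact (coprime_of_prim (hcl c hc) hq1 fun r h => (hall c hc r h).2.2.1).dvd_of_dvd_mul_left h1
  have hSs' : IsSimpleGroup S := hSs
  refine ⟨S, hSn, hSs, hSna, hnS, fun c hc => ?_, fun c hc r h => ⟨(hall c hc r h).1, (hall c hc r h).2.2.1,
    (hall c hc r h).2.1⟩, ?_⟩
  · obtain ⟨r, hr⟩ := exists_prim hq2 (show 3 ≤ c by have := h7 c hc; omega) (by have := h7 c hc; omega)
    exact (hall c hc r hr).2.2.2
  · have hdS : Nat.card S ∣ OL Y (p ^ f) :=
      ((Subgroup.card_subgroup_dvd_card S).trans (Subgroup.card_subgroup_dvd_card B)).trans hdT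
    refine exists_nameX tb hX hp hf hSna (hcfsg S)
      ((hrep.sub B.subtype B.subtype_injective).sub S.subtype S.subtype_injective) hnS hdS
      hee hee' (hcl e hee) (hcl e' hee') (h7 e hee) (h7 e' hee') hd4 ?_
    · rintro r (h | h) x hx
      · exact (hall e hee r h).1.cyc x hx
      · exact (hall e' hee' r h).1.cyc x hx

/-- `Red` from `Good`, as in `H563.KG.core` -/
theorem red_good (hcyc : CycFixSolv.{0}) (hcl : ∀ c ∈ fam, Cls c)
    (hp : p.Prime) {F : Type} [Field F] [CharP F p]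
    {T : Type} [Group T] [Finite T] (hrep : Fth n F T)
    (hbig : ∀ c ∈ fam, ∀ r, Prim (p ^ f) c r → Big T r (M c) (E c))
    (hnT : ∀ c ∈ fam, ncl c (p ^ f) ∣ Nat.card T)
    {c₀ r₀ : ℕ} (hc₀ : c₀ ∈ fam) (hr₀ : Prim (p ^ f) c₀ r₀) (hpiso : PIso p r₀ T)
    {B : Subgroup T} (hoff : Off (p ^ f) fam B)
    (hgood : ∀ t : ℕ, t.Prime → t ≠ p → (∀ c ∈ fam, ¬ Prim (p ^ f) c t) → t ∣ Nat.card B → Good B n t) :
    Red ↥B (Pr (Fm (p ^ f) fam M E)) := by
  have := Fact.mk hp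
  have hq1 : 1 ≤ p ^ f := Nat.one_le_pow _ _ hp.pos
  obtain ⟨τ, hτ⟩ := hrep.sub B.subtype B.subtype_injective
  have hr₀B : r₀ ∣ Nat.card B :=
    (dvd_ncl (hcl c₀ hc₀) hq1 hr₀).trans (hoff.ncl_dvd hc₀ (hcl c₀ hc₀) hq1 (hnT c₀ hc₀))
  refine red_of hcyc hτ (fun A hA hAp => pcore_of_piso (hpiso.sub B) hr₀B A hA hAp)
    (pr_fm.2 ⟨c₀, hc₀, hr₀⟩) hr₀.prime hr₀B
    (fun x hx => ((hbig c₀ hc₀ r₀ hr₀).subgroup B).cyc x hx) fun t ht htp htn htB => ?_
  rw [Fintype.card_fin]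
  exact hgood t ht htp (fun c hc h => htn (pr_fm.2 ⟨c, hc, h⟩)) htB

end Cfsg.Agent.H325.Cov
end

-- part: H325/Cov/Tab7
section
prune_inst 0x10000000000000
set_option linter.all false
open scoped Cfsg.Agent.FastGrp

/-!
# Tables for `E₇(q)`: the pairs {9, 18}, {7, 14}, {14, 18} (helper325)
-/

set_option autoImplicit false
set_option exponentiation.threshold 700

namespace Cfsg.Agent.H325.Cov

open Cfsg Cfsg.Agent.OrdDiv Cfsg.Agent.H436 Cfsg.Agent.H902 Cfsg.Agent.H290.ElReg Cfsg.Agent.H290.ElTab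
  Cfsg.Agent.H290.ElCross Cfsg.Agent.H56.Exc Cfsg.Agent.H325.Loc Cfsg.Agent.H563.KG

private noncomputable def _root_.Cfsg.Agent.LsF.fb25c95_0 : {f // @Cfsg.Agent.H290.ElReg.lb = f} := ⟨_, by first | (delta Cfsg.Agent.H290.ElReg.lb; rewrite [Cfsg.Agent.LsF.nmul_pat, Cfsg.Agent.LsF.nsub_pat, Cfsg.Agent.LsF.ndiv_pat, Cfsg.Agent.LsF.nmod_pat, Cfsg.Agent.LsF.npow_pat, Cfsg.Agent.LsF.nmax_pat, Cfsg.Agent.LsF.instDecEq_eq, Cfsg.Agent.LsF.decLe_eq, Cfsg.Agent.LsF.ite_eq]; (try delta Cfsg.Agent.H290.ElReg.lb.match_1); (try delta Cfsg.Agent.H902.Art.Sh.casesOn); exact rfl) | exact rfl⟩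
private noncomputable def _root_.Cfsg.Agent.LsF.fb25c95_1 : {f // @Cfsg.Agent.H290.ElTab.qs = f} := ⟨_, by first | (delta Cfsg.Agent.H290.ElTab.qs; rewrite [Cfsg.Agent.LsF.nadd_pat, Cfsg.Agent.LsF.npow_pat, Cfsg.Agent.LsF.map_eq, Cfsg.Agent.LsF.flatMap_eq, Cfsg.Agent.LsF.filter_eq, Cfsg.Agent.LsF.range_eq]; exact rfl) | exact rfl⟩
private noncomputable def _root_.Cfsg.Agent.LsF.fb25c95_3 : {f // @Cfsg.Agent.H290.ElTab.reg = f} := ⟨_, by first | (delta Cfsg.Agent.H290.ElTab.reg Cfsg.Agent.H902.Art.instDecidableOk Cfsg.Agent.H902.Art.Ok; rewrite [Cfsg.Agent.LsF.fb25c95_0.2, Cfsg.Agent.LsF.fb25c95_1.2, Cfsg.Agent.LsF.npow_pat, Cfsg.Agent.LsF.and_eq, Cfsg.Agent.LsF.instDecEq_eq, Cfsg.Agent.LsF.decLe_eq, Cfsg.Agent.LsF.map_eq, Cfsg.Agent.LsF.flatMap_eq, Cfsg.Agent.LsF.filter_eq, Cfsg.Agent.LsF.dAnd_eq, Cfsg.Agent.LsF.dAllP_eq, Cfsg.Agent.LsF.decide_eq]; (try delta Cfsg.Agent.H902.Art.Ok.match_1); (try delta Cfsg.Agent.H902.Art.Sh.casesOn);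 exact rfl) | exact rfl⟩
private noncomputable def _root_.Cfsg.Agent.LsF.fb25c95_4 : {f // @Cfsg.Agent.H563.KG.Ph = f} := ⟨_, by first | (delta Cfsg.Agent.H563.KG.Ph; rewrite [Cfsg.Agent.LsF.nadd_pat, Cfsg.Agent.LsF.nsub_pat, Cfsg.Agent.LsF.npow_pat]; (try delta Cfsg.Agent.H563.KG.Ph.match_1); (try rewrite [Cfsg.Agent.LsF.instDecEq_eq, Cfsg.Agent.LsF.dite_eq]); exact rfl) | exact rfl⟩
private noncomputable def _root_.Cfsg.Agent.LsF.fb25c95_5 : {f // @Cfsg.Agent.H563.KG.cc = f} := ⟨_, by first | (delta Cfsg.Agent.H563.KG.cc; (try delta Cfsg.Agent.H563.KG.cc.match_1); (try rewrite [Cfsg.Agent.LsF.instDecEq_eq, Cfsg.Agent.LsF.dite_eq]); exact rfl) | exact rfl⟩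
private noncomputable def _root_.Cfsg.Agent.LsF.fb25c95_6 : {f // @Cfsg.Agent.H563.KG.ncl = f} := ⟨_, by first | (delta Cfsg.Agent.H563.KG.ncl; rewrite [Cfsg.Agent.LsF.fb25c95_4.2, Cfsg.Agent.LsF.fb25c95_5.2, Cfsg.Agent.LsF.ndiv_pat]; exact rfl) | exact rfl⟩
private noncomputable def _root_.Cfsg.Agent.LsF.fb25c95_7 : {f // @Cfsg.Agent.H902.Art.NN = f} := ⟨_, by first | (delta Cfsg.Agent.H902.Art.NN; rewrite [Cfsg.Agent.LsF.nmul_pat, Cfsg.Agent.LsF.nsub_pat, Cfsg.Agent.LsF.ndiv_pat, Cfsg.Agent.LsF.npow_pat]; (try delta Cfsg.Agent.H902.Art.NN.match_1); (try delta Cfsg.Agent.H902.Art.Sh.casesOn); exact rfl) | exact rfl⟩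
private noncomputable def _root_.Cfsg.Agent.LsF.fb25c95_8 : {f // @Cfsg.Agent.H902.Art.num = f} := ⟨_, by first | (delta Cfsg.Agent.H902.Art.num; rewrite [Cfsg.Agent.LsF.nadd_pat, Cfsg.Agent.LsF.nmul_pat, Cfsg.Agent.LsF.nsub_pat, Cfsg.Agent.LsF.npow_pat, Cfsg.Agent.LsF.fprod_eq, Cfsg.Agent.LsF.frange_eq, Cfsg.Agent.LsF.ite_eq]; (try delta Cfsg.Agent.H902.Art.num.match_1); (try delta Cfsg.Agent.H902.Art.Sh.casesOn); exact rfl) | exact rfl⟩
private noncomputable def _root_.Cfsg.Agent.LsF.fb25c95_9 : {f // @Cfsg.Agent.H290.ElTab.numL = f} := ⟨_, by first | (delta Cfsg.Agent.H290.ElTab.numL; rewrite [Cfsg.Agent.LsF.fb25c95_8.2, Cfsg.Agent.LsF.nadd_pat, Cfsg.Agent.LsF.nmul_pat, Cfsg.Agent.LsF.nsub_pat, Cfsg.Agent.LsF.nmod_pat, Cfsg.Agent.LsF.npow_pat, Cfsg.Agent.LsF.instDecEq_eq, Cfsg.Agent.LsF.map_eq, Cfsg.Agent.LsF.range_eq, Cfsg.Agent.LsF.prod_eq, Cfsg.Agent.LsF.ite_eq]; (try delta Cfsg.Agent.H290.ElTab.numL.match_1);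 (try delta Cfsg.Agent.H290.ElTab.numL._sparseCasesOn_1); exact rfl) | exact rfl⟩
private noncomputable def _root_.Cfsg.Agent.LsF.fb25c95_10 : {f // @Cfsg.Agent.H563.KG.OL = f} := ⟨_, by first | (delta Cfsg.Agent.H563.KG.OL; rewrite [Cfsg.Agent.LsF.fb25c95_7.2, Cfsg.Agent.LsF.fb25c95_9.2, Cfsg.Agent.LsF.nmul_pat, Cfsg.Agent.LsF.npow_pat]; exact rfl) | exact rfl⟩
private noncomputable def _root_.Cfsg.Agent.LsF.fb25c95_11 : {f // @Cfsg.Agent.H563.KG.tq = f} := ⟨_, by first | (delta Cfsg.Agent.H563.KG.tq; rewrite [Cfsg.Agent.LsF.fb25c95_6.2, Cfsg.Agent.LsF.fb25c95_10.2, Cfsg.Agent.LsF.nmul_pat, Cfsg.Agent.LsF.nmod_pat, Cfsg.Agent.LsF.nbeq_pat, Cfsg.Agent.LsF.and_eq, Cfsg.Agent.LsF.all_eq]; exact rfl) | exact rfl⟩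
private noncomputable def _root_.Cfsg.Agent.LsF.fb25c95_12 : {f // @Cfsg.Agent.H902.Art.dd = f} := ⟨_, by first | (delta Cfsg.Agent.H902.Art.dd; rewrite [Cfsg.Agent.LsF.nadd_pat, Cfsg.Agent.LsF.nsub_pat, Cfsg.Agent.LsF.npow_pat]; (try delta Cfsg.Agent.H902.Art.dd.match_1); (try delta Cfsg.Agent.H902.Art.dd._sparseCasesOn_1); exact rfl) | exact rfl⟩
private noncomputable def _root_.Cfsg.Agent.LsF.fb25c95_13 : {f // @Cfsg.Agent.H563.KG.svR = f} := ⟨_, by first | (delta Cfsg.Agent.H563.KG.svR; rewrite [Cfsg.Agent.LsF.fb25c95_3.2, Cfsg.Agent.LsF.fb25c95_11.2, Cfsg.Agent.LsF.fb25c95_10.2, Cfsg.Agent.LsF.fb25c95_12.2, Cfsg.Agent.LsF.npow_pat, Cfsg.Agent.LsF.nbeq_pat, Cfsg.Agent.LsF.or_eq, Cfsg.Agent.LsF.not_eq, Cfsg.Agent.LsF.all_eq]; exact rfl) | exact rfl⟩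
theorem svR_E7c : svR 133 .E7 [18, 9] = true := by ((try (rewrite [Cfsg.Agent.LsF.fb25c95_13.2])); decide +kernel)
theorem svS_E7c : svS .E7 [18, 9] = true := by decide +kernel
theorem svR_E7d : svR 133 .E7 [7, 14] = true := by decide +kernel
theorem svS_E7d : svS .E7 [7, 14] = true := by decide +kernel
theorem bndS_7 : bndS 7 = true := by decide +kernel

/-- the bound, class 7 -/
def bndR7 : Bool := (reg 133).all fun x =>
  Nat.blt (OL x.1 (x.2.1 ^ x.2.2)) (2 ^ 600) &&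
    (Nat.ble (De (pd (NS x.1 x.2.1 x.2.2)) (OL x.1 (x.2.1 ^ x.2.2)) 7) 2701 ||
      (x.2.1 == 2 && Nat.ble (De (pd (NS x.1 x.2.1 x.2.2)) (OL x.1 (x.2.1 ^ x.2.2)) 7) 416179))

private noncomputable def _root_.Cfsg.Agent.LsF.fb25c95_14 : {f // @Cfsg.Agent.H563.KG.De = f} := ⟨_, by first | (delta Cfsg.Agent.H563.KG.De; rewrite [Cfsg.Agent.LsF.nsub_pat, Cfsg.Agent.LsF.nmod_pat, Cfsg.Agent.LsF.npow_pat, Cfsg.Agent.LsF.nbeq_pat, Cfsg.Agent.LsF.map_eq, Cfsg.Agent.LsF.filter_eq, Cfsg.Agent.LsF.prod_eq]; exact rfl) | exact rfl⟩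
private noncomputable def _root_.Cfsg.Agent.LsF.fb25c95_15 : {f // @Cfsg.Agent.H290.ElTab.pd = f} := ⟨_, by first | (delta Cfsg.Agent.H290.ElTab.pd; rewrite [Cfsg.Agent.LsF.nmod_pat, Cfsg.Agent.LsF.nbeq_pat, Cfsg.Agent.LsF.filter_eq]; exact rfl) | exact rfl⟩
private noncomputable def _root_.Cfsg.Agent.LsF.fb25c95_16 : {f // @Cfsg.Agent.H290.ElTab.NS = f} := ⟨_, by first | (delta Cfsg.Agent.H290.ElTab.NS; rewrite [Cfsg.Agent.LsF.fb25c95_9.2, Cfsg.Agent.LsF.nmul_pat, Cfsg.Agent.LsF.npow_pat]; exact rfl) | exact rfl⟩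
private noncomputable def _root_.Cfsg.Agent.LsF.fb25c95_17 : {f // @Cfsg.Agent.H325.Cov.bndR7 = f} := ⟨_, by first | (delta Cfsg.Agent.H325.Cov.bndR7; rewrite [Cfsg.Agent.LsF.fb25c95_3.2, Cfsg.Agent.LsF.fb25c95_10.2, Cfsg.Agent.LsF.fb25c95_14.2, Cfsg.Agent.LsF.fb25c95_15.2, Cfsg.Agent.LsF.fb25c95_16.2, Cfsg.Agent.LsF.npow_pat, Cfsg.Agent.LsF.nbeq_pat, Cfsg.Agent.LsF.and_eq, Cfsg.Agent.LsF.or_eq, Cfsg.Agent.LsF.all_eq]; exact rfl) | exact rfl⟩
theorem bndR7_true : bndR7 = true := by ((try (rewrite [Cfsg.Agent.LsF.fb25c95_17.2])); decide +kernel)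

theorem le_seven7 {q : ℕ} (h : ncl 7 q ≤ 2701) : q ≤ 7 := by
  by_contra hq
  have h1 : 8 ^ 6 ≤ q ^ 6 := Nat.pow_le_pow_left (by omega) 6
  have h2 := Ph_le 7 q (by decide)
  have h3 : cc 7 = 7 := rfl
  have h4 : Ph 7 q = q ^ 6 + q ^ 5 + q ^ 4 + q ^ 3 + q ^ 2 + q + 1 := rfl
  rw [h3] at h2
  norm_num at h1
  omega

theorem le_eight7 {q : ℕ} (h : ncl 7 q ≤ 416179) : q ≤ 8 := by
  by_contra hq
  rcases Nat.lt_or_ge q 12 with h5 | h5
  · have h6 : q = 9 ∨ q = 10 ∨ q = 11 := by omega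
    rcases h6 with rfl | rfl | rfl
    · exact absurd h (by decide +kernel)
    · exact absurd h (by decide +kernel)
    · exact absurd h (by decide +kernel)
  · have h1 : 12 ^ 6 ≤ q ^ 6 := Nat.pow_le_pow_left h5 6
    have h1' : 12 ^ 5 ≤ q ^ 5 := Nat.pow_le_pow_left h5 5
    have h2 := Ph_le 7 q (by decide)
    have h3 : cc 7 = 7 := rfl
    have h4 : Ph 7 q = q ^ 6 + q ^ 5 + q ^ 4 + q ^ 3 + q ^ 2 + q + 1 := rfl
    rw [h3] at h2
    norm_num at h1 h1'
    omega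

/-- **Cross characteristic, the classes 7, 14 of `E₇(q)`.** -/
theorem no_cross7 {p f : ℕ} {X : Art.Sh} {l a N : ℕ}
    (hR : Art.Real X l a N) (hlb : lb X (l ^ a) ≤ 133) (hp : p.Prime) (hf : 1 ≤ f) (hpl : p ≠ l)
    (hcls : ∀ e ∈ [7, 14], ncl e (p ^ f) ∣ N) (hd : N ∣ OL .E7 (p ^ f)) : False := by
  obtain ⟨hl, ha, hokX, heq⟩ := hR
  have hq : 2 ≤ p ^ f := hp.two_le.trans (Nat.le_self_pow (by omega) p)
  have hreg := mem_reg (by norm_num) hl ha hokX hlb
  have hs' : smooth (NA X l a) = true :=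
    List.all_eq_true.1 smooth_reg (X, (l, a)) (mem_reg le_rfl hl ha hokX (hlb.trans (by norm_num)))
  have hsS : smooth (NS X l a) = true := by
    have h1 : NS X l a ∣ NA X l a := Dvd.intro_left _ rfl
    have h2 : NA X l a ∣ prs.prod ^ 100 := Nat.dvd_of_mod_eq_zero (by simpa [smooth] using hs')
    simpa [smooth] using Nat.mod_eq_zero_of_dvd (h1.trans h2)
  have hM : OL X (l ^ a) = Art.dd X (l ^ a) * N := by unfold OL; rw [numL_eq]; exact heq.symm
  have hNM : N ∣ OL X (l ^ a) := Dvd.intro_left _ hM.symm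
  have hNS : ∀ r, r.Prime → r ∣ N → r ∣ NS X l a := by
    intro r hr h
    unfold NS
    have h1 : r ∣ (l ^ a) ^ Art.NN X * numL X (l ^ a) := h.trans hNM
    rcases hr.dvd_mul.1 h1 with h2 | h2
    · exact (hr.dvd_of_dvd_pow (hr.dvd_of_dvd_pow h2)).mul_right _
    · exact h2.mul_left _
  have hb' := List.all_eq_true.1 bndR7_true (X, (l, a)) hreg
  simp only [Bool.and_eq_true, Bool.or_eq_true, Nat.ble_eq, Nat.blt_eq, beq_iff_eq] at hb'
  have hM0 : OL X (l ^ a) ≠ 0 := by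
    intro h0
    have h3 : l ^ a ≠ 0 := pow_ne_zero _ hl.ne_zero
    have h4 : NS X l a ≠ 0 := by
      intro h5
      have h6 : NS X l a ∣ prs.prod ^ 100 := Nat.dvd_of_mod_eq_zero (by simpa [smooth] using hsS)
      rw [h5] at h6
      have h7 := Nat.eq_zero_of_zero_dvd h6
      have h8 : prs.prod ≠ 0 := by decide +kernel
      exact pow_ne_zero 100 h8 h7
    apply h4
    unfold OL at h0
    rcases Nat.mul_eq_zero.1 h0 with h5 | h5
    · exact absurd h5 (pow_ne_zero _ h3)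
    · unfold NS
      rw [h5, mul_zero]
  have h1 : ncl 7 (p ^ f) ∣ De (pd (NS X l a)) (OL X (l ^ a)) 7 := by
    refine dvd_De hM0 hb'.1 ((hcls 7 (by decide)).trans hNM) fun r hr hrd => ?_
    have hprim := prim_of_dvd c7 (by omega) hr hrd
    exact ⟨mem_pd hsS hr (hNS r hr (hrd.trans (hcls 7 (by decide)))), mod_of_prim hq (by norm_num) hprim⟩
  have h3 : De (pd (NS X l a)) (OL X (l ^ a)) 7 ≠ 0 := by
    unfold De
    intro h4
    rw [List.prod_eq_zero_iff, List.mem_map] at h4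
    obtain ⟨r, -, h5⟩ := h4
    exact hM0 (Nat.eq_zero_of_gcd_eq_zero_left h5)
  have h4 := Nat.le_of_dvd (Nat.pos_of_ne_zero h3) h1
  have h5 : p ^ f ≤ 7 := by
    rcases hb'.2 with h6 | ⟨h6, h7⟩
    · exact le_seven7 (h4.trans h6)
    · have h8 := le_eight7 (h4.trans h7)
      rcases Nat.lt_or_ge (p ^ f) 8 with h9 | h9
      · omega
      · exfalso
        have h10 : p ^ f = 2 ^ 3 := by omega
        have h11 : p ∣ 2 ^ 3 := h10 ▸ dvd_pow_self p (by omega)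
        have h12 := (Nat.prime_dvd_prime_iff_eq hp Nat.prime_two).1 (hp.dvd_of_dvd_pow h11)
        exact hpl (h12.trans h6.symm)
  have h6 := mem_sm hp hf h5
  have h7 := List.all_eq_true.1 (List.all_eq_true.1 svR_E7d (X, (l, a)) hreg) _ h6
  rw [tq_of (fun e he => (hcls e he).trans hNM) hM hd] at h7
  simp at h7
  exact hpl h7

theorem no_spor7 {p f : ℕ} {x : Grp × ℕ} (hx : x ∈ Cfsg.Agent.OrdDiv.spor) (hp : p.Prime) (hf : 1 ≤ f)
    (hcls : ∀ e ∈ [7, 14], ncl e (p ^ f) ∣ x.2) (hd : x.2 ∣ OL .E7 (p ^ f)) : False :=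
  no_spor bndS_7 svS_E7d c7 (by decide) (fun _ => le_seven7) hx hp hf hcls hd

theorem elimX_714 {p f : ℕ} (hp : p.Prime) (hf : 1 ≤ f) : ElimX 133 .E7 [7, 14] p f where
  hn := by norm_num
  cross hR hlb hpl hcls hd := no_cross7 hR hlb hp hf hpl hcls hd
  spor hx hcls hd := no_spor7 hx hp hf hcls hd

theorem tbl_E7c : Tbl 133 .E7 [18, 9] 18 where
  hn := by norm_num
  hb := bndR_133_18
  hs := svR_E7c
  hbS := bndS_18
  hsS := svS_E7c
  he₀ := c18
  hmem := by decide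
  hle := fun _ h => (le_four18 h).trans (by norm_num)

theorem tbl_E7e : Tbl 133 .E7 [18, 14] 18 where
  hn := by norm_num
  hb := bndR_133_18
  hs := svR_E7
  hbS := bndS_18
  hsS := svS_E7
  he₀ := c18
  hmem := by decide
  hle := fun _ h => (le_four18 h).trans (by norm_num)

/-! ### distances -/

theorem dist_7_14 {q : ℕ} (hq : 2 ≤ q) : ncl 7 q + 4 ≤ ncl 14 q ∨ ncl 14 q + 4 ≤ ncl 7 q := by
  have e1 : cc 7 = 7 := rfl
  have e2 : cc 14 = 7 := rfl
  have p1 : Ph 7 q = q ^ 6 + q ^ 5 + q ^ 4 + q ^ 3 + q ^ 2 + q + 1 := rfl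
  have p2 : Ph 14 q = (q ^ 6 + q ^ 4 + q ^ 2 + 1) - (q ^ 5 + q ^ 3 + q) := rfl
  rcases eq_or_lt_of_le hq with rfl | hq3
  · decide +kernel
  obtain ⟨k, rfl⟩ := Nat.exists_eq_add_of_le' (show 3 ≤ q from hq3)
  have a0 : (k + 3) ^ 5 + (k + 3) ^ 3 + (k + 3) ≤ (k + 3) ^ 6 + (k + 3) ^ 4 + (k + 3) ^ 2 + 1 := by ring_nf; omega
  have a1 : 28 ≤ 2 * ((k + 3) ^ 5 + (k + 3) ^ 3 + (k + 3)) := by ring_nf; omega
  have a3 : ((k + 3) ^ 6 + (k + 3) ^ 5 + (k + 3) ^ 4 + (k + 3) ^ 3 + (k + 3) ^ 2 + (k + 3) + 1) +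
      7 * ((k + 3) ^ 5 + (k + 3) ^ 3 + (k + 3)) + 28 ≤
      7 * ((k + 3) ^ 6 + (k + 3) ^ 4 + (k + 3) ^ 2 + 1) := by ring_nf; omega
  rcases ncl_or (e := 7) (q := k + 3) (by norm_num [cc]) with h1 | h1 <;>
    rcases ncl_or (e := 14) (q := k + 3) (by norm_num [cc]) with h2 | h2 <;>
    rw [p1] at h1 <;> rw [p2] at h2 <;> (try rw [e1] at h1) <;> (try rw [e2] at h2) <;> omega

theorem dist_9_18 {q : ℕ} (hq : 2 ≤ q) : ncl 9 q + 4 ≤ ncl 18 q ∨ ncl 18 q + 4 ≤ ncl 9 q := by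
  have e1 : cc 9 = 3 := rfl
  have e2 : cc 18 = 3 := rfl
  have p1 : Ph 9 q = q ^ 6 + q ^ 3 + 1 := rfl
  have p2 : Ph 18 q = (q ^ 6 + 1) - q ^ 3 := rfl
  rcases eq_or_lt_of_le hq with rfl | hq3
  · decide +kernel
  obtain ⟨k, rfl⟩ := Nat.exists_eq_add_of_le' (show 3 ≤ q from hq3)
  have a0 : (k + 3) ^ 3 ≤ (k + 3) ^ 6 := by ring_nf; omega
  have a1 : 12 ≤ (k + 3) ^ 3 := by ring_nf; omega
  have a3 : ((k + 3) ^ 6 + (k + 3) ^ 3 + 1) + 3 * (k + 3) ^ 3 + 12 ≤ 3 * ((k + 3) ^ 6 + 1) := by ring_nf; omega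
  rcases ncl_or (e := 9) (q := k + 3) (by norm_num [cc]) with h1 | h1 <;>
    rcases ncl_or (e := 18) (q := k + 3) (by norm_num [cc]) with h2 | h2 <;>
    rw [p1] at h1 <;> rw [p2] at h2 <;> (try rw [e1] at h1) <;> (try rw [e2] at h2) <;> omega

theorem dist_14_18 {q : ℕ} (hq : 2 ≤ q) : ncl 14 q + 4 ≤ ncl 18 q ∨ ncl 18 q + 4 ≤ ncl 14 q := by
  have e1 : cc 14 = 7 := rfl
  have e2 : cc 18 = 3 := rfl
  have p1 : Ph 14 q = (q ^ 6 + q ^ 4 + q ^ 2 + 1) - (q ^ 5 + q ^ 3 + q) := rfl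
  have p2 : Ph 18 q = (q ^ 6 + 1) - q ^ 3 := rfl
  rcases eq_or_lt_of_le hq with rfl | hq3
  · decide +kernel
  obtain ⟨k, rfl⟩ := Nat.exists_eq_add_of_le' (show 3 ≤ q from hq3)
  have a0 : (k + 3) ^ 5 + (k + 3) ^ 3 + (k + 3) ≤ (k + 3) ^ 6 + (k + 3) ^ 4 + (k + 3) ^ 2 + 1 := by ring_nf; omega
  have a1 : (k + 3) ^ 3 ≤ (k + 3) ^ 6 := by ring_nf; omega
  have a2 : (k + 3) ^ 6 + (k + 3) ^ 4 + (k + 3) ^ 2 + 1 + (k + 3) ^ 3 + 4 ≤ ((k + 3) ^ 6 + 1) +
      ((k + 3) ^ 5 + (k + 3) ^ 3 + (k + 3)) := by ring_nf; omega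
  have a3 : 3 * ((k + 3) ^ 6 + (k + 3) ^ 4 + (k + 3) ^ 2 + 1) + 84 + 7 * (k + 3) ^ 3 ≤
      7 * ((k + 3) ^ 6 + 1) + 3 * ((k + 3) ^ 5 + (k + 3) ^ 3 + (k + 3)) := by ring_nf; omega
  have a4 : (k + 3) ^ 6 + 1 + 3 * ((k + 3) ^ 5 + (k + 3) ^ 3 + (k + 3)) + 12 ≤
      3 * ((k + 3) ^ 6 + (k + 3) ^ 4 + (k + 3) ^ 2 + 1) + (k + 3) ^ 3 := by ring_nf; omega
  rcases ncl_or (e := 14) (q := k + 3) (by norm_num [cc]) with h1 | h1 <;>
    rcases ncl_or (e := 18) (q := k + 3) (by norm_num [cc]) with h2 | h2 <;>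
    rw [p1] at h1 <;> rw [p2] at h2 <;> (try rw [e1] at h1) <;> (try rw [e2] at h2) <;> omega

end Cfsg.Agent.H325.Cov
end

-- part: H325/Same/ExcCov7
section
prune_inst 0x42004407462000000008092132020247000059000200401fda30d42090ff32280c021004e801c07524c32811801002003100050420000000a20300000020000002ad20433740f04080016803087180c00000000000000000000000000051004000000000
set_option linter.all false
open scoped Cfsg.Agent.FastGrp

/-!
# Simple groups of Lie type in characteristic `p` containing two classes of tori of `E_7(q)`, `E_8(q)` (helper325)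

`E_8`: {24,30}, {20,30}; `E_7`: {14,18}, {9,18} and a prime of class 5, {7,14} and a prime of class 5.
-/

set_option autoImplicit false
set_option linter.unreachableTactic false
set_option linter.unusedTactic false
set_option maxHeartbeats 4000000

namespace Cfsg.Agent.H325.Same

open Cfsg.Agent.OrdDiv Cfsg.Agent.H436 Cfsg.Agent.H915.GN Cfsg.Agent.H264.GN Cfsg.Agent.H264.FKS

variable {p f c : ℕ} {g : Grp}

theorem elimP_e7_14_18 (hg : Cond g) (hch : HasChar p g) {i : ℕ} (hi : i ∈ [2, 6, 8, 10, 12, 14, 18]) (hei : 18 ≤ i)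
    (h2 : ag g * i ≤ 63 * Mg g) (h1 : ∃ x, Xg g x ∧ 14 * Mg g ∣ i * x) (h3 : ∃ x, Xg g x ∧ 18 * Mg g ∣ i * x)
    (hY : ∀ k, (k = 4 ∨ k = 5 ∨ 7 ≤ k) → Yg g k → ∃ j, j ∈ [2, 6, 8, 10, 12, 14, 18] ∧ i * k ∣ Mg g * j) :
    (i = 18 ∧ ∃ q, g = .psu 9 q) ∨ (i = 18 ∧ ∃ q, g = .psu 10 q) ∨ (i = 18 ∧ ∃ q, g = .e7 q) := by
  obtain ⟨x, hx, hxd⟩ := h1
  obtain ⟨y, hy, hyd⟩ := h3
  have hi2 : i = 18 := by
    simp only [List.mem_cons, List.not_mem_nil, or_false] at hi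
    omega
  clear hi hei
  rcases hi2 with rfl
  · have h2' : 2 * ag g ≤ 7 * Mg g := by omega
    clear h2
    cases g
    case psl m q =>
      obtain ⟨hm, -, -⟩ := hg
      have hb := bd_psl (ρ := 7) (by omega) h2'
      have hx' : 1 ≤ x ∧ x ≤ m := hx
      have hy' : 1 ≤ y ∧ y ≤ m := hy
      have hxd' : 14 * m ∣ 18 * x := hxd
      have hyd' : 18 * m ∣ 18 * y := hyd
      clear hx hy hxd hyd h2' hch hY
      interval_cases m <;> first | (exfalso; (solve | lia | omega)) | exact Or.inl ⟨rfl, q, rfl⟩ | exact Or.inr (Or.inl ⟨rfl, q, rfl⟩) | exact Or.inr (Or.inr (⟨rfl, q, rfl⟩))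
    case psp m q =>
      obtain ⟨hm, -, -⟩ := hg
      have hb := bd_psp (ρ := 7) (by omega) h2'
      have hx' : 1 ≤ x ∧ x ≤ 2 * m ∧ 2 ∣ x := hx
      have hy' : 1 ≤ y ∧ y ≤ 2 * m ∧ 2 ∣ y := hy
      have hxd' : 14 * (2 * m) ∣ 18 * x := hxd
      have hyd' : 18 * (2 * m) ∣ 18 * y := hyd
      clear hx hy hxd hyd h2' hch hY
      interval_cases m <;> first | (exfalso; (solve | lia | omega)) | exact Or.inl ⟨rfl, q, rfl⟩ | exact Or.inr (Or.inl ⟨rfl, q, rfl⟩) | exact Or.inr (Or.inr (⟨rfl, q, rfl⟩))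
    case oodd m q =>
      obtain ⟨hm, -, -⟩ := hg
      have hb := bd_psp (ρ := 7) (by omega) h2'
      have hx' : 1 ≤ x ∧ x ≤ 2 * m ∧ 2 ∣ x := hx
      have hy' : 1 ≤ y ∧ y ≤ 2 * m ∧ 2 ∣ y := hy
      have hxd' : 14 * (2 * m) ∣ 18 * x := hxd
      have hyd' : 18 * (2 * m) ∣ 18 * y := hyd
      clear hx hy hxd hyd h2' hch hY
      interval_cases m <;> first | (exfalso; (clear * - hx' hxd'; (solve | lia | omega))) | exact Or.inl ⟨rfl, q, rfl⟩ | exact Or.inr (Or.inl ⟨rfl, q, rfl⟩) | exact Or.inr (Or.inr (⟨rfl, q, rfl⟩))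
    case psu m q =>
      obtain ⟨hm, -, -⟩ := hg
      have hb := bd_psu (ρ := 7) hm h2'
      have hx' : (1 ≤ x ∧ x ≤ m ∧ 2 ∣ x) ∨ ∃ j, x = 2 * j ∧ j ≤ m ∧ j % 2 = 1 := hx
      have hy' : (1 ≤ y ∧ y ≤ m ∧ 2 ∣ y) ∨ ∃ j, y = 2 * j ∧ j ≤ m ∧ j % 2 = 1 := hy
      obtain ⟨k, hk⟩ : ∃ k, k = (if m % 2 = 0 then m - 1 else m) := ⟨_, rfl⟩
      have hk' : (m % 2 = 0 ∧ k = m - 1) ∨ (m % 2 = 1 ∧ k = m) := by
        rw [hk]
        split_ifs <;> omega
      have hM : Mg (.psu m q) = 2 * k := by rw [hk]; rfl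
      have hxd' : 14 * (2 * k) ∣ 18 * x := hM ▸ hxd
      have hyd' : 18 * (2 * k) ∣ 18 * y := hM ▸ hyd
      clear hx hy hxd hyd h2' hch hY hM hk
      rcases hk' with ⟨hk1, hk2⟩ | ⟨hk1, hk2⟩ <;> rcases hx' with hx' | ⟨j, rfl, hx'⟩ <;>
        rcases hy' with hy' | ⟨l, rfl, hy'⟩ <;> interval_cases m <;> subst hk2 <;> first | (exfalso; (solve | lia | omega)) | exact Or.inl ⟨rfl, q, rfl⟩ | exact Or.inr (Or.inl ⟨rfl, q, rfl⟩) | exact Or.inr (Or.inr (⟨rfl, q, rfl⟩))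
    case oplus m q =>
      obtain ⟨hm, -⟩ := hg
      have hb := bd_oplus (ρ := 7) (by omega) h2'
      have hx' : 1 ≤ x ∧ x ≤ 2 * (m - 1) ∧ (2 ∣ x ∨ x = m) := hx
      have hy' : 1 ≤ y ∧ y ≤ 2 * (m - 1) ∧ (2 ∣ y ∨ y = m) := hy
      have hxd' : 14 * (2 * (m - 1)) ∣ 18 * x := hxd
      have hyd' : 18 * (2 * (m - 1)) ∣ 18 * y := hyd
      clear hx hy hxd hyd h2' hch hY
      interval_cases m <;> first | (exfalso; (solve | lia | omega)) | exact Or.inl ⟨rfl, q, rfl⟩ | exact Or.inr (Or.inl ⟨rfl, q, rfl⟩) | exact Or.inr (Or.inr (⟨rfl, q, rfl⟩))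
    case ominus m q =>
      obtain ⟨hm, -⟩ := hg
      have hb := bd_ominus (ρ := 7) (by omega) h2'
      have hx' : 1 ≤ x ∧ x ≤ 2 * m ∧ 2 ∣ x := hx
      have hy' : 1 ≤ y ∧ y ≤ 2 * m ∧ 2 ∣ y := hy
      have hxd' : 14 * (2 * m) ∣ 18 * x := hxd
      have hyd' : 18 * (2 * m) ∣ 18 * y := hyd
      clear hx hy hxd hyd h2' hch hY
      interval_cases m <;> first | (exfalso; (clear * - hx' hxd'; (solve | lia | omega))) | exact Or.inl ⟨rfl, q, rfl⟩ | exact Or.inr (Or.inl ⟨rfl, q, rfl⟩) | exact Or.inr (Or.inr (⟨rfl, q, rfl⟩))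
    case g2 q =>
      have hx' : x ∈ [2, 6] := hx
      have hy' : y ∈ [2, 6] := hy
      have hxd' : 14 * 6 ∣ 18 * x := hxd
      have hyd' : 18 * 6 ∣ 18 * y := hyd
      have h4 : 2 * 6 ≤ 7 * 6 := h2'
      simp only [List.mem_cons, List.not_mem_nil, or_false] at hx' hy'
      clear hx hy hxd hyd h2' hch hY
      first | (exfalso; (clear * - hxd' hx'; (solve | lia | omega))) | exact Or.inl ⟨rfl, q, rfl⟩ | exact Or.inr (Or.inl ⟨rfl, q, rfl⟩) | exact Or.inr (Or.inr (⟨rfl, q, rfl⟩))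
    case f4 q =>
      have hx' : x ∈ [2, 6, 8, 12] := hx
      have hy' : y ∈ [2, 6, 8, 12] := hy
      have hxd' : 14 * 12 ∣ 18 * x := hxd
      have hyd' : 18 * 12 ∣ 18 * y := hyd
      have h4 : 2 * 24 ≤ 7 * 12 := h2'
      simp only [List.mem_cons, List.not_mem_nil, or_false] at hx' hy'
      clear hx hy hxd hyd h2' hch hY
      first | (exfalso; (clear * - hxd' hyd' hx'; omega)) | exact Or.inl ⟨rfl, q, rfl⟩ | exact Or.inr (Or.inl ⟨rfl, q, rfl⟩) | exact Or.inr (Or.inr (⟨rfl, q, rfl⟩))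
    case e6 q =>
      have hx' : x ∈ [2, 5, 6, 8, 9, 12] := hx
      have hy' : y ∈ [2, 5, 6, 8, 9, 12] := hy
      have hxd' : 14 * 12 ∣ 18 * x := hxd
      have hyd' : 18 * 12 ∣ 18 * y := hyd
      have h4 : 2 * 36 ≤ 7 * 12 := h2'
      simp only [List.mem_cons, List.not_mem_nil, or_false] at hx' hy'
      clear hx hy hxd hyd h2' hch hY
      first | (exfalso; (clear * - hxd' hyd' hx'; (solve | lia | omega))) | exact Or.inl ⟨rfl, q, rfl⟩ | exact Or.inr (Or.inl ⟨rfl, q, rfl⟩) | exact Or.inr (Or.inr (⟨rfl, q, rfl⟩))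
    case e7 q =>
      have hx' : x ∈ [2, 6, 8, 10, 12, 14, 18] := hx
      have hy' : y ∈ [2, 6, 8, 10, 12, 14, 18] := hy
      have hxd' : 14 * 18 ∣ 18 * x := hxd
      have hyd' : 18 * 18 ∣ 18 * y := hyd
      have h4 : 2 * 63 ≤ 7 * 18 := h2'
      simp only [List.mem_cons, List.not_mem_nil, or_false] at hx' hy'
      clear hx hy hxd hyd h2' hch hY
      first | (exfalso; fail) | exact Or.inl ⟨rfl, q, rfl⟩ | exact Or.inr (Or.inl ⟨rfl, q, rfl⟩) | exact Or.inr (Or.inr (⟨rfl, q, rfl⟩))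
    case e8 q =>
      have hx' : x ∈ [2, 8, 12, 14, 18, 20, 24, 30] := hx
      have hy' : y ∈ [2, 8, 12, 14, 18, 20, 24, 30] := hy
      have hxd' : 14 * 30 ∣ 18 * x := hxd
      have hyd' : 18 * 30 ∣ 18 * y := hyd
      have h4 : 2 * 120 ≤ 7 * 30 := h2'
      simp only [List.mem_cons, List.not_mem_nil, or_false] at hx' hy'
      clear hx hy hxd hyd h2' hch hY
      first | (exfalso; omega) | exact Or.inl ⟨rfl, q, rfl⟩ | exact Or.inr (Or.inl ⟨rfl, q, rfl⟩) | exact Or.inr (Or.inr (⟨rfl, q, rfl⟩))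
    case te6 q =>
      have hx' : x ∈ [2, 10, 6, 8, 18, 12] := hx
      have hy' : y ∈ [2, 10, 6, 8, 18, 12] := hy
      have hxd' : 14 * 18 ∣ 18 * x := hxd
      have hyd' : 18 * 18 ∣ 18 * y := hyd
      have h4 : 2 * 36 ≤ 7 * 18 := h2'
      simp only [List.mem_cons, List.not_mem_nil, or_false] at hx' hy'
      clear hx hy hxd hyd h2' hch hY
      first | (exfalso; (clear * - hxd' hx'; omega)) | exact Or.inl ⟨rfl, q, rfl⟩ | exact Or.inr (Or.inl ⟨rfl, q, rfl⟩) | exact Or.inr (Or.inr (⟨rfl, q, rfl⟩))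
    case td4 q =>
      have hx' : x ∈ [2, 6, 12] := hx
      have hy' : y ∈ [2, 6, 12] := hy
      have hxd' : 14 * 12 ∣ 18 * x := hxd
      have hyd' : 18 * 12 ∣ 18 * y := hyd
      have h4 : 2 * 12 ≤ 7 * 12 := h2'
      simp only [List.mem_cons, List.not_mem_nil, or_false] at hx' hy'
      clear hx hy hxd hyd h2' hch hY
      first | (exfalso; (clear * - hxd' hx'; omega)) | exact Or.inl ⟨rfl, q, rfl⟩ | exact Or.inr (Or.inl ⟨rfl, q, rfl⟩) | exact Or.inr (Or.inr (⟨rfl, q, rfl⟩))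
    case sz q =>
      have hx' : x ∈ [1, 4] := hx
      have hy' : y ∈ [1, 4] := hy
      have hxd' : 14 * 4 ∣ 18 * x := hxd
      have hyd' : 18 * 4 ∣ 18 * y := hyd
      have h4 : 2 * 2 ≤ 7 * 4 := h2'
      simp only [List.mem_cons, List.not_mem_nil, or_false] at hx' hy'
      clear hx hy hxd hyd h2' hch hY
      first | (exfalso; omega) | exact Or.inl ⟨rfl, q, rfl⟩ | exact Or.inr (Or.inl ⟨rfl, q, rfl⟩) | exact Or.inr (Or.inr (⟨rfl, q, rfl⟩))
    case ree q =>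
      have hx' : x ∈ [1, 6] := hx
      have hy' : y ∈ [1, 6] := hy
      have hxd' : 14 * 6 ∣ 18 * x := hxd
      have hyd' : 18 * 6 ∣ 18 * y := hyd
      have h4 : 2 * 3 ≤ 7 * 6 := h2'
      simp only [List.mem_cons, List.not_mem_nil, or_false] at hx' hy'
      clear hx hy hxd hyd h2' hch hY
      first | (exfalso; (clear * - hxd' hx'; (solve | lia | omega))) | exact Or.inl ⟨rfl, q, rfl⟩ | exact Or.inr (Or.inl ⟨rfl, q, rfl⟩) | exact Or.inr (Or.inr (⟨rfl, q, rfl⟩))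
    case tf4 q =>
      have hx' : x ∈ [1, 6, 4, 12] := hx
      have hy' : y ∈ [1, 6, 4, 12] := hy
      have hxd' : 14 * 12 ∣ 18 * x := hxd
      have hyd' : 18 * 12 ∣ 18 * y := hyd
      have h4 : 2 * 12 ≤ 7 * 12 := h2'
      simp only [List.mem_cons, List.not_mem_nil, or_false] at hx' hy'
      clear hx hy hxd hyd h2' hch hY
      first | (exfalso; (clear * - hxd' hyd' hx'; omega)) | exact Or.inl ⟨rfl, q, rfl⟩ | exact Or.inr (Or.inl ⟨rfl, q, rfl⟩) | exact Or.inr (Or.inr (⟨rfl, q, rfl⟩))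
    all_goals exact absurd hch not_false

theorem elimP_e7_5_18 (hg : Cond g) (hch : HasChar p g) {i : ℕ} (hi : i ∈ [2, 6, 8, 10, 12, 14, 18]) (hei : 18 ≤ i)
    (h2 : ag g * i ≤ 63 * Mg g) (h1 : ∃ x, Xg g x ∧ 5 * Mg g ∣ i * x) (h3 : ∃ x, Xg g x ∧ 18 * Mg g ∣ i * x)
    (hY : ∀ k, (k = 4 ∨ k = 5 ∨ 7 ≤ k) → Yg g k → ∃ j, j ∈ [2, 6, 8, 10, 12, 14, 18] ∧ i * k ∣ Mg g * j) :
    (i = 18 ∧ ∃ q, g = .psu 9 q) ∨ (i = 18 ∧ ∃ q, g = .psu 10 q) ∨ (i = 18 ∧ ∃ q, g = .te6 q) ∨ (i = 18 ∧ ∃ q, g = .e7 q) := by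
  obtain ⟨x, hx, hxd⟩ := h1
  obtain ⟨y, hy, hyd⟩ := h3
  have hi2 : i = 18 := by
    simp only [List.mem_cons, List.not_mem_nil, or_false] at hi
    omega
  clear hi hei
  rcases hi2 with rfl
  · have h2' : 2 * ag g ≤ 7 * Mg g := by omega
    clear h2
    cases g
    case psl m q =>
      obtain ⟨hm, -, -⟩ := hg
      have hb := bd_psl (ρ := 7) (by omega) h2'
      have hx' : 1 ≤ x ∧ x ≤ m := hx
      have hy' : 1 ≤ y ∧ y ≤ m := hy
      have hxd' : 5 * m ∣ 18 * x := hxd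
      have hyd' : 18 * m ∣ 18 * y := hyd
      have hY5 : 5 ≤ m → 90 ∣ m * 2 ∨ 90 ∣ m * 6 ∨ 90 ∣ m * 8 ∨ 90 ∣ m * 10 ∨ 90 ∣ m * 12 ∨ 90 ∣ m * 14 ∨ 90 ∣ m * 18 := by
        intro h
        obtain ⟨j, hj, hjd⟩ := hY 5 (by norm_num) (show 2 ≤ 5 ∧ 5 ≤ m from ⟨by norm_num, h⟩)
        have hjd' : 18 * 5 ∣ m * j := hjd
        simp only [List.mem_cons, List.not_mem_nil, or_false] at hj
        norm_num only at hjd'
        rcases hj with rfl | rfl | rfl | rfl | rfl | rfl | rfl <;> simp only [hjd', true_or, or_true]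
      clear hx hy hxd hyd h2' hch hY
      interval_cases m <;> first | (exfalso; (solve | lia | omega)) | exact Or.inl ⟨rfl, q, rfl⟩ | exact Or.inr (Or.inl ⟨rfl, q, rfl⟩) | exact Or.inr (Or.inr (Or.inl ⟨rfl, q, rfl⟩)) | exact Or.inr (Or.inr (Or.inr (⟨rfl, q, rfl⟩)))
    case psp m q =>
      obtain ⟨hm, -, -⟩ := hg
      have hb := bd_psp (ρ := 7) (by omega) h2'
      have hx' : 1 ≤ x ∧ x ≤ 2 * m ∧ 2 ∣ x := hx
      have hy' : 1 ≤ y ∧ y ≤ 2 * m ∧ 2 ∣ y := hy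
      have hxd' : 5 * (2 * m) ∣ 18 * x := hxd
      have hyd' : 18 * (2 * m) ∣ 18 * y := hyd
      have hY10 : 10 ≤ 2 * m → 180 ∣ (2 * m) * 2 ∨ 180 ∣ (2 * m) * 6 ∨ 180 ∣ (2 * m) * 8 ∨ 180 ∣ (2 * m) * 10 ∨ 180 ∣ (2 * m) * 12 ∨ 180 ∣ (2 * m) * 14 ∨ 180 ∣ (2 * m) * 18 := by
        intro h
        obtain ⟨j, hj, hjd⟩ := hY 10 (by norm_num) (show 1 ≤ 10 ∧ 10 ≤ 2 * m ∧ 2 ∣ 10 from ⟨by norm_num, h, by norm_num⟩)
        have hjd' : 18 * 10 ∣ (2 * m) * j := hjd
        simp only [List.mem_cons, List.not_mem_nil, or_false] at hj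
        norm_num only at hjd'
        rcases hj with rfl | rfl | rfl | rfl | rfl | rfl | rfl <;> simp only [hjd', true_or, or_true]
      clear hx hy hxd hyd h2' hch hY
      interval_cases m <;> first | (exfalso; (solve | lia | omega)) | exact Or.inl ⟨rfl, q, rfl⟩ | exact Or.inr (Or.inl ⟨rfl, q, rfl⟩) | exact Or.inr (Or.inr (Or.inl ⟨rfl, q, rfl⟩)) | exact Or.inr (Or.inr (Or.inr (⟨rfl, q, rfl⟩)))
    case oodd m q =>
      obtain ⟨hm, -, -⟩ := hg
      have hb := bd_psp (ρ := 7) (by omega) h2'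
      have hx' : 1 ≤ x ∧ x ≤ 2 * m ∧ 2 ∣ x := hx
      have hy' : 1 ≤ y ∧ y ≤ 2 * m ∧ 2 ∣ y := hy
      have hxd' : 5 * (2 * m) ∣ 18 * x := hxd
      have hyd' : 18 * (2 * m) ∣ 18 * y := hyd
      have hY10 : 10 ≤ 2 * m → 180 ∣ (2 * m) * 2 ∨ 180 ∣ (2 * m) * 6 ∨ 180 ∣ (2 * m) * 8 ∨ 180 ∣ (2 * m) * 10 ∨ 180 ∣ (2 * m) * 12 ∨ 180 ∣ (2 * m) * 14 ∨ 180 ∣ (2 * m) * 18 := by
        intro h
        obtain ⟨j, hj, hjd⟩ := hY 10 (by norm_num) (show 1 ≤ 10 ∧ 10 ≤ 2 * m ∧ 2 ∣ 10 from ⟨by norm_num, h, by norm_num⟩)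
        have hjd' : 18 * 10 ∣ (2 * m) * j := hjd
        simp only [List.mem_cons, List.not_mem_nil, or_false] at hj
        norm_num only at hjd'
        rcases hj with rfl | rfl | rfl | rfl | rfl | rfl | rfl <;> simp only [hjd', true_or, or_true]
      clear hx hy hxd hyd h2' hch hY
      interval_cases m <;> first | (exfalso; (clear * - hx' hxd' hY10; (solve | lia | omega))) | exact Or.inl ⟨rfl, q, rfl⟩ | exact Or.inr (Or.inl ⟨rfl, q, rfl⟩) | exact Or.inr (Or.inr (Or.inl ⟨rfl, q, rfl⟩)) | exact Or.inr (Or.inr (Or.inr (⟨rfl, q, rfl⟩)))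
    case psu m q =>
      obtain ⟨hm, -, -⟩ := hg
      have hb := bd_psu (ρ := 7) hm h2'
      have hx' : (1 ≤ x ∧ x ≤ m ∧ 2 ∣ x) ∨ ∃ j, x = 2 * j ∧ j ≤ m ∧ j % 2 = 1 := hx
      have hy' : (1 ≤ y ∧ y ≤ m ∧ 2 ∣ y) ∨ ∃ j, y = 2 * j ∧ j ≤ m ∧ j % 2 = 1 := hy
      obtain ⟨k, hk⟩ : ∃ k, k = (if m % 2 = 0 then m - 1 else m) := ⟨_, rfl⟩
      have hk' : (m % 2 = 0 ∧ k = m - 1) ∨ (m % 2 = 1 ∧ k = m) := by
        rw [hk]
        split_ifs <;> omega
      have hM : Mg (.psu m q) = 2 * k := by rw [hk]; rfl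
      have hxd' : 5 * (2 * k) ∣ 18 * x := hM ▸ hxd
      have hyd' : 18 * (2 * k) ∣ 18 * y := hM ▸ hyd
      clear hx hy hxd hyd h2' hch hY hM hk
      rcases hk' with ⟨hk1, hk2⟩ | ⟨hk1, hk2⟩ <;> rcases hx' with hx' | ⟨j, rfl, hx'⟩ <;>
        rcases hy' with hy' | ⟨l, rfl, hy'⟩ <;> interval_cases m <;> subst hk2 <;> first | (exfalso; (solve | lia | omega)) | exact Or.inl ⟨rfl, q, rfl⟩ | exact Or.inr (Or.inl ⟨rfl, q, rfl⟩) | exact Or.inr (Or.inr (Or.inl ⟨rfl, q, rfl⟩)) | exact Or.inr (Or.inr (Or.inr (⟨rfl, q, rfl⟩)))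
    case oplus m q =>
      obtain ⟨hm, -⟩ := hg
      have hb := bd_oplus (ρ := 7) (by omega) h2'
      have hx' : 1 ≤ x ∧ x ≤ 2 * (m - 1) ∧ (2 ∣ x ∨ x = m) := hx
      have hy' : 1 ≤ y ∧ y ≤ 2 * (m - 1) ∧ (2 ∣ y ∨ y = m) := hy
      have hxd' : 5 * (2 * (m - 1)) ∣ 18 * x := hxd
      have hyd' : 18 * (2 * (m - 1)) ∣ 18 * y := hyd
      have hY10 : 10 ≤ 2 * (m - 1) → 180 ∣ (2 * (m - 1)) * 2 ∨ 180 ∣ (2 * (m - 1)) * 6 ∨ 180 ∣ (2 * (m - 1)) * 8 ∨ 180 ∣ (2 * (m - 1)) * 10 ∨ 180 ∣ (2 * (m - 1)) * 12 ∨ 180 ∣ (2 * (m - 1)) * 14 ∨ 180 ∣ (2 * (m - 1)) * 18 := by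
        intro h
        obtain ⟨j, hj, hjd⟩ := hY 10 (by norm_num) (show 4 ≤ 10 ∧ 10 ≤ 2 * (m - 1) ∧ 2 ∣ 10 from ⟨by norm_num, h, by norm_num⟩)
        have hjd' : 18 * 10 ∣ (2 * (m - 1)) * j := hjd
        simp only [List.mem_cons, List.not_mem_nil, or_false] at hj
        norm_num only at hjd'
        rcases hj with rfl | rfl | rfl | rfl | rfl | rfl | rfl <;> simp only [hjd', true_or, or_true]
      clear hx hy hxd hyd h2' hch hY
      interval_cases m <;> first | (exfalso; (solve | lia | omega)) | exact Or.inl ⟨rfl, q, rfl⟩ | exact Or.inr (Or.inl ⟨rfl, q, rfl⟩) | exact Or.inr (Or.inr (Or.inl ⟨rfl, q, rfl⟩)) | exact Or.inr (Or.inr (Or.inr (⟨rfl, q, rfl⟩)))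
    case ominus m q =>
      obtain ⟨hm, -⟩ := hg
      have hb := bd_ominus (ρ := 7) (by omega) h2'
      have hx' : 1 ≤ x ∧ x ≤ 2 * m ∧ 2 ∣ x := hx
      have hy' : 1 ≤ y ∧ y ≤ 2 * m ∧ 2 ∣ y := hy
      have hxd' : 5 * (2 * m) ∣ 18 * x := hxd
      have hyd' : 18 * (2 * m) ∣ 18 * y := hyd
      have hY10 : 10 ≤ 2 * m → 180 ∣ (2 * m) * 2 ∨ 180 ∣ (2 * m) * 6 ∨ 180 ∣ (2 * m) * 8 ∨ 180 ∣ (2 * m) * 10 ∨ 180 ∣ (2 * m) * 12 ∨ 180 ∣ (2 * m) * 14 ∨ 180 ∣ (2 * m) * 18 := by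
        intro h
        obtain ⟨j, hj, hjd⟩ := hY 10 (by norm_num) (show 4 ≤ 10 ∧ 10 ≤ 2 * m ∧ 2 ∣ 10 from ⟨by norm_num, h, by norm_num⟩)
        have hjd' : 18 * 10 ∣ (2 * m) * j := hjd
        simp only [List.mem_cons, List.not_mem_nil, or_false] at hj
        norm_num only at hjd'
        rcases hj with rfl | rfl | rfl | rfl | rfl | rfl | rfl <;> simp only [hjd', true_or, or_true]
      clear hx hy hxd hyd h2' hch hY
      interval_cases m <;> first | (exfalso; (clear * - hx' hxd' hY10; (solve | lia | omega))) | exact Or.inl ⟨rfl, q, rfl⟩ | exact Or.inr (Or.inl ⟨rfl, q, rfl⟩) | exact Or.inr (Or.inr (Or.inl ⟨rfl, q, rfl⟩)) | exact Or.inr (Or.inr (Or.inr (⟨rfl, q, rfl⟩)))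
    case g2 q =>
      have hx' : x ∈ [2, 6] := hx
      have hy' : y ∈ [2, 6] := hy
      have hxd' : 5 * 6 ∣ 18 * x := hxd
      have hyd' : 18 * 6 ∣ 18 * y := hyd
      have h4 : 2 * 6 ≤ 7 * 6 := h2'
      simp only [List.mem_cons, List.not_mem_nil, or_false] at hx' hy'
      clear hx hy hxd hyd h2' hch hY
      first | (exfalso; (clear * - hxd' hx'; omega)) | exact Or.inl ⟨rfl, q, rfl⟩ | exact Or.inr (Or.inl ⟨rfl, q, rfl⟩) | exact Or.inr (Or.inr (Or.inl ⟨rfl, q, rfl⟩)) | exact Or.inr (Or.inr (Or.inr (⟨rfl, q, rfl⟩)))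
    case f4 q =>
      have hx' : x ∈ [2, 6, 8, 12] := hx
      have hy' : y ∈ [2, 6, 8, 12] := hy
      have hxd' : 5 * 12 ∣ 18 * x := hxd
      have hyd' : 18 * 12 ∣ 18 * y := hyd
      have h4 : 2 * 24 ≤ 7 * 12 := h2'
      simp only [List.mem_cons, List.not_mem_nil, or_false] at hx' hy'
      clear hx hy hxd hyd h2' hch hY
      first | (exfalso; (clear * - hxd' hyd' hx'; (solve | lia | omega))) | exact Or.inl ⟨rfl, q, rfl⟩ | exact Or.inr (Or.inl ⟨rfl, q, rfl⟩) | exact Or.inr (Or.inr (Or.inl ⟨rfl, q, rfl⟩)) | exact Or.inr (Or.inr (Or.inr (⟨rfl, q, rfl⟩)))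
    case e6 q =>
      have hx' : x ∈ [2, 5, 6, 8, 9, 12] := hx
      have hy' : y ∈ [2, 5, 6, 8, 9, 12] := hy
      have hxd' : 5 * 12 ∣ 18 * x := hxd
      have hyd' : 18 * 12 ∣ 18 * y := hyd
      have h4 : 2 * 36 ≤ 7 * 12 := h2'
      simp only [List.mem_cons, List.not_mem_nil, or_false] at hx' hy'
      clear hx hy hxd hyd h2' hch hY
      first | (exfalso; (clear * - hxd' hyd' hx'; (solve | lia | omega))) | exact Or.inl ⟨rfl, q, rfl⟩ | exact Or.inr (Or.inl ⟨rfl, q, rfl⟩) | exact Or.inr (Or.inr (Or.inl ⟨rfl, q, rfl⟩)) | exact Or.inr (Or.inr (Or.inr (⟨rfl, q, rfl⟩)))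
    case e7 q =>
      have hx' : x ∈ [2, 6, 8, 10, 12, 14, 18] := hx
      have hy' : y ∈ [2, 6, 8, 10, 12, 14, 18] := hy
      have hxd' : 5 * 18 ∣ 18 * x := hxd
      have hyd' : 18 * 18 ∣ 18 * y := hyd
      have h4 : 2 * 63 ≤ 7 * 18 := h2'
      simp only [List.mem_cons, List.not_mem_nil, or_false] at hx' hy'
      clear hx hy hxd hyd h2' hch hY
      first | (exfalso; omega) | exact Or.inl ⟨rfl, q, rfl⟩ | exact Or.inr (Or.inl ⟨rfl, q, rfl⟩) | exact Or.inr (Or.inr (Or.inl ⟨rfl, q, rfl⟩)) | exact Or.inr (Or.inr (Or.inr (⟨rfl, q, rfl⟩)))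
    case e8 q =>
      have hx' : x ∈ [2, 8, 12, 14, 18, 20, 24, 30] := hx
      have hy' : y ∈ [2, 8, 12, 14, 18, 20, 24, 30] := hy
      have hxd' : 5 * 30 ∣ 18 * x := hxd
      have hyd' : 18 * 30 ∣ 18 * y := hyd
      have h4 : 2 * 120 ≤ 7 * 30 := h2'
      simp only [List.mem_cons, List.not_mem_nil, or_false] at hx' hy'
      clear hx hy hxd hyd h2' hch hY
      first | (exfalso; omega) | exact Or.inl ⟨rfl, q, rfl⟩ | exact Or.inr (Or.inl ⟨rfl, q, rfl⟩) | exact Or.inr (Or.inr (Or.inl ⟨rfl, q, rfl⟩)) | exact Or.inr (Or.inr (Or.inr (⟨rfl, q, rfl⟩)))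
    case te6 q =>
      have hx' : x ∈ [2, 10, 6, 8, 18, 12] := hx
      have hy' : y ∈ [2, 10, 6, 8, 18, 12] := hy
      have hxd' : 5 * 18 ∣ 18 * x := hxd
      have hyd' : 18 * 18 ∣ 18 * y := hyd
      have h4 : 2 * 36 ≤ 7 * 18 := h2'
      simp only [List.mem_cons, List.not_mem_nil, or_false] at hx' hy'
      clear hx hy hxd hyd h2' hch hY
      first | (exfalso; omega) | exact Or.inl ⟨rfl, q, rfl⟩ | exact Or.inr (Or.inl ⟨rfl, q, rfl⟩) | exact Or.inr (Or.inr (Or.inl ⟨rfl, q, rfl⟩)) | exact Or.inr (Or.inr (Or.inr (⟨rfl, q, rfl⟩)))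
    case td4 q =>
      have hx' : x ∈ [2, 6, 12] := hx
      have hy' : y ∈ [2, 6, 12] := hy
      have hxd' : 5 * 12 ∣ 18 * x := hxd
      have hyd' : 18 * 12 ∣ 18 * y := hyd
      have h4 : 2 * 12 ≤ 7 * 12 := h2'
      simp only [List.mem_cons, List.not_mem_nil, or_false] at hx' hy'
      clear hx hy hxd hyd h2' hch hY
      first | (exfalso; omega) | exact Or.inl ⟨rfl, q, rfl⟩ | exact Or.inr (Or.inl ⟨rfl, q, rfl⟩) | exact Or.inr (Or.inr (Or.inl ⟨rfl, q, rfl⟩)) | exact Or.inr (Or.inr (Or.inr (⟨rfl, q, rfl⟩)))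
    case sz q =>
      have hx' : x ∈ [1, 4] := hx
      have hy' : y ∈ [1, 4] := hy
      have hxd' : 5 * 4 ∣ 18 * x := hxd
      have hyd' : 18 * 4 ∣ 18 * y := hyd
      have h4 : 2 * 2 ≤ 7 * 4 := h2'
      simp only [List.mem_cons, List.not_mem_nil, or_false] at hx' hy'
      clear hx hy hxd hyd h2' hch hY
      first | (exfalso; omega) | exact Or.inl ⟨rfl, q, rfl⟩ | exact Or.inr (Or.inl ⟨rfl, q, rfl⟩) | exact Or.inr (Or.inr (Or.inl ⟨rfl, q, rfl⟩)) | exact Or.inr (Or.inr (Or.inr (⟨rfl, q, rfl⟩)))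
    case ree q =>
      have hx' : x ∈ [1, 6] := hx
      have hy' : y ∈ [1, 6] := hy
      have hxd' : 5 * 6 ∣ 18 * x := hxd
      have hyd' : 18 * 6 ∣ 18 * y := hyd
      have h4 : 2 * 3 ≤ 7 * 6 := h2'
      simp only [List.mem_cons, List.not_mem_nil, or_false] at hx' hy'
      clear hx hy hxd hyd h2' hch hY
      first | (exfalso; (clear * - hxd' hx'; omega)) | exact Or.inl ⟨rfl, q, rfl⟩ | exact Or.inr (Or.inl ⟨rfl, q, rfl⟩) | exact Or.inr (Or.inr (Or.inl ⟨rfl, q, rfl⟩)) | exact Or.inr (Or.inr (Or.inr (⟨rfl, q, rfl⟩)))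
    case tf4 q =>
      have hx' : x ∈ [1, 6, 4, 12] := hx
      have hy' : y ∈ [1, 6, 4, 12] := hy
      have hxd' : 5 * 12 ∣ 18 * x := hxd
      have hyd' : 18 * 12 ∣ 18 * y := hyd
      have h4 : 2 * 12 ≤ 7 * 12 := h2'
      simp only [List.mem_cons, List.not_mem_nil, or_false] at hx' hy'
      clear hx hy hxd hyd h2' hch hY
      first | (exfalso; (clear * - hxd' hyd' hx'; (solve | lia | omega))) | exact Or.inl ⟨rfl, q, rfl⟩ | exact Or.inr (Or.inl ⟨rfl, q, rfl⟩) | exact Or.inr (Or.inr (Or.inl ⟨rfl, q, rfl⟩)) | exact Or.inr (Or.inr (Or.inr (⟨rfl, q, rfl⟩)))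
    all_goals exact absurd hch not_false

theorem elimP_e7_5_14 (hg : Cond g) (hch : HasChar p g) {i : ℕ} (hi : i ∈ [2, 6, 8, 10, 12, 14, 18]) (hei : 14 ≤ i)
    (h2 : ag g * i ≤ 63 * Mg g) (h1 : ∃ x, Xg g x ∧ 5 * Mg g ∣ i * x) (h3 : ∃ x, Xg g x ∧ 14 * Mg g ∣ i * x)
    (hY : ∀ k, (k = 4 ∨ k = 5 ∨ 7 ≤ k) → Yg g k → ∃ j, j ∈ [2, 6, 8, 10, 12, 14, 18] ∧ i * k ∣ Mg g * j) :
    (i = 14 ∧ ∃ q, g = .psl 7 q) ∨ (i = 14 ∧ ∃ q, g = .psp 7 q) ∨ (i = 14 ∧ ∃ q, g = .oodd 7 q) ∨ (i = 14 ∧ ∃ q, g = .psu 7 q) ∨ (i = 14 ∧ ∃ q, g = .psu 8 q) ∨ (i = 14 ∧ ∃ q, g = .oplus 8 q) ∨ (i = 14 ∧ ∃ q, g = .ominus 7 q) ∨ (i = 18 ∧ ∃ q, g = .psu 9 q) ∨ (i = 18 ∧ ∃ q, g = .psu 10 q) ∨ (i = 18 ∧ ∃ q, g = .e7 q) := by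
  obtain ⟨x, hx, hxd⟩ := h1
  obtain ⟨y, hy, hyd⟩ := h3
  have hi2 : i = 14 ∨ i = 18 := by
    simp only [List.mem_cons, List.not_mem_nil, or_false] at hi
    omega
  clear hi hei
  rcases hi2 with rfl | rfl
  · have h2' : 2 * ag g ≤ 9 * Mg g := by omega
    clear h2
    cases g
    case psl m q =>
      obtain ⟨hm, -, -⟩ := hg
      have hb := bd_psl (ρ := 9) (by omega) h2'
      have hx' : 1 ≤ x ∧ x ≤ m := hx
      have hy' : 1 ≤ y ∧ y ≤ m := hy
      have hxd' : 5 * m ∣ 14 * x := hxd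
      have hyd' : 14 * m ∣ 14 * y := hyd
      clear hx hy hxd hyd h2' hch hY
      interval_cases m <;> first | (exfalso; (solve | lia | omega)) | exact Or.inl ⟨rfl, q, rfl⟩ | exact Or.inr (Or.inl ⟨rfl, q, rfl⟩) | exact Or.inr (Or.inr (Or.inl ⟨rfl, q, rfl⟩)) | exact Or.inr (Or.inr (Or.inr (Or.inl ⟨rfl, q, rfl⟩))) | exact Or.inr (Or.inr (Or.inr (Or.inr (Or.inl ⟨rfl, q, rfl⟩)))) | exact Or.inr (Or.inr (Or.inr (Or.inr (Or.inr (Or.inl ⟨rfl, q, rfl⟩))))) | exact Or.inr (Or.inr (Or.inr (Or.inr (Or.inr (Or.inr (Or.inl ⟨rfl, q, rfl⟩)))))) | exact Or.inr (Or.inr (Or.inr (Or.inr (Or.inr (Or.inr (Or.inr (Or.inl ⟨rfl, q, rfl⟩))))))) | exact Or.inr (Or.inr (Or.inr (Or.inr (Or.inr (Or.inr (Or.inr (Or.inr (Or.inl ⟨rfl, q, rfl⟩)))))))) | exact Or.inr (Or.inr (Or.inr (Or.inr (Or.inr (Or.inr (Or.inr (Or.inr (Or.inr (⟨rfl, q, rfl⟩)))))))))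
    case psp m q =>
      obtain ⟨hm, -, -⟩ := hg
      have hb := bd_psp (ρ := 9) (by omega) h2'
      have hx' : 1 ≤ x ∧ x ≤ 2 * m ∧ 2 ∣ x := hx
      have hy' : 1 ≤ y ∧ y ≤ 2 * m ∧ 2 ∣ y := hy
      have hxd' : 5 * (2 * m) ∣ 14 * x := hxd
      have hyd' : 14 * (2 * m) ∣ 14 * y := hyd
      clear hx hy hxd hyd h2' hch hY
      interval_cases m <;> first | (exfalso; (solve | lia | omega)) | exact Or.inl ⟨rfl, q, rfl⟩ | exact Or.inr (Or.inl ⟨rfl, q, rfl⟩) | exact Or.inr (Or.inr (Or.inl ⟨rfl, q, rfl⟩)) | exact Or.inr (Or.inr (Or.inr (Or.inl ⟨rfl, q, rfl⟩))) | exact Or.inr (Or.inr (Or.inr (Or.inr (Or.inl ⟨rfl, q, rfl⟩)))) | exact Or.inr (Or.inr (Or.inr (Or.inr (Or.inr (Or.inl ⟨rfl, q, rfl⟩))))) | exact Or.inr (Or.inr (Or.inr (Or.inr (Or.inr (Or.inr (Or.inl ⟨rfl, q, rfl⟩)))))) | exact Or.inr (Or.inr (Or.inr (Or.inr (Or.inr (Or.inr (Or.inr (Or.inl ⟨rfl, q, rfl⟩))))))) | exact Or.inr (Or.inr (Or.inr (Or.inr (Or.inr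 (Or.inr (Or.inr (Or.inr (Or.inl ⟨rfl, q, rfl⟩)))))))) | exact Or.inr (Or.inr (Or.inr (Or.inr (Or.inr (Or.inr (Or.inr (Or.inr (Or.inr (⟨rfl, q, rfl⟩)))))))))
    case oodd m q =>
      obtain ⟨hm, -, -⟩ := hg
      have hb := bd_psp (ρ := 9) (by omega) h2'
      have hx' : 1 ≤ x ∧ x ≤ 2 * m ∧ 2 ∣ x := hx
      have hy' : 1 ≤ y ∧ y ≤ 2 * m ∧ 2 ∣ y := hy
      have hxd' : 5 * (2 * m) ∣ 14 * x := hxd
      have hyd' : 14 * (2 * m) ∣ 14 * y := hyd
      clear hx hy hxd hyd h2' hch hY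
      interval_cases m <;> first | (exfalso; (clear * - hx' hxd'; omega)) | exact Or.inl ⟨rfl, q, rfl⟩ | exact Or.inr (Or.inl ⟨rfl, q, rfl⟩) | exact Or.inr (Or.inr (Or.inl ⟨rfl, q, rfl⟩)) | exact Or.inr (Or.inr (Or.inr (Or.inl ⟨rfl, q, rfl⟩))) | exact Or.inr (Or.inr (Or.inr (Or.inr (Or.inl ⟨rfl, q, rfl⟩)))) | exact Or.inr (Or.inr (Or.inr (Or.inr (Or.inr (Or.inl ⟨rfl, q, rfl⟩))))) | exact Or.inr (Or.inr (Or.inr (Or.inr (Or.inr (Or.inr (Or.inl ⟨rfl, q, rfl⟩)))))) | exact Or.inr (Or.inr (Or.inr (Or.inr (Or.inr (Or.inr (Or.inr (Or.inl ⟨rfl, q, rfl⟩))))))) | exact Or.inr (Or.inr (Or.inr (Or.inr (Or.inr (Or.inr (Or.inr (Or.inr (Or.inl ⟨rfl, q, rfl⟩)))))))) | exact Or.inr (Or.inr (Or.inr (Or.inr (Or.inr (Or.inr (Or.inr (Or.inr (Or.inr (⟨rfl, q, rfl⟩)))))))))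
    case psu m q =>
      obtain ⟨hm, -, -⟩ := hg
      have hb := bd_psu (ρ := 9) hm h2'
      have hx' : (1 ≤ x ∧ x ≤ m ∧ 2 ∣ x) ∨ ∃ j, x = 2 * j ∧ j ≤ m ∧ j % 2 = 1 := hx
      have hy' : (1 ≤ y ∧ y ≤ m ∧ 2 ∣ y) ∨ ∃ j, y = 2 * j ∧ j ≤ m ∧ j % 2 = 1 := hy
      obtain ⟨k, hk⟩ : ∃ k, k = (if m % 2 = 0 then m - 1 else m) := ⟨_, rfl⟩
      have hk' : (m % 2 = 0 ∧ k = m - 1) ∨ (m % 2 = 1 ∧ k = m) := by
        rw [hk]
        split_ifs <;> omega
      have hM : Mg (.psu m q) = 2 * k := by rw [hk]; rfl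
      have hxd' : 5 * (2 * k) ∣ 14 * x := hM ▸ hxd
      have hyd' : 14 * (2 * k) ∣ 14 * y := hM ▸ hyd
      clear hx hy hxd hyd h2' hch hY hM hk
      rcases hk' with ⟨hk1, hk2⟩ | ⟨hk1, hk2⟩ <;> rcases hx' with hx' | ⟨j, rfl, hx'⟩ <;>
        rcases hy' with hy' | ⟨l, rfl, hy'⟩ <;> interval_cases m <;> subst hk2 <;> first | (exfalso; (solve | lia | omega)) | exact Or.inl ⟨rfl, q, rfl⟩ | exact Or.inr (Or.inl ⟨rfl, q, rfl⟩) | exact Or.inr (Or.inr (Or.inl ⟨rfl, q, rfl⟩)) | exact Or.inr (Or.inr (Or.inr (Or.inl ⟨rfl, q, rfl⟩))) | exact Or.inr (Or.inr (Or.inr (Or.inr (Or.inl ⟨rfl, q, rfl⟩)))) | exact Or.inr (Or.inr (Or.inr (Or.inr (Or.inr (Or.inl ⟨rfl, q, rfl⟩))))) | exact Or.inr (Or.inr (Or.inr (Or.inr (Or.inr (Or.inr (Or.inl ⟨rfl, q, rfl⟩)))))) | exact Or.inr (Or.inr (Or.inr (Or.inr (Or.inr (Or.inr (Or.inr (Or.inl ⟨rfl, q, rfl⟩))))))) | exact Or.inr (Or.inr (Or.inr (Or.inr (Or.inr (Or.inr (Or.inr (Or.inr (Or.inl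 ⟨rfl, q, rfl⟩)))))))) | exact Or.inr (Or.inr (Or.inr (Or.inr (Or.inr (Or.inr (Or.inr (Or.inr (Or.inr (⟨rfl, q, rfl⟩)))))))))
    case oplus m q =>
      obtain ⟨hm, -⟩ := hg
      have hb := bd_oplus (ρ := 9) (by omega) h2'
      have hx' : 1 ≤ x ∧ x ≤ 2 * (m - 1) ∧ (2 ∣ x ∨ x = m) := hx
      have hy' : 1 ≤ y ∧ y ≤ 2 * (m - 1) ∧ (2 ∣ y ∨ y = m) := hy
      have hxd' : 5 * (2 * (m - 1)) ∣ 14 * x := hxd
      have hyd' : 14 * (2 * (m - 1)) ∣ 14 * y := hyd
      clear hx hy hxd hyd h2' hch hY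
      interval_cases m <;> first | (exfalso; (solve | lia | omega)) | exact Or.inl ⟨rfl, q, rfl⟩ | exact Or.inr (Or.inl ⟨rfl, q, rfl⟩) | exact Or.inr (Or.inr (Or.inl ⟨rfl, q, rfl⟩)) | exact Or.inr (Or.inr (Or.inr (Or.inl ⟨rfl, q, rfl⟩))) | exact Or.inr (Or.inr (Or.inr (Or.inr (Or.inl ⟨rfl, q, rfl⟩)))) | exact Or.inr (Or.inr (Or.inr (Or.inr (Or.inr (Or.inl ⟨rfl, q, rfl⟩))))) | exact Or.inr (Or.inr (Or.inr (Or.inr (Or.inr (Or.inr (Or.inl ⟨rfl, q, rfl⟩)))))) | exact Or.inr (Or.inr (Or.inr (Or.inr (Or.inr (Or.inr (Or.inr (Or.inl ⟨rfl, q, rfl⟩))))))) | exact Or.inr (Or.inr (Or.inr (Or.inr (Or.inr (Or.inr (Or.inr (Or.inr (Or.inl ⟨rfl, q, rfl⟩)))))))) | exact Or.inr (Or.inr (Or.inr (Or.inr (Or.inr (Or.inr (Or.inr (Or.inr (Or.inr (⟨rfl, q, rfl⟩)))))))))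
    case ominus m q =>
      obtain ⟨hm, -⟩ := hg
      have hb := bd_ominus (ρ := 9) (by omega) h2'
      have hx' : 1 ≤ x ∧ x ≤ 2 * m ∧ 2 ∣ x := hx
      have hy' : 1 ≤ y ∧ y ≤ 2 * m ∧ 2 ∣ y := hy
      have hxd' : 5 * (2 * m) ∣ 14 * x := hxd
      have hyd' : 14 * (2 * m) ∣ 14 * y := hyd
      clear hx hy hxd hyd h2' hch hY
      interval_cases m <;> first | (exfalso; (clear * - hx' hxd'; omega)) | exact Or.inl ⟨rfl, q, rfl⟩ | exact Or.inr (Or.inl ⟨rfl, q, rfl⟩) | exact Or.inr (Or.inr (Or.inl ⟨rfl, q, rfl⟩)) | exact Or.inr (Or.inr (Or.inr (Or.inl ⟨rfl, q, rfl⟩))) | exact Or.inr (Or.inr (Or.inr (Or.inr (Or.inl ⟨rfl, q, rfl⟩)))) | exact Or.inr (Or.inr (Or.inr (Or.inr (Or.inr (Or.inl ⟨rfl, q, rfl⟩))))) | exact Or.inr (Or.inr (Or.inr (Or.inr (Or.inr (Or.inr (Or.inl ⟨rfl, q, rfl⟩)))))) | exact Or.inr (Or.inr (Or.inr (Or.inr (Or.inr (Or.inr (Or.inr (Or.inl ⟨rfl, q, rfl⟩))))))) | exact Or.inr (Or.inr (Or.inr (Or.inr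 (Or.inr (Or.inr (Or.inr (Or.inr (Or.inl ⟨rfl, q, rfl⟩)))))))) | exact Or.inr (Or.inr (Or.inr (Or.inr (Or.inr (Or.inr (Or.inr (Or.inr (Or.inr (⟨rfl, q, rfl⟩)))))))))
    case g2 q =>
      have hx' : x ∈ [2, 6] := hx
      have hy' : y ∈ [2, 6] := hy
      have hxd' : 5 * 6 ∣ 14 * x := hxd
      have hyd' : 14 * 6 ∣ 14 * y := hyd
      have h4 : 2 * 6 ≤ 9 * 6 := h2'
      simp only [List.mem_cons, List.not_mem_nil, or_false] at hx' hy'
      clear hx hy hxd hyd h2' hch hY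
      first | (exfalso; (solve | lia | omega)) | exact Or.inl ⟨rfl, q, rfl⟩ | exact Or.inr (Or.inl ⟨rfl, q, rfl⟩) | exact Or.inr (Or.inr (Or.inl ⟨rfl, q, rfl⟩)) | exact Or.inr (Or.inr (Or.inr (Or.inl ⟨rfl, q, rfl⟩))) | exact Or.inr (Or.inr (Or.inr (Or.inr (Or.inl ⟨rfl, q, rfl⟩)))) | exact Or.inr (Or.inr (Or.inr (Or.inr (Or.inr (Or.inl ⟨rfl, q, rfl⟩))))) | exact Or.inr (Or.inr (Or.inr (Or.inr (Or.inr (Or.inr (Or.inl ⟨rfl, q, rfl⟩)))))) | exact Or.inr (Or.inr (Or.inr (Or.inr (Or.inr (Or.inr (Or.inr (Or.inl ⟨rfl, q, rfl⟩))))))) | exact Or.inr (Or.inr (Or.inr (Or.inr (Or.inr (Or.inr (Or.inr (Or.inr (Or.inl ⟨rfl, q, rfl⟩)))))))) | exact Or.inr (Or.inr (Or.inr (Or.inr (Or.inr (Or.inr (Or.inr (Or.inr (Or.inr (⟨rfl, q, rfl⟩)))))))))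
    case f4 q =>
      have hx' : x ∈ [2, 6, 8, 12] := hx
      have hy' : y ∈ [2, 6, 8, 12] := hy
      have hxd' : 5 * 12 ∣ 14 * x := hxd
      have hyd' : 14 * 12 ∣ 14 * y := hyd
      have h4 : 2 * 24 ≤ 9 * 12 := h2'
      simp only [List.mem_cons, List.not_mem_nil, or_false] at hx' hy'
      clear hx hy hxd hyd h2' hch hY
      first | (exfalso; (solve | lia | omega)) | exact Or.inl ⟨rfl, q, rfl⟩ | exact Or.inr (Or.inl ⟨rfl, q, rfl⟩) | exact Or.inr (Or.inr (Or.inl ⟨rfl, q, rfl⟩)) | exact Or.inr (Or.inr (Or.inr (Or.inl ⟨rfl, q, rfl⟩))) | exact Or.inr (Or.inr (Or.inr (Or.inr (Or.inl ⟨rfl, q, rfl⟩)))) | exact Or.inr (Or.inr (Or.inr (Or.inr (Or.inr (Or.inl ⟨rfl, q, rfl⟩))))) | exact Or.inr (Or.inr (Or.inr (Or.inr (Or.inr (Or.inr (Or.inl ⟨rfl, q, rfl⟩)))))) | exact Or.inr (Or.inr (Or.inr (Or.inr (Or.inr (Or.inr (Or.inr (Or.inl ⟨rfl, q, rfl⟩))))))) | exact Or.inr (Or.inr (Or.inr (Or.inr (Or.inr (Or.inr (Or.inr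 (Or.inr (Or.inl ⟨rfl, q, rfl⟩)))))))) | exact Or.inr (Or.inr (Or.inr (Or.inr (Or.inr (Or.inr (Or.inr (Or.inr (Or.inr (⟨rfl, q, rfl⟩)))))))))
    case e6 q =>
      have hx' : x ∈ [2, 5, 6, 8, 9, 12] := hx
      have hy' : y ∈ [2, 5, 6, 8, 9, 12] := hy
      have hxd' : 5 * 12 ∣ 14 * x := hxd
      have hyd' : 14 * 12 ∣ 14 * y := hyd
      have h4 : 2 * 36 ≤ 9 * 12 := h2'
      simp only [List.mem_cons, List.not_mem_nil, or_false] at hx' hy'
      clear hx hy hxd hyd h2' hch hY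
      first | (exfalso; (clear * - hxd' hyd' hx'; (solve | lia | omega))) | exact Or.inl ⟨rfl, q, rfl⟩ | exact Or.inr (Or.inl ⟨rfl, q, rfl⟩) | exact Or.inr (Or.inr (Or.inl ⟨rfl, q, rfl⟩)) | exact Or.inr (Or.inr (Or.inr (Or.inl ⟨rfl, q, rfl⟩))) | exact Or.inr (Or.inr (Or.inr (Or.inr (Or.inl ⟨rfl, q, rfl⟩)))) | exact Or.inr (Or.inr (Or.inr (Or.inr (Or.inr (Or.inl ⟨rfl, q, rfl⟩))))) | exact Or.inr (Or.inr (Or.inr (Or.inr (Or.inr (Or.inr (Or.inl ⟨rfl, q, rfl⟩)))))) | exact Or.inr (Or.inr (Or.inr (Or.inr (Or.inr (Or.inr (Or.inr (Or.inl ⟨rfl, q, rfl⟩))))))) | exact Or.inr (Or.inr (Or.inr (Or.inr (Or.inr (Or.inr (Or.inr (Or.inr (Or.inl ⟨rfl, q, rfl⟩)))))))) | exact Or.inr (Or.inr (Or.inr (Or.inr (Or.inr (Or.inr (Or.inr (Or.inr (Or.inr (⟨rfl, q, rfl⟩)))))))))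
    case e7 q =>
      have hx' : x ∈ [2, 6, 8, 10, 12, 14, 18] := hx
      have hy' : y ∈ [2, 6, 8, 10, 12, 14, 18] := hy
      have hxd' : 5 * 18 ∣ 14 * x := hxd
      have hyd' : 14 * 18 ∣ 14 * y := hyd
      have h4 : 2 * 63 ≤ 9 * 18 := h2'
      simp only [List.mem_cons, List.not_mem_nil, or_false] at hx' hy'
      clear hx hy hxd hyd h2' hch hY
      first | (exfalso; (clear * - hxd' hyd' hx'; solve | lia | omega)) | exact Or.inl ⟨rfl, q, rfl⟩ | exact Or.inr (Or.inl ⟨rfl, q, rfl⟩) | exact Or.inr (Or.inr (Or.inl ⟨rfl, q, rfl⟩)) | exact Or.inr (Or.inr (Or.inr (Or.inl ⟨rfl, q, rfl⟩))) | exact Or.inr (Or.inr (Or.inr (Or.inr (Or.inl ⟨rfl, q, rfl⟩)))) | exact Or.inr (Or.inr (Or.inr (Or.inr (Or.inr (Or.inl ⟨rfl, q, rfl⟩))))) | exact Or.inr (Or.inr (Or.inr (Or.inr (Or.inr (Or.inr (Or.inl ⟨rfl, q, rfl⟩)))))) | exact Or.inr (Or.inr (Or.inr (Or.inr (Or.inr (Or.inr (Or.inr (Or.inl ⟨rfl, q, rfl⟩))))))) | exact Or.inr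 (Or.inr (Or.inr (Or.inr (Or.inr (Or.inr (Or.inr (Or.inr (Or.inl ⟨rfl, q, rfl⟩)))))))) | exact Or.inr (Or.inr (Or.inr (Or.inr (Or.inr (Or.inr (Or.inr (Or.inr (Or.inr (⟨rfl, q, rfl⟩)))))))))
    case e8 q =>
      have hx' : x ∈ [2, 8, 12, 14, 18, 20, 24, 30] := hx
      have hy' : y ∈ [2, 8, 12, 14, 18, 20, 24, 30] := hy
      have hxd' : 5 * 30 ∣ 14 * x := hxd
      have hyd' : 14 * 30 ∣ 14 * y := hyd
      have h4 : 2 * 120 ≤ 9 * 30 := h2'
      simp only [List.mem_cons, List.not_mem_nil, or_false] at hx' hy'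
      clear hx hy hxd hyd h2' hch hY
      first | (exfalso; (clear * - hxd' hyd' hx'; solve | lia | omega)) | exact Or.inl ⟨rfl, q, rfl⟩ | exact Or.inr (Or.inl ⟨rfl, q, rfl⟩) | exact Or.inr (Or.inr (Or.inl ⟨rfl, q, rfl⟩)) | exact Or.inr (Or.inr (Or.inr (Or.inl ⟨rfl, q, rfl⟩))) | exact Or.inr (Or.inr (Or.inr (Or.inr (Or.inl ⟨rfl, q, rfl⟩)))) | exact Or.inr (Or.inr (Or.inr (Or.inr (Or.inr (Or.inl ⟨rfl, q, rfl⟩))))) | exact Or.inr (Or.inr (Or.inr (Or.inr (Or.inr (Or.inr (Or.inl ⟨rfl, q, rfl⟩)))))) | exact Or.inr (Or.inr (Or.inr (Or.inr (Or.inr (Or.inr (Or.inr (Or.inl ⟨rfl, q, rfl⟩))))))) | exact Or.inr (Or.inr (Or.inr (Or.inr (Or.inr (Or.inr (Or.inr (Or.inr (Or.inl ⟨rfl, q, rfl⟩)))))))) | exact Or.inr (Or.inr (Or.inr (Or.inr (Or.inr (Or.inr (Or.inr (Or.inr (Or.inr (⟨rfl, q, rfl⟩)))))))))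
    case te6 q =>
      have hx' : x ∈ [2, 10, 6, 8, 18, 12] := hx
      have hy' : y ∈ [2, 10, 6, 8, 18, 12] := hy
      have hxd' : 5 * 18 ∣ 14 * x := hxd
      have hyd' : 14 * 18 ∣ 14 * y := hyd
      have h4 : 2 * 36 ≤ 9 * 18 := h2'
      simp only [List.mem_cons, List.not_mem_nil, or_false] at hx' hy'
      clear hx hy hxd hyd h2' hch hY
      first | (exfalso; (clear * - hxd' hyd' hx'; omega)) | exact Or.inl ⟨rfl, q, rfl⟩ | exact Or.inr (Or.inl ⟨rfl, q, rfl⟩) | exact Or.inr (Or.inr (Or.inl ⟨rfl, q, rfl⟩)) | exact Or.inr (Or.inr (Or.inr (Or.inl ⟨rfl, q, rfl⟩))) | exact Or.inr (Or.inr (Or.inr (Or.inr (Or.inl ⟨rfl, q, rfl⟩)))) | exact Or.inr (Or.inr (Or.inr (Or.inr (Or.inr (Or.inl ⟨rfl, q, rfl⟩))))) | exact Or.inr (Or.inr (Or.inr (Or.inr (Or.inr (Or.inr (Or.inl ⟨rfl, q, rfl⟩)))))) | exact Or.inr (Or.inr (Or.inr (Or.inr (Or.inr (Or.inr (Or.inr (Or.inl ⟨rfl, q, rfl⟩))))))) | exact Or.inr (Or.inr (Or.inr (Or.inr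 (Or.inr (Or.inr (Or.inr (Or.inr (Or.inl ⟨rfl, q, rfl⟩)))))))) | exact Or.inr (Or.inr (Or.inr (Or.inr (Or.inr (Or.inr (Or.inr (Or.inr (Or.inr (⟨rfl, q, rfl⟩)))))))))
    case td4 q =>
      have hx' : x ∈ [2, 6, 12] := hx
      have hy' : y ∈ [2, 6, 12] := hy
      have hxd' : 5 * 12 ∣ 14 * x := hxd
      have hyd' : 14 * 12 ∣ 14 * y := hyd
      have h4 : 2 * 12 ≤ 9 * 12 := h2'
      simp only [List.mem_cons, List.not_mem_nil, or_false] at hx' hy'
      clear hx hy hxd hyd h2' hch hY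
      first | (exfalso; (clear * - hxd' hyd' hx'; solve | lia | omega)) | exact Or.inl ⟨rfl, q, rfl⟩ | exact Or.inr (Or.inl ⟨rfl, q, rfl⟩) | exact Or.inr (Or.inr (Or.inl ⟨rfl, q, rfl⟩)) | exact Or.inr (Or.inr (Or.inr (Or.inl ⟨rfl, q, rfl⟩))) | exact Or.inr (Or.inr (Or.inr (Or.inr (Or.inl ⟨rfl, q, rfl⟩)))) | exact Or.inr (Or.inr (Or.inr (Or.inr (Or.inr (Or.inl ⟨rfl, q, rfl⟩))))) | exact Or.inr (Or.inr (Or.inr (Or.inr (Or.inr (Or.inr (Or.inl ⟨rfl, q, rfl⟩)))))) | exact Or.inr (Or.inr (Or.inr (Or.inr (Or.inr (Or.inr (Or.inr (Or.inl ⟨rfl, q, rfl⟩))))))) | exact Or.inr (Or.inr (Or.inr (Or.inr (Or.inr (Or.inr (Or.inr (Or.inr (Or.inl ⟨rfl, q, rfl⟩)))))))) | exact Or.inr (Or.inr (Or.inr (Or.inr (Or.inr (Or.inr (Or.inr (Or.inr (Or.inr (⟨rfl, q, rfl⟩)))))))))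
    case sz q =>
      have hx' : x ∈ [1, 4] := hx
      have hy' : y ∈ [1, 4] := hy
      have hxd' : 5 * 4 ∣ 14 * x := hxd
      have hyd' : 14 * 4 ∣ 14 * y := hyd
      have h4 : 2 * 2 ≤ 9 * 4 := h2'
      simp only [List.mem_cons, List.not_mem_nil, or_false] at hx' hy'
      clear hx hy hxd hyd h2' hch hY
      first | (exfalso; (clear * - hxd' hx'; omega)) | exact Or.inl ⟨rfl, q, rfl⟩ | exact Or.inr (Or.inl ⟨rfl, q, rfl⟩) | exact Or.inr (Or.inr (Or.inl ⟨rfl, q, rfl⟩)) | exact Or.inr (Or.inr (Or.inr (Or.inl ⟨rfl, q, rfl⟩))) | exact Or.inr (Or.inr (Or.inr (Or.inr (Or.inl ⟨rfl, q, rfl⟩)))) | exact Or.inr (Or.inr (Or.inr (Or.inr (Or.inr (Or.inl ⟨rfl, q, rfl⟩))))) | exact Or.inr (Or.inr (Or.inr (Or.inr (Or.inr (Or.inr (Or.inl ⟨rfl, q, rfl⟩)))))) | exact Or.inr (Or.inr (Or.inr (Or.inr (Or.inr (Or.inr (Or.inr (Or.inl ⟨rfl, q, rfl⟩))))))) | exact Or.inr (Or.inr (Or.inr (Or.inr (Or.inr (Or.inr (Or.inr (Or.inr (Or.inl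 ⟨rfl, q, rfl⟩)))))))) | exact Or.inr (Or.inr (Or.inr (Or.inr (Or.inr (Or.inr (Or.inr (Or.inr (Or.inr (⟨rfl, q, rfl⟩)))))))))
    case ree q =>
      have hx' : x ∈ [1, 6] := hx
      have hy' : y ∈ [1, 6] := hy
      have hxd' : 5 * 6 ∣ 14 * x := hxd
      have hyd' : 14 * 6 ∣ 14 * y := hyd
      have h4 : 2 * 3 ≤ 9 * 6 := h2'
      simp only [List.mem_cons, List.not_mem_nil, or_false] at hx' hy'
      clear hx hy hxd hyd h2' hch hY
      first | (exfalso; omega) | exact Or.inl ⟨rfl, q, rfl⟩ | exact Or.inr (Or.inl ⟨rfl, q, rfl⟩) | exact Or.inr (Or.inr (Or.inl ⟨rfl, q, rfl⟩)) | exact Or.inr (Or.inr (Or.inr (Or.inl ⟨rfl, q, rfl⟩))) | exact Or.inr (Or.inr (Or.inr (Or.inr (Or.inl ⟨rfl, q, rfl⟩)))) | exact Or.inr (Or.inr (Or.inr (Or.inr (Or.inr (Or.inl ⟨rfl, q, rfl⟩))))) | exact Or.inr (Or.inr (Or.inr (Or.inr (Or.inr (Or.inr (Or.inl ⟨rfl, q, rfl⟩)))))) | exact Or.inr (Or.inr (Or.inr (Or.inr (Or.inr (Or.inr (Or.inr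 (Or.inl ⟨rfl, q, rfl⟩))))))) | exact Or.inr (Or.inr (Or.inr (Or.inr (Or.inr (Or.inr (Or.inr (Or.inr (Or.inl ⟨rfl, q, rfl⟩)))))))) | exact Or.inr (Or.inr (Or.inr (Or.inr (Or.inr (Or.inr (Or.inr (Or.inr (Or.inr (⟨rfl, q, rfl⟩)))))))))
    case tf4 q =>
      have hx' : x ∈ [1, 6, 4, 12] := hx
      have hy' : y ∈ [1, 6, 4, 12] := hy
      have hxd' : 5 * 12 ∣ 14 * x := hxd
      have hyd' : 14 * 12 ∣ 14 * y := hyd
      have h4 : 2 * 12 ≤ 9 * 12 := h2'
      simp only [List.mem_cons, List.not_mem_nil, or_false] at hx' hy'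
      clear hx hy hxd hyd h2' hch hY
      first | (exfalso; (solve | lia | omega)) | exact Or.inl ⟨rfl, q, rfl⟩ | exact Or.inr (Or.inl ⟨rfl, q, rfl⟩) | exact Or.inr (Or.inr (Or.inl ⟨rfl, q, rfl⟩)) | exact Or.inr (Or.inr (Or.inr (Or.inl ⟨rfl, q, rfl⟩))) | exact Or.inr (Or.inr (Or.inr (Or.inr (Or.inl ⟨rfl, q, rfl⟩)))) | exact Or.inr (Or.inr (Or.inr (Or.inr (Or.inr (Or.inl ⟨rfl, q, rfl⟩))))) | exact Or.inr (Or.inr (Or.inr (Or.inr (Or.inr (Or.inr (Or.inl ⟨rfl, q, rfl⟩)))))) | exact Or.inr (Or.inr (Or.inr (Or.inr (Or.inr (Or.inr (Or.inr (Or.inl ⟨rfl, q, rfl⟩))))))) | exact Or.inr (Or.inr (Or.inr (Or.inr (Or.inr (Or.inr (Or.inr (Or.inr (Or.inl ⟨rfl, q, rfl⟩)))))))) | exact Or.inr (Or.inr (Or.inr (Or.inr (Or.inr (Or.inr (Or.inr (Or.inr (Or.inr (⟨rfl, q, rfl⟩)))))))))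
    all_goals exact absurd hch not_false
  · have h2' : 2 * ag g ≤ 7 * Mg g := by omega
    clear h2
    cases g
    case psl m q =>
      obtain ⟨hm, -, -⟩ := hg
      have hb := bd_psl (ρ := 7) (by omega) h2'
      have hx' : 1 ≤ x ∧ x ≤ m := hx
      have hy' : 1 ≤ y ∧ y ≤ m := hy
      have hxd' : 5 * m ∣ 18 * x := hxd
      have hyd' : 14 * m ∣ 18 * y := hyd
      clear hx hy hxd hyd h2' hch hY
      interval_cases m <;> first | (exfalso; (solve | lia | omega)) | exact Or.inl ⟨rfl, q, rfl⟩ | exact Or.inr (Or.inl ⟨rfl, q, rfl⟩) | exact Or.inr (Or.inr (Or.inl ⟨rfl, q, rfl⟩)) | exact Or.inr (Or.inr (Or.inr (Or.inl ⟨rfl, q, rfl⟩))) | exact Or.inr (Or.inr (Or.inr (Or.inr (Or.inl ⟨rfl, q, rfl⟩)))) | exact Or.inr (Or.inr (Or.inr (Or.inr (Or.inr (Or.inl ⟨rfl, q, rfl⟩))))) | exact Or.inr (Or.inr (Or.inr (Or.inr (Or.inr (Or.inr (Or.inl ⟨rfl, q, rfl⟩)))))) | exact Or.inr (Or.inr (Or.inr (Or.inr (Or.inr (Or.inr (Or.inr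 (Or.inl ⟨rfl, q, rfl⟩))))))) | exact Or.inr (Or.inr (Or.inr (Or.inr (Or.inr (Or.inr (Or.inr (Or.inr (Or.inl ⟨rfl, q, rfl⟩)))))))) | exact Or.inr (Or.inr (Or.inr (Or.inr (Or.inr (Or.inr (Or.inr (Or.inr (Or.inr (⟨rfl, q, rfl⟩)))))))))
    case psp m q =>
      obtain ⟨hm, -, -⟩ := hg
      have hb := bd_psp (ρ := 7) (by omega) h2'
      have hx' : 1 ≤ x ∧ x ≤ 2 * m ∧ 2 ∣ x := hx
      have hy' : 1 ≤ y ∧ y ≤ 2 * m ∧ 2 ∣ y := hy
      have hxd' : 5 * (2 * m) ∣ 18 * x := hxd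
      have hyd' : 14 * (2 * m) ∣ 18 * y := hyd
      clear hx hy hxd hyd h2' hch hY
      interval_cases m <;> first | (exfalso; (clear * - hx' hxd' hy' hyd'; solve | lia | omega)) | exact Or.inl ⟨rfl, q, rfl⟩ | exact Or.inr (Or.inl ⟨rfl, q, rfl⟩) | exact Or.inr (Or.inr (Or.inl ⟨rfl, q, rfl⟩)) | exact Or.inr (Or.inr (Or.inr (Or.inl ⟨rfl, q, rfl⟩))) | exact Or.inr (Or.inr (Or.inr (Or.inr (Or.inl ⟨rfl, q, rfl⟩)))) | exact Or.inr (Or.inr (Or.inr (Or.inr (Or.inr (Or.inl ⟨rfl, q, rfl⟩))))) | exact Or.inr (Or.inr (Or.inr (Or.inr (Or.inr (Or.inr (Or.inl ⟨rfl, q, rfl⟩)))))) | exact Or.inr (Or.inr (Or.inr (Or.inr (Or.inr (Or.inr (Or.inr (Or.inl ⟨rfl, q, rfl⟩))))))) | exact Or.inr (Or.inr (Or.inr (Or.inr (Or.inr (Or.inr (Or.inr (Or.inr (Or.inl ⟨rfl, q, rfl⟩)))))))) | exact Or.inr (Or.inr (Or.inr (Or.inr (Or.inr (Or.inr (Or.inr (Or.inr (Or.inr (⟨rfl, q, rfl⟩)))))))))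
    case oodd m q =>
      obtain ⟨hm, -, -⟩ := hg
      have hb := bd_psp (ρ := 7) (by omega) h2'
      have hx' : 1 ≤ x ∧ x ≤ 2 * m ∧ 2 ∣ x := hx
      have hy' : 1 ≤ y ∧ y ≤ 2 * m ∧ 2 ∣ y := hy
      have hxd' : 5 * (2 * m) ∣ 18 * x := hxd
      have hyd' : 14 * (2 * m) ∣ 18 * y := hyd
      clear hx hy hxd hyd h2' hch hY
      interval_cases m <;> first | (exfalso; (clear * - hx' hxd' hy' hyd'; (solve | lia | omega))) | exact Or.inl ⟨rfl, q, rfl⟩ | exact Or.inr (Or.inl ⟨rfl, q, rfl⟩) | exact Or.inr (Or.inr (Or.inl ⟨rfl, q, rfl⟩)) | exact Or.inr (Or.inr (Or.inr (Or.inl ⟨rfl, q, rfl⟩))) | exact Or.inr (Or.inr (Or.inr (Or.inr (Or.inl ⟨rfl, q, rfl⟩)))) | exact Or.inr (Or.inr (Or.inr (Or.inr (Or.inr (Or.inl ⟨rfl, q, rfl⟩))))) | exact Or.inr (Or.inr (Or.inr (Or.inr (Or.inr (Or.inr (Or.inl ⟨rfl, q, rfl⟩)))))) | exact Or.inr (Or.inr (Or.inr (Or.inr (Or.inr (Or.inr (Or.inr (Or.inl ⟨rfl, q, rfl⟩))))))) | exact Or.inr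 (Or.inr (Or.inr (Or.inr (Or.inr (Or.inr (Or.inr (Or.inr (Or.inl ⟨rfl, q, rfl⟩)))))))) | exact Or.inr (Or.inr (Or.inr (Or.inr (Or.inr (Or.inr (Or.inr (Or.inr (Or.inr (⟨rfl, q, rfl⟩)))))))))
    case psu m q =>
      obtain ⟨hm, -, -⟩ := hg
      have hb := bd_psu (ρ := 7) hm h2'
      have hx' : (1 ≤ x ∧ x ≤ m ∧ 2 ∣ x) ∨ ∃ j, x = 2 * j ∧ j ≤ m ∧ j % 2 = 1 := hx
      have hy' : (1 ≤ y ∧ y ≤ m ∧ 2 ∣ y) ∨ ∃ j, y = 2 * j ∧ j ≤ m ∧ j % 2 = 1 := hy
      obtain ⟨k, hk⟩ : ∃ k, k = (if m % 2 = 0 then m - 1 else m) := ⟨_, rfl⟩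
      have hk' : (m % 2 = 0 ∧ k = m - 1) ∨ (m % 2 = 1 ∧ k = m) := by
        rw [hk]
        split_ifs <;> omega
      have hM : Mg (.psu m q) = 2 * k := by rw [hk]; rfl
      have hxd' : 5 * (2 * k) ∣ 18 * x := hM ▸ hxd
      have hyd' : 14 * (2 * k) ∣ 18 * y := hM ▸ hyd
      clear hx hy hxd hyd h2' hch hY hM hk
      rcases hk' with ⟨hk1, hk2⟩ | ⟨hk1, hk2⟩ <;> rcases hx' with hx' | ⟨j, rfl, hx'⟩ <;>
        rcases hy' with hy' | ⟨l, rfl, hy'⟩ <;> interval_cases m <;> subst hk2 <;> first | (exfalso; omega) | exact Or.inl ⟨rfl, q, rfl⟩ | exact Or.inr (Or.inl ⟨rfl, q, rfl⟩) | exact Or.inr (Or.inr (Or.inl ⟨rfl, q, rfl⟩)) | exact Or.inr (Or.inr (Or.inr (Or.inl ⟨rfl, q, rfl⟩))) | exact Or.inr (Or.inr (Or.inr (Or.inr (Or.inl ⟨rfl, q, rfl⟩)))) | exact Or.inr (Or.inr (Or.inr (Or.inr (Or.inr (Or.inl ⟨rfl, q, rfl⟩))))) | exact Or.inr (Or.inr (Or.inr (Or.inr (Or.inr (Or.inr (Or.inl ⟨rfl, q, rfl⟩)))))) | exact Or.inr (Or.inr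 (Or.inr (Or.inr (Or.inr (Or.inr (Or.inr (Or.inl ⟨rfl, q, rfl⟩))))))) | exact Or.inr (Or.inr (Or.inr (Or.inr (Or.inr (Or.inr (Or.inr (Or.inr (Or.inl ⟨rfl, q, rfl⟩)))))))) | exact Or.inr (Or.inr (Or.inr (Or.inr (Or.inr (Or.inr (Or.inr (Or.inr (Or.inr (⟨rfl, q, rfl⟩)))))))))
    case oplus m q =>
      obtain ⟨hm, -⟩ := hg
      have hb := bd_oplus (ρ := 7) (by omega) h2'
      have hx' : 1 ≤ x ∧ x ≤ 2 * (m - 1) ∧ (2 ∣ x ∨ x = m) := hx
      have hy' : 1 ≤ y ∧ y ≤ 2 * (m - 1) ∧ (2 ∣ y ∨ y = m) := hy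
      have hxd' : 5 * (2 * (m - 1)) ∣ 18 * x := hxd
      have hyd' : 14 * (2 * (m - 1)) ∣ 18 * y := hyd
      clear hx hy hxd hyd h2' hch hY
      interval_cases m <;> first | (exfalso; (solve | lia | omega)) | exact Or.inl ⟨rfl, q, rfl⟩ | exact Or.inr (Or.inl ⟨rfl, q, rfl⟩) | exact Or.inr (Or.inr (Or.inl ⟨rfl, q, rfl⟩)) | exact Or.inr (Or.inr (Or.inr (Or.inl ⟨rfl, q, rfl⟩))) | exact Or.inr (Or.inr (Or.inr (Or.inr (Or.inl ⟨rfl, q, rfl⟩)))) | exact Or.inr (Or.inr (Or.inr (Or.inr (Or.inr (Or.inl ⟨rfl, q, rfl⟩))))) | exact Or.inr (Or.inr (Or.inr (Or.inr (Or.inr (Or.inr (Or.inl ⟨rfl, q, rfl⟩)))))) | exact Or.inr (Or.inr (Or.inr (Or.inr (Or.inr (Or.inr (Or.inr (Or.inl ⟨rfl, q, rfl⟩))))))) | exact Or.inr (Or.inr (Or.inr (Or.inr (Or.inr (Or.inr (Or.inr (Or.inr (Or.inl ⟨rfl, q, rfl⟩)))))))) | exact Or.inr (Or.inr (Or.inr (Or.inr (Or.inr (Or.inr (Or.inr (Or.inr (Or.inr (⟨rfl, q, rfl⟩)))))))))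
    case ominus m q =>
      obtain ⟨hm, -⟩ := hg
      have hb := bd_ominus (ρ := 7) (by omega) h2'
      have hx' : 1 ≤ x ∧ x ≤ 2 * m ∧ 2 ∣ x := hx
      have hy' : 1 ≤ y ∧ y ≤ 2 * m ∧ 2 ∣ y := hy
      have hxd' : 5 * (2 * m) ∣ 18 * x := hxd
      have hyd' : 14 * (2 * m) ∣ 18 * y := hyd
      clear hx hy hxd hyd h2' hch hY
      interval_cases m <;> first | (exfalso; (clear * - hx' hxd' hy' hyd'; (solve | lia | omega))) | exact Or.inl ⟨rfl, q, rfl⟩ | exact Or.inr (Or.inl ⟨rfl, q, rfl⟩) | exact Or.inr (Or.inr (Or.inl ⟨rfl, q, rfl⟩)) | exact Or.inr (Or.inr (Or.inr (Or.inl ⟨rfl, q, rfl⟩))) | exact Or.inr (Or.inr (Or.inr (Or.inr (Or.inl ⟨rfl, q, rfl⟩)))) | exact Or.inr (Or.inr (Or.inr (Or.inr (Or.inr (Or.inl ⟨rfl, q, rfl⟩))))) | exact Or.inr (Or.inr (Or.inr (Or.inr (Or.inr (Or.inr (Or.inl ⟨rfl, q, rfl⟩)))))) | exact Or.inr (Or.inr (Or.inr (Or.inr (Or.inr (Or.inr (Or.inr (Or.inl ⟨rfl, q, rfl⟩))))))) | exact Or.inr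 (Or.inr (Or.inr (Or.inr (Or.inr (Or.inr (Or.inr (Or.inr (Or.inl ⟨rfl, q, rfl⟩)))))))) | exact Or.inr (Or.inr (Or.inr (Or.inr (Or.inr (Or.inr (Or.inr (Or.inr (Or.inr (⟨rfl, q, rfl⟩)))))))))
    case g2 q =>
      have hx' : x ∈ [2, 6] := hx
      have hy' : y ∈ [2, 6] := hy
      have hxd' : 5 * 6 ∣ 18 * x := hxd
      have hyd' : 14 * 6 ∣ 18 * y := hyd
      have h4 : 2 * 6 ≤ 7 * 6 := h2'
      simp only [List.mem_cons, List.not_mem_nil, or_false] at hx' hy'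
      clear hx hy hxd hyd h2' hch hY
      first | (exfalso; (solve | lia | omega)) | exact Or.inl ⟨rfl, q, rfl⟩ | exact Or.inr (Or.inl ⟨rfl, q, rfl⟩) | exact Or.inr (Or.inr (Or.inl ⟨rfl, q, rfl⟩)) | exact Or.inr (Or.inr (Or.inr (Or.inl ⟨rfl, q, rfl⟩))) | exact Or.inr (Or.inr (Or.inr (Or.inr (Or.inl ⟨rfl, q, rfl⟩)))) | exact Or.inr (Or.inr (Or.inr (Or.inr (Or.inr (Or.inl ⟨rfl, q, rfl⟩))))) | exact Or.inr (Or.inr (Or.inr (Or.inr (Or.inr (Or.inr (Or.inl ⟨rfl, q, rfl⟩)))))) | exact Or.inr (Or.inr (Or.inr (Or.inr (Or.inr (Or.inr (Or.inr (Or.inl ⟨rfl, q, rfl⟩))))))) | exact Or.inr (Or.inr (Or.inr (Or.inr (Or.inr (Or.inr (Or.inr (Or.inr (Or.inl ⟨rfl, q, rfl⟩)))))))) | exact Or.inr (Or.inr (Or.inr (Or.inr (Or.inr (Or.inr (Or.inr (Or.inr (Or.inr (⟨rfl, q, rfl⟩)))))))))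
    case f4 q =>
      have hx' : x ∈ [2, 6, 8, 12] := hx
      have hy' : y ∈ [2, 6, 8, 12] := hy
      have hxd' : 5 * 12 ∣ 18 * x := hxd
      have hyd' : 14 * 12 ∣ 18 * y := hyd
      have h4 : 2 * 24 ≤ 7 * 12 := h2'
      simp only [List.mem_cons, List.not_mem_nil, or_false] at hx' hy'
      clear hx hy hxd hyd h2' hch hY
      first | (exfalso; omega) | exact Or.inl ⟨rfl, q, rfl⟩ | exact Or.inr (Or.inl ⟨rfl, q, rfl⟩) | exact Or.inr (Or.inr (Or.inl ⟨rfl, q, rfl⟩)) | exact Or.inr (Or.inr (Or.inr (Or.inl ⟨rfl, q, rfl⟩))) | exact Or.inr (Or.inr (Or.inr (Or.inr (Or.inl ⟨rfl, q, rfl⟩)))) | exact Or.inr (Or.inr (Or.inr (Or.inr (Or.inr (Or.inl ⟨rfl, q, rfl⟩))))) | exact Or.inr (Or.inr (Or.inr (Or.inr (Or.inr (Or.inr (Or.inl ⟨rfl, q, rfl⟩)))))) | exact Or.inr (Or.inr (Or.inr (Or.inr (Or.inr (Or.inr (Or.inr (Or.inl ⟨rfl, q, rfl⟩))))))) | exact Or.inr (Or.inr (Or.inr (Or.inr (Or.inr (Or.inr (Or.inr (Or.inr (Or.inl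 ⟨rfl, q, rfl⟩)))))))) | exact Or.inr (Or.inr (Or.inr (Or.inr (Or.inr (Or.inr (Or.inr (Or.inr (Or.inr (⟨rfl, q, rfl⟩)))))))))
    case e6 q =>
      have hx' : x ∈ [2, 5, 6, 8, 9, 12] := hx
      have hy' : y ∈ [2, 5, 6, 8, 9, 12] := hy
      have hxd' : 5 * 12 ∣ 18 * x := hxd
      have hyd' : 14 * 12 ∣ 18 * y := hyd
      have h4 : 2 * 36 ≤ 7 * 12 := h2'
      simp only [List.mem_cons, List.not_mem_nil, or_false] at hx' hy'
      clear hx hy hxd hyd h2' hch hY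
      first | (exfalso; (clear * - hyd' hy'; solve | lia | omega)) | exact Or.inl ⟨rfl, q, rfl⟩ | exact Or.inr (Or.inl ⟨rfl, q, rfl⟩) | exact Or.inr (Or.inr (Or.inl ⟨rfl, q, rfl⟩)) | exact Or.inr (Or.inr (Or.inr (Or.inl ⟨rfl, q, rfl⟩))) | exact Or.inr (Or.inr (Or.inr (Or.inr (Or.inl ⟨rfl, q, rfl⟩)))) | exact Or.inr (Or.inr (Or.inr (Or.inr (Or.inr (Or.inl ⟨rfl, q, rfl⟩))))) | exact Or.inr (Or.inr (Or.inr (Or.inr (Or.inr (Or.inr (Or.inl ⟨rfl, q, rfl⟩)))))) | exact Or.inr (Or.inr (Or.inr (Or.inr (Or.inr (Or.inr (Or.inr (Or.inl ⟨rfl, q, rfl⟩))))))) | exact Or.inr (Or.inr (Or.inr (Or.inr (Or.inr (Or.inr (Or.inr (Or.inr (Or.inl ⟨rfl, q, rfl⟩)))))))) | exact Or.inr (Or.inr (Or.inr (Or.inr (Or.inr (Or.inr (Or.inr (Or.inr (Or.inr (⟨rfl, q, rfl⟩)))))))))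
    case e7 q =>
      have hx' : x ∈ [2, 6, 8, 10, 12, 14, 18] := hx
      have hy' : y ∈ [2, 6, 8, 10, 12, 14, 18] := hy
      have hxd' : 5 * 18 ∣ 18 * x := hxd
      have hyd' : 14 * 18 ∣ 18 * y := hyd
      have h4 : 2 * 63 ≤ 7 * 18 := h2'
      simp only [List.mem_cons, List.not_mem_nil, or_false] at hx' hy'
      clear hx hy hxd hyd h2' hch hY
      first | (exfalso; omega) | exact Or.inl ⟨rfl, q, rfl⟩ | exact Or.inr (Or.inl ⟨rfl, q, rfl⟩) | exact Or.inr (Or.inr (Or.inl ⟨rfl, q, rfl⟩)) | exact Or.inr (Or.inr (Or.inr (Or.inl ⟨rfl, q, rfl⟩))) | exact Or.inr (Or.inr (Or.inr (Or.inr (Or.inl ⟨rfl, q, rfl⟩)))) | exact Or.inr (Or.inr (Or.inr (Or.inr (Or.inr (Or.inl ⟨rfl, q, rfl⟩))))) | exact Or.inr (Or.inr (Or.inr (Or.inr (Or.inr (Or.inr (Or.inl ⟨rfl, q, rfl⟩)))))) | exact Or.inr (Or.inr (Or.inr (Or.inr (Or.inr (Or.inr (Or.inr (Or.inl ⟨rfl, q, rfl⟩))))))) | exact Or.inr (Or.inr (Or.inr (Or.inr (Or.inr (Or.inr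 (Or.inr (Or.inr (Or.inl ⟨rfl, q, rfl⟩)))))))) | exact Or.inr (Or.inr (Or.inr (Or.inr (Or.inr (Or.inr (Or.inr (Or.inr (Or.inr (⟨rfl, q, rfl⟩)))))))))
    case e8 q =>
      have hx' : x ∈ [2, 8, 12, 14, 18, 20, 24, 30] := hx
      have hy' : y ∈ [2, 8, 12, 14, 18, 20, 24, 30] := hy
      have hxd' : 5 * 30 ∣ 18 * x := hxd
      have hyd' : 14 * 30 ∣ 18 * y := hyd
      have h4 : 2 * 120 ≤ 7 * 30 := h2'
      simp only [List.mem_cons, List.not_mem_nil, or_false] at hx' hy'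
      clear hx hy hxd hyd h2' hch hY
      first | (exfalso; omega) | exact Or.inl ⟨rfl, q, rfl⟩ | exact Or.inr (Or.inl ⟨rfl, q, rfl⟩) | exact Or.inr (Or.inr (Or.inl ⟨rfl, q, rfl⟩)) | exact Or.inr (Or.inr (Or.inr (Or.inl ⟨rfl, q, rfl⟩))) | exact Or.inr (Or.inr (Or.inr (Or.inr (Or.inl ⟨rfl, q, rfl⟩)))) | exact Or.inr (Or.inr (Or.inr (Or.inr (Or.inr (Or.inl ⟨rfl, q, rfl⟩))))) | exact Or.inr (Or.inr (Or.inr (Or.inr (Or.inr (Or.inr (Or.inl ⟨rfl, q, rfl⟩)))))) | exact Or.inr (Or.inr (Or.inr (Or.inr (Or.inr (Or.inr (Or.inr (Or.inl ⟨rfl, q, rfl⟩))))))) | exact Or.inr (Or.inr (Or.inr (Or.inr (Or.inr (Or.inr (Or.inr (Or.inr (Or.inl ⟨rfl, q, rfl⟩)))))))) | exact Or.inr (Or.inr (Or.inr (Or.inr (Or.inr (Or.inr (Or.inr (Or.inr (Or.inr (⟨rfl, q, rfl⟩)))))))))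
    case te6 q =>
      have hx' : x ∈ [2, 10, 6, 8, 18, 12] := hx
      have hy' : y ∈ [2, 10, 6, 8, 18, 12] := hy
      have hxd' : 5 * 18 ∣ 18 * x := hxd
      have hyd' : 14 * 18 ∣ 18 * y := hyd
      have h4 : 2 * 36 ≤ 7 * 18 := h2'
      simp only [List.mem_cons, List.not_mem_nil, or_false] at hx' hy'
      clear hx hy hxd hyd h2' hch hY
      first | (exfalso; omega) | exact Or.inl ⟨rfl, q, rfl⟩ | exact Or.inr (Or.inl ⟨rfl, q, rfl⟩) | exact Or.inr (Or.inr (Or.inl ⟨rfl, q, rfl⟩)) | exact Or.inr (Or.inr (Or.inr (Or.inl ⟨rfl, q, rfl⟩))) | exact Or.inr (Or.inr (Or.inr (Or.inr (Or.inl ⟨rfl, q, rfl⟩)))) | exact Or.inr (Or.inr (Or.inr (Or.inr (Or.inr (Or.inl ⟨rfl, q, rfl⟩))))) | exact Or.inr (Or.inr (Or.inr (Or.inr (Or.inr (Or.inr (Or.inl ⟨rfl, q, rfl⟩)))))) | exact Or.inr (Or.inr (Or.inr (Or.inr (Or.inr (Or.inr (Or.inr (Or.inl ⟨rfl, q, rfl⟩))))))) | exact Or.inr (Or.inr (Or.inr (Or.inr (Or.inr (Or.inr (Or.inr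 (Or.inr (Or.inl ⟨rfl, q, rfl⟩)))))))) | exact Or.inr (Or.inr (Or.inr (Or.inr (Or.inr (Or.inr (Or.inr (Or.inr (Or.inr (⟨rfl, q, rfl⟩)))))))))
    case td4 q =>
      have hx' : x ∈ [2, 6, 12] := hx
      have hy' : y ∈ [2, 6, 12] := hy
      have hxd' : 5 * 12 ∣ 18 * x := hxd
      have hyd' : 14 * 12 ∣ 18 * y := hyd
      have h4 : 2 * 12 ≤ 7 * 12 := h2'
      simp only [List.mem_cons, List.not_mem_nil, or_false] at hx' hy'
      clear hx hy hxd hyd h2' hch hY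
      first | (exfalso; (solve | lia | omega)) | exact Or.inl ⟨rfl, q, rfl⟩ | exact Or.inr (Or.inl ⟨rfl, q, rfl⟩) | exact Or.inr (Or.inr (Or.inl ⟨rfl, q, rfl⟩)) | exact Or.inr (Or.inr (Or.inr (Or.inl ⟨rfl, q, rfl⟩))) | exact Or.inr (Or.inr (Or.inr (Or.inr (Or.inl ⟨rfl, q, rfl⟩)))) | exact Or.inr (Or.inr (Or.inr (Or.inr (Or.inr (Or.inl ⟨rfl, q, rfl⟩))))) | exact Or.inr (Or.inr (Or.inr (Or.inr (Or.inr (Or.inr (Or.inl ⟨rfl, q, rfl⟩)))))) | exact Or.inr (Or.inr (Or.inr (Or.inr (Or.inr (Or.inr (Or.inr (Or.inl ⟨rfl, q, rfl⟩))))))) | exact Or.inr (Or.inr (Or.inr (Or.inr (Or.inr (Or.inr (Or.inr (Or.inr (Or.inl ⟨rfl, q, rfl⟩)))))))) | exact Or.inr (Or.inr (Or.inr (Or.inr (Or.inr (Or.inr (Or.inr (Or.inr (Or.inr (⟨rfl, q, rfl⟩)))))))))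
    case sz q =>
      have hx' : x ∈ [1, 4] := hx
      have hy' : y ∈ [1, 4] := hy
      have hxd' : 5 * 4 ∣ 18 * x := hxd
      have hyd' : 14 * 4 ∣ 18 * y := hyd
      have h4 : 2 * 2 ≤ 7 * 4 := h2'
      simp only [List.mem_cons, List.not_mem_nil, or_false] at hx' hy'
      clear hx hy hxd hyd h2' hch hY
      first | (exfalso; omega) | exact Or.inl ⟨rfl, q, rfl⟩ | exact Or.inr (Or.inl ⟨rfl, q, rfl⟩) | exact Or.inr (Or.inr (Or.inl ⟨rfl, q, rfl⟩)) | exact Or.inr (Or.inr (Or.inr (Or.inl ⟨rfl, q, rfl⟩))) | exact Or.inr (Or.inr (Or.inr (Or.inr (Or.inl ⟨rfl, q, rfl⟩)))) | exact Or.inr (Or.inr (Or.inr (Or.inr (Or.inr (Or.inl ⟨rfl, q, rfl⟩))))) | exact Or.inr (Or.inr (Or.inr (Or.inr (Or.inr (Or.inr (Or.inl ⟨rfl, q, rfl⟩)))))) | exact Or.inr (Or.inr (Or.inr (Or.inr (Or.inr (Or.inr (Or.inr (Or.inl ⟨rfl, q, rfl⟩))))))) | exact Or.inr (Or.inr (Or.inr (Or.inr (Or.inr (Or.inr (Or.inr (Or.inr (Or.inl ⟨rfl, q, rfl⟩))))))))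 | exact Or.inr (Or.inr (Or.inr (Or.inr (Or.inr (Or.inr (Or.inr (Or.inr (Or.inr (⟨rfl, q, rfl⟩)))))))))
    case ree q =>
      have hx' : x ∈ [1, 6] := hx
      have hy' : y ∈ [1, 6] := hy
      have hxd' : 5 * 6 ∣ 18 * x := hxd
      have hyd' : 14 * 6 ∣ 18 * y := hyd
      have h4 : 2 * 3 ≤ 7 * 6 := h2'
      simp only [List.mem_cons, List.not_mem_nil, or_false] at hx' hy'
      clear hx hy hxd hyd h2' hch hY
      first | (exfalso; (clear * - hyd' hy'; solve | lia | omega)) | exact Or.inl ⟨rfl, q, rfl⟩ | exact Or.inr (Or.inl ⟨rfl, q, rfl⟩) | exact Or.inr (Or.inr (Or.inl ⟨rfl, q, rfl⟩)) | exact Or.inr (Or.inr (Or.inr (Or.inl ⟨rfl, q, rfl⟩))) | exact Or.inr (Or.inr (Or.inr (Or.inr (Or.inl ⟨rfl, q, rfl⟩)))) | exact Or.inr (Or.inr (Or.inr (Or.inr (Or.inr (Or.inl ⟨rfl, q, rfl⟩))))) | exact Or.inr (Or.inr (Or.inr (Or.inr (Or.inr (Or.inr (Or.inl ⟨rfl, q, rfl⟩)))))) | exact Or.inr (Or.inr (Or.inr (Or.inr (Or.inr (Or.inr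 (Or.inr (Or.inl ⟨rfl, q, rfl⟩))))))) | exact Or.inr (Or.inr (Or.inr (Or.inr (Or.inr (Or.inr (Or.inr (Or.inr (Or.inl ⟨rfl, q, rfl⟩)))))))) | exact Or.inr (Or.inr (Or.inr (Or.inr (Or.inr (Or.inr (Or.inr (Or.inr (Or.inr (⟨rfl, q, rfl⟩)))))))))
    case tf4 q =>
      have hx' : x ∈ [1, 6, 4, 12] := hx
      have hy' : y ∈ [1, 6, 4, 12] := hy
      have hxd' : 5 * 12 ∣ 18 * x := hxd
      have hyd' : 14 * 12 ∣ 18 * y := hyd
      have h4 : 2 * 12 ≤ 7 * 12 := h2'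
      simp only [List.mem_cons, List.not_mem_nil, or_false] at hx' hy'
      clear hx hy hxd hyd h2' hch hY
      first | (exfalso; omega) | exact Or.inl ⟨rfl, q, rfl⟩ | exact Or.inr (Or.inl ⟨rfl, q, rfl⟩) | exact Or.inr (Or.inr (Or.inl ⟨rfl, q, rfl⟩)) | exact Or.inr (Or.inr (Or.inr (Or.inl ⟨rfl, q, rfl⟩))) | exact Or.inr (Or.inr (Or.inr (Or.inr (Or.inl ⟨rfl, q, rfl⟩)))) | exact Or.inr (Or.inr (Or.inr (Or.inr (Or.inr (Or.inl ⟨rfl, q, rfl⟩))))) | exact Or.inr (Or.inr (Or.inr (Or.inr (Or.inr (Or.inr (Or.inl ⟨rfl, q, rfl⟩)))))) | exact Or.inr (Or.inr (Or.inr (Or.inr (Or.inr (Or.inr (Or.inr (Or.inl ⟨rfl, q, rfl⟩))))))) | exact Or.inr (Or.inr (Or.inr (Or.inr (Or.inr (Or.inr (Or.inr (Or.inr (Or.inl ⟨rfl, q, rfl⟩)))))))) | exact Or.inr (Or.inr (Or.inr (Or.inr (Or.inr (Or.inr (Or.inr (Or.inr (Or.inr (⟨rfl, q, rfl⟩)))))))))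
    all_goals exact absurd hch not_false


/-! ### one prime of the first class -/

theorem compP1 {XT : ℕ → Prop} {MT aT e1 e2 f₁ : ℕ} (hp : p.Prime) (hf : 1 ≤ f) (hg : Cond g) (hch : HasChar p g)
    (hf₁ : 1 ≤ f₁) (hfl : fld g = p ^ f₁) (hK : KD p f₁ c (Xg g) (Yg g) (Mg g) (ag g)) (hY : Yg g (Mg g))
    (hT : TD p f c XT MT aT) (h7 : 7 ≤ e2) (h2 : MT < 2 * e2)
    (hs1 : ∃ s, Prim p (f * e1) s ∧ s ∣ c) (hs2 : HT p f e2 g c) :
    ∃ i, XT i ∧ e2 ≤ i ∧ f₁ * Mg g = f * i ∧ ag g * i ≤ aT * Mg g ∧ (∃ x, Xg g x ∧ e1 * Mg g ∣ i * x) ∧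
      (∃ x, Xg g x ∧ e2 * Mg g ∣ i * x) ∧
      (∀ k, (k = 4 ∨ k = 5 ∨ 7 ≤ k) → Yg g k → ∃ j, XT j ∧ i * k ∣ Mg g * j) := by
  have hM2 := two_le_Mg hg hch
  have hfe2 : 1 * e2 ≤ f * e2 := Nat.mul_le_mul_right _ hf
  have hb := f1_le2 hp hf hT hK hY hM2 h2.le (by omega)
  have hs2' : ∀ s, Prim p (f * e2) s → s ∣ c := fun s hs => by
    refine hs2.mem hp hfl (prim_pow hf hs) fun hd => ?_
    have h3 := lt_of_prim hs
    have := Nat.le_of_dvd (by omega) hd
    omega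
  obtain ⟨i, hi, hei, hfM, ha, hX, hYc⟩ := comp2 hp hf hT hK hf₁ h7 h2 hs2' hY
  refine ⟨i, hi, hei, hfM, ha, ?_, hX e2 (by omega) (by omega) hs2', fun k hk hYk => hYc k hYk ?_ ?_⟩
  · obtain ⟨s, hs, hsc⟩ := hs1
    obtain ⟨x, hx, k, hk⟩ := hK.exp hs hsc
    refine ⟨x, hx, ?_⟩
    refine Nat.dvd_of_mul_dvd_mul_left (show 0 < f by omega) ⟨k, ?_⟩
    calc f * (i * x) = (f * i) * x := by ring
      _ = (f₁ * Mg g) * x := by rw [hfM]
      _ = (f₁ * x) * Mg g := by ring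
      _ = f * e1 * k * Mg g := by rw [hk]
      _ = f * (e1 * Mg g) * k := by ring
  · have : 1 * k ≤ f₁ * k := Nat.mul_le_mul_right _ hf₁
    omega
  · rintro ⟨-, h⟩
    have h8 : k ∣ 6 := ⟨f₁, by rw [← h, mul_comm]⟩
    have h9 := Nat.le_of_dvd (by norm_num) h8
    rcases hk with rfl | rfl | hk
    · exact absurd h8 (by norm_num)
    · exact absurd h8 (by norm_num)
    · omega

/-! ### kills -/

/-- the orthogonal groups of minus type contain no primes of odd order `e`, `m ≤ e` -/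
theorem kill_om {n e f₁ : ℕ} (hp : p.Prime) (hf : 1 ≤ f) (he : e % 2 = 1) (he3 : 2 ≤ e) (hn : n ≤ e)
    (h1 : f₁ = f) (hc : den (.ominus n (p ^ f₁)) * c = num (.ominus n (p ^ f₁))) (hs : HT p f e (.ominus n (p ^ f₁)) c)
    (he5 : 5 ≤ e) : False := by
  subst h1
  obtain ⟨s, hs0⟩ := exists_prim (q := p) (e := f₁ * e) hp.two_le (by nlinarith only [he5, hf]) (by
    rintro ⟨-, h⟩
    have h8 : e ∣ 6 := ⟨f₁, by rw [← h, mul_comm]⟩
    have h9 := Nat.le_of_dvd (by norm_num) h8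
    interval_cases e
    · exact absurd h8 (by norm_num)
    · omega)
  have hs' := prim_pow hf hs0
  have h2 := hs.mem hp rfl hs' fun h => by
    have h3 := lt_of_prim hs0
    have h4 := Nat.le_of_dvd hf h
    nlinarith only [he5, h3, h4]
  have h3 : s ∣ num (.ominus n (p ^ f₁)) := by
    rw [← hc]
    exact h2.mul_left _
  have h4 : s ∣ (p ^ f₁) ^ (n * (n - 1)) * (((p ^ f₁) ^ n + 1) * prB (p ^ f₁) (n - 1)) := h3
  rcases hs'.prime.dvd_mul.1 h4 with h5 | h5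
  · exact hs'.not_dvd_pow _ h5
  rcases hs'.prime.dvd_mul.1 h5 with h5 | h5
  · exact not_dvd_add_odd hs' he he3 _ h5
  rw [prB_eq, Prime.dvd_finsetProd_iff hs'.prime.prime] at h5
  obtain ⟨i, hi, hd⟩ := h5
  rw [Finset.mem_range] at hi
  rw [hs'.dvd_iff] at hd
  obtain ⟨k, hk⟩ := hd
  rcases Nat.lt_or_ge k 2 with h4 | h4
  · interval_cases k
    · omega
    · omega
  · have : e * 2 ≤ e * k := Nat.mul_le_mul_left _ h4
    omega

section Kill

variable {s : ℕ} (hp : p.Prime) (hf : 1 ≤ f) (hs4 : Prim (p ^ f) 4 s) (hd : c ∣ num (.e7 (p ^ f)))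

include hp hf hs4 hd

/-- too many factors divisible by the primes of order `4` -/
theorem kill4_e7 {D A : ℕ} (hD : ¬ s ∣ D)
    (h : D * c = A * (((p ^ f) ^ 4 - 1) * (((p ^ f) ^ 8 - 1) * ((p ^ f) ^ 12 - 1)))) : False := by
  have hq : 2 ≤ p ^ f := hp.two_le.trans (Nat.le_self_pow (by omega) _)
  have b2 := sub_pos' (d := 2) hq (by norm_num)
  have b6 := sub_pos' (d := 6) hq (by norm_num)
  have b8 := sub_pos' (d := 8) hq (by norm_num)
  have b10 := sub_pos' (d := 10) hq (by norm_num)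
  have b12 := sub_pos' (d := 12) hq (by norm_num)
  have b14 := sub_pos' (d := 14) hq (by norm_num)
  have b18 := sub_pos' (d := 18) hq (by norm_num)
  have hd' : c ∣ (p ^ f) ^ 63 * ((((p ^ f) ^ 2 - 1) * ((p ^ f) ^ 6 - 1) * ((p ^ f) ^ 10 - 1) * ((p ^ f) ^ 14 - 1) *
      ((p ^ f) ^ 18 - 1)) * (((p ^ f) ^ 8 - 1) * ((p ^ f) ^ 12 - 1))) := by
    have h1 : c ∣ (p ^ f) ^ 63 * (((p ^ f) ^ 2 - 1) * ((p ^ f) ^ 6 - 1) *
      ((p ^ f) ^ 8 - 1) * ((p ^ f) ^ 10 - 1) * ((p ^ f) ^ 12 - 1) * ((p ^ f) ^ 14 - 1) * ((p ^ f) ^ 18 - 1)) := hd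
    refine h1.trans (dvd_of_eq ?_)
    ring
  have hc0 : 0 < c := pos_of_dvd (by (clear * - hq b2 b6 b8 b10 b12 b14 b18; positivity)) hd'
  refine cancel_prime hs4.prime (Z := ((p ^ f) ^ 8 - 1) * ((p ^ f) ^ 12 - 1)) (by (clear * - b8 b12; positivity)) hc0 h hd'
    (hs4.dvd dvd_rfl) hD (hs4.not_dvd_pow _) (fun h => ?_)
  rcases hs4.prime.dvd_mul.1 h with h | h
  · rcases hs4.prime.dvd_mul.1 h with h | h
    · rcases hs4.prime.dvd_mul.1 h with h | h
      · rcases hs4.prime.dvd_mul.1 h with h | h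
        · exact hs4.not_dvd_sub (by norm_num) h
        · exact hs4.not_dvd_sub (by norm_num) h
      · exact hs4.not_dvd_sub (by norm_num) h
    · exact hs4.not_dvd_sub (by norm_num) h
  · exact hs4.not_dvd_sub (by norm_num) h

theorem kill4_e7_psp (hc : den (.psp 7 (p ^ f)) * c = num (.psp 7 (p ^ f))) : False := by
  have hs5 : 5 ≤ s := by
    have := lt_of_prim hs4
    omega
  have h6 : Nat.gcd 2 (p ^ f - 1) * c = (p ^ f) ^ (7 ^ 2) * prB (p ^ f) 7 := hc
  refine kill4_e7 hp hf hs4 hd (D := Nat.gcd 2 (p ^ f - 1)) (A := (p ^ f) ^ (7 ^ 2) * (((p ^ f) ^ 2 - 1) *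
    ((p ^ f) ^ 6 - 1) * ((p ^ f) ^ 10 - 1) * ((p ^ f) ^ 14 - 1))) (fun h => ?_) ?_
  · have := Nat.le_of_dvd (by norm_num) (h.trans (Nat.gcd_dvd_left _ _))
    omega
  · rw [h6, prB_eq]
    simp only [Finset.prod_range_succ, Finset.prod_range_zero, one_mul]
    norm_num only
    ring

theorem kill4_e7_oodd (hc : den (.oodd 7 (p ^ f)) * c = num (.oodd 7 (p ^ f))) : False := by
  have hs5 : 5 ≤ s := by
    have := lt_of_prim hs4
    omega
  have h6 : 2 * c = (p ^ f) ^ (7 ^ 2) * prB (p ^ f) 7 := hc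
  refine kill4_e7 hp hf hs4 hd (D := 2) (A := (p ^ f) ^ (7 ^ 2) * (((p ^ f) ^ 2 - 1) *
    ((p ^ f) ^ 6 - 1) * ((p ^ f) ^ 10 - 1) * ((p ^ f) ^ 14 - 1))) (fun h => ?_) ?_
  · have := Nat.le_of_dvd (by norm_num) h
    omega
  · rw [h6, prB_eq]
    simp only [Finset.prod_range_succ, Finset.prod_range_zero, one_mul]
    norm_num only
    ring

theorem kill4_e7_oplus (hc : den (.oplus 8 (p ^ f)) * c = num (.oplus 8 (p ^ f))) : False := by
  have hs5 : 5 ≤ s := by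
    have := lt_of_prim hs4
    omega
  have h6 : Nat.gcd 4 ((p ^ f) ^ 8 - 1) * c = (p ^ f) ^ (8 * (8 - 1)) * (((p ^ f) ^ 8 - 1) * prB (p ^ f) (8 - 1)) := hc
  refine kill4_e7 hp hf hs4 hd (D := Nat.gcd 4 ((p ^ f) ^ 8 - 1)) (A := (p ^ f) ^ (8 * (8 - 1)) * ((p ^ f) ^ 8 - 1) *
    (((p ^ f) ^ 2 - 1) * ((p ^ f) ^ 6 - 1) * ((p ^ f) ^ 10 - 1) * ((p ^ f) ^ 14 - 1))) (fun h => ?_) ?_
  · have := Nat.le_of_dvd (by norm_num) (h.trans (Nat.gcd_dvd_left _ _))
    omega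
  · rw [h6, prB_eq]
    simp only [Finset.prod_range_succ, Finset.prod_range_zero, one_mul]
    norm_num only
    ring

theorem kill4_e7_psl (hc : den (.psl 7 (p ^ (f * 2))) * c = num (.psl 7 (p ^ (f * 2)))) : False := by
  have hs5 : 5 ≤ s := by
    have := lt_of_prim hs4
    omega
  have h6 : Nat.gcd 7 (p ^ (f * 2) - 1) * (p ^ (f * 2) - 1) * c = glN 7 (p ^ (f * 2)) := hc
  have hq2 : p ^ (f * 2) = (p ^ f) ^ 2 := by rw [pow_mul]
  rw [hq2, glN_eq] at h6
  refine kill4_e7 hp hf hs4 hd (D := Nat.gcd 7 ((p ^ f) ^ 2 - 1) * ((p ^ f) ^ 2 - 1))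
    (A := ((p ^ f) ^ 2) ^ (7 * (7 - 1) / 2) * (((p ^ f) ^ 2 - 1) * ((p ^ f) ^ 6 - 1) * ((p ^ f) ^ 10 - 1) *
      ((p ^ f) ^ 14 - 1))) (fun h => ?_) ?_
  · rcases hs4.prime.dvd_mul.1 h with h | h
    · exact hs4.not_dvd_sub (by norm_num) (h.trans (Nat.gcd_dvd_right _ _))
    · exact hs4.not_dvd_sub (by norm_num) h
  · rw [h6]
    simp only [Finset.prod_range_succ, Finset.prod_range_zero, one_mul, ← pow_mul]
    norm_num only
    ring

end Kill

/-- **`E_7(q)`, classes 14 and 18.** -/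
theorem charp_e7_1418 (hp : p.Prime) (hf : 1 ≤ f) (hg : Cond g) (hch : HasChar p g)
    (hc : den g * c = num g) (hdvd : c ∣ num (.e7 (p ^ f))) (hs1 : HT p f 14 g c) (hs2 : HT p f 18 g c) :
    g = .psu 9 (p ^ f) ∨ g = .psu 10 (p ^ f) ∨ g = .e7 (p ^ f) := by
  obtain ⟨f₁, hf₁, hfl, hK, hY⟩ := kd_all hp hg hch hc
  obtain ⟨i, hi, hei, hfM, h2, h1, h3, hYc⟩ := compP hp hf hg hch hf₁ hfl hK hY (td_e7 hp hf hdvd)
    (by norm_num) (by norm_num) (by norm_num) (fun i hi hei s hs h5 => by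
      have hi' : i ∈ [2, 6, 8, 10, 12, 14, 18] := hi
      refine hpr_e7 ?_ hs (by omega)
      simp only [List.mem_cons, List.not_mem_nil, or_false] at hi' ⊢
      omega) hs1 hs2
  rcases elimP_e7_14_18 hg hch hi hei h2 h1 h3 hYc with ⟨rfl, q, rfl⟩ | ⟨rfl, q, rfl⟩ | ⟨rfl, q, rfl⟩
  · obtain rfl : q = p ^ f₁ := hfl
    rw [same_fld (M := 18) (by norm_num) hfM]
    exact Or.inl rfl
  · obtain rfl : q = p ^ f₁ := hfl
    rw [same_fld (M := 18) (by norm_num) hfM]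
    exact Or.inr (Or.inl rfl)
  · obtain rfl : q = p ^ f₁ := hfl
    rw [same_fld (M := 18) (by norm_num) hfM]
    exact Or.inr (Or.inr rfl)

/-- **`E_7(q)`, classes 9 and 18, and one prime of class 5.** -/
theorem charp_e7_918 (hp : p.Prime) (hf : 1 ≤ f) (hg : Cond g) (hch : HasChar p g)
    (hc : den g * c = num g) (hdvd : c ∣ num (.e7 (p ^ f))) (hs0 : ∃ s, Prim p (f * 5) s ∧ s ∣ c)
    (hs1 : HT p f 9 g c) (hs2 : HT p f 18 g c) :
    g = .e7 (p ^ f) := by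
  obtain ⟨f₁, hf₁, hfl, hK, hY⟩ := kd_all hp hg hch hc
  obtain ⟨i, hi, hei, hfM, h2, h1, h3, hYc⟩ := compP1 hp hf hg hch hf₁ hfl hK hY (td_e7 hp hf hdvd)
    (by norm_num) (by norm_num) hs0 hs2
  rcases elimP_e7_5_18 hg hch hi hei h2 h1 h3 hYc with ⟨rfl, q, rfl⟩ | ⟨rfl, q, rfl⟩ | ⟨rfl, q, rfl⟩ | ⟨rfl, q, rfl⟩
  · exfalso
    obtain rfl : q = p ^ f₁ := hfl
    exact kill_u hp hf rfl (by norm_num) (by norm_num) (same_fld (M := 18) (by norm_num) hfM) hc hs1 (by norm_num)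
  · exfalso
    obtain rfl : q = p ^ f₁ := hfl
    exact kill_u hp hf rfl (by norm_num) (by norm_num) (same_fld (M := 18) (by norm_num) hfM) hc hs1 (by norm_num)
  · exfalso
    obtain rfl : q = p ^ f₁ := hfl
    obtain rfl := same_fld (M := 18) (by norm_num) hfM
    obtain ⟨s, hsp⟩ := exists_prim (q := p) (e := f₁ * 9) hp.two_le (by omega) (by omega)
    have hs' := prim_pow hf hsp
    have h4 := hs1.mem hp rfl hs' fun h => by
      have h5 := lt_of_prim hsp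
      have h6 := Nat.le_of_dvd hf h
      omega
    refine not_dvd_te6 hs' ?_
    rw [← hc]
    exact h4.mul_left _
  · obtain rfl : q = p ^ f₁ := hfl
    rw [same_fld (M := 18) (by norm_num) hfM]

/-- **`E_7(q)`, classes 7 and 14, and one prime of class 5.** -/
theorem charp_e7_714 (hp : p.Prime) (hf : 1 ≤ f) (hg : Cond g) (hch : HasChar p g)
    (hc : den g * c = num g) (hdvd : c ∣ num (.e7 (p ^ f))) (hs0 : ∃ s, Prim p (f * 5) s ∧ s ∣ c)
    (hs1 : HT p f 7 g c) (hs2 : HT p f 14 g c) :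
    g = .e7 (p ^ f) := by
  obtain ⟨f₁, hf₁, hfl, hK, hY⟩ := kd_all hp hg hch hc
  obtain ⟨i, hi, hei, hfM, h2, h1, h3, hYc⟩ := compP1 hp hf hg hch hf₁ hfl hK hY (td_e7 hp hf hdvd)
    (by norm_num) (by norm_num) hs0 hs2
  obtain ⟨t, ht⟩ := exists_prim (q := p) (e := f * 4) hp.two_le (by omega) (by omega)
  have hs4 : Prim (p ^ f) 4 t := prim_pow hf ht
  rcases elimP_e7_5_14 hg hch hi hei h2 h1 h3 hYc with ⟨rfl, q, rfl⟩ | ⟨rfl, q, rfl⟩ | ⟨rfl, q, rfl⟩ | ⟨rfl, q, rfl⟩ |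
    ⟨rfl, q, rfl⟩ | ⟨rfl, q, rfl⟩ | ⟨rfl, q, rfl⟩ | ⟨rfl, q, rfl⟩ | ⟨rfl, q, rfl⟩ | ⟨rfl, q, rfl⟩
  · exfalso
    obtain rfl : q = p ^ f₁ := hfl
    have h5 : f₁ * 7 = f * 14 := hfM
    obtain rfl : f₁ = f * 2 := by omega
    exact kill4_e7_psl hp hf hs4 hdvd hc
  · exfalso
    obtain rfl : q = p ^ f₁ := hfl
    have h5 : f₁ * (2 * 7) = f * 14 := hfM
    obtain rfl : f₁ = f := by omega
    exact kill4_e7_psp hp hf hs4 hdvd hc
  · exfalso
    obtain rfl : q = p ^ f₁ := hfl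
    have h5 : f₁ * (2 * 7) = f * 14 := hfM
    obtain rfl : f₁ = f := by omega
    exact kill4_e7_oodd hp hf hs4 hdvd hc
  · exfalso
    obtain rfl : q = p ^ f₁ := hfl
    exact kill_u hp hf rfl (by norm_num) (by norm_num) (same_fld (M := 14) (by norm_num) hfM) hc hs1 (by norm_num)
  · exfalso
    obtain rfl : q = p ^ f₁ := hfl
    exact kill_u hp hf rfl (by norm_num) (by norm_num) (same_fld (M := 14) (by norm_num) hfM) hc hs1 (by norm_num)
  · exfalso
    obtain rfl : q = p ^ f₁ := hfl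
    have h5 : f₁ * (2 * (8 - 1)) = f * 14 := hfM
    obtain rfl : f₁ = f := by omega
    exact kill4_e7_oplus hp hf hs4 hdvd hc
  · exfalso
    obtain rfl : q = p ^ f₁ := hfl
    exact kill_om hp hf rfl (by norm_num) (by norm_num) (same_fld (M := 14) (by norm_num) hfM) hc hs1 (by norm_num)
  · exfalso
    obtain rfl : q = p ^ f₁ := hfl
    exact kill_u hp hf rfl (by norm_num) (by norm_num) (same_fld (M := 18) (by norm_num) hfM) hc hs1 (by norm_num)
  · exfalso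
    obtain rfl : q = p ^ f₁ := hfl
    exact kill_u hp hf rfl (by norm_num) (by norm_num) (same_fld (M := 18) (by norm_num) hfM) hc hs1 (by norm_num)
  · obtain rfl : q = p ^ f₁ := hfl
    rw [same_fld (M := 18) (by norm_num) hfM]

end Cfsg.Agent.H325.Same
end

-- part: H325/Cov/KE7
section
prune_inst 0x10000000000000
set_option linter.all false
open scoped Cfsg.Agent.FastGrp

/-!
# Subgroups of `E₇(q)` containing the classes {9, 18} or {7, 14} and a prime of class 5 (helper325)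
-/

set_option autoImplicit false

namespace Cfsg.Agent.H325.Cov

open Cfsg Cfsg.Agent.OrdDiv Cfsg.Agent.H436 Cfsg.Agent.H902 Cfsg.Agent.H290.ElReg Cfsg.Agent.H290.ElTab
  Cfsg.Agent.H56.Exc Cfsg.Agent.H325.Loc Cfsg.Agent.H915.GN Cfsg.Agent.H264.FKS Cfsg.Agent.H325.Same Cfsg.Agent.H325.IsoExc
  Cfsg.Agent.H325.IsoFree Cfsg.Agent.H563.KG

/-- **`E₇(q)`, the classes 9, 18.** -/
theorem good_E7c {G : Type*} [Group G] [Finite G] {q n : ℕ} (hn : n ≤ 133) (hq : 2 ≤ q)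
    (h9 : Ord G q 9 ((q - 1) * Ph 9 q / Nat.gcd 2 (q - 1)))
    (h18 : Ord G q 18 ((q + 1) * Ph 18 q / Nat.gcd 2 (q - 1))) (hd : Nat.card G ∣ OL .E7 q)
    (g9 : ncl 9 q ∣ Nat.card G) (g18 : ncl 18 q ∣ Nat.card G)
    {t : ℕ} (ht : t.Prime) (ht2 : t = 2 → Odd q) (ht9 : ¬ Prim q 9 t) (ht18 : ¬ Prim q 18 t) : Good G n t := by
  have hq1 : 1 ≤ q := by omega
  have c9 : Cls 9 := by unfold Cls; omega
  have c18 : Cls 18 := by unfold Cls; omega
  rcases eq_or_lt_of_le hq with rfl | hq3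
  · have h1 := not_dvd_of_not_prim c9 hq1 ht ht9
    have h1' := not_dvd_of_not_prim c18 hq1 ht ht18
    have h2 : (2 - 1) * Ph 9 2 / Nat.gcd 2 (2 - 1) = ncl 9 2 := by decide +kernel
    have h3 : (2 + 1) * Ph 18 2 / Nat.gcd 2 (2 - 1) = 9 * ncl 18 2 := by decide +kernel
    rw [h2] at h9
    rw [h3] at h18
    by_cases h7 : t = 3
    · subst h7
      refine good_pr h9 c9 hq1 ht h1 (by decide +kernel) g9 ?_
      intro k hk hkG
      have h2 : k ≤ 11 := pow_bound (M := OL .E7 2) (by decide +kernel) (hkG.trans hd)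
      have h3 : ncl 9 2 = 73 := by decide +kernel
      rw [h3]
      interval_cases k <;> norm_num
    · refine good_two h9 h18 c9 c18 (by norm_num) hq1 ht h1 ?_ (lt_of_le_of_lt hn (by decide +kernel)) g9 g18
      intro h2
      rcases ht.dvd_mul.1 h2 with h3 | h3
      · have h4 : t ∣ 3 ^ 2 := h3
        exact h7 ((Nat.prime_dvd_prime_iff_eq ht (by norm_num)).1 (ht.dvd_of_dvd_pow h4))
      · exact h1' h3
  · by_cases h1 : t ∣ (q - 1) * Ph 9 q / Nat.gcd 2 (q - 1)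
    · refine good_one h18 c18 hq1 ht (fun h2 => ?_) (by have := ncl18_gt hq3; omega) g18
      exact no_both hq1 ht ht2 (fun ho => ph_odd hq1 ho (by omega)) (fun ho => ph_odd hq1 ho (by omega))
        (sub_of_nine hq1 ht ht9) (add_of_eighteen hq1 ht ht18) h1 h2
    · exact good_one h9 c9 hq1 ht h1 (by have := ncl9_gt hq3; omega) g9

/-- **`E₇(q)`, the classes 7, 14.** -/
theorem good_E7d {G : Type*} [Group G] [Finite G] {q n : ℕ} (hn : n ≤ 133) (hq : 2 ≤ q)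
    (h7 : Ord G q 7 ((q - 1) * Ph 7 q / Nat.gcd 2 (q - 1)))
    (h14 : Ord G q 14 ((q + 1) * Ph 14 q / Nat.gcd 2 (q - 1))) (hd : Nat.card G ∣ OL .E7 q)
    (g7 : ncl 7 q ∣ Nat.card G) (g14 : ncl 14 q ∣ Nat.card G)
    {t : ℕ} (ht : t.Prime) (ht2 : t = 2 → Odd q) (ht7 : ¬ Prim q 7 t) (ht14 : ¬ Prim q 14 t) : Good G n t := by
  have hq1 : 1 ≤ q := by omega
  have c7 : Cls 7 := by unfold Cls; omega
  have c14 : Cls 14 := by unfold Cls; omega
  rcases eq_or_lt_of_le hq with rfl | hq3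
  · have h1 := not_dvd_of_not_prim c7 hq1 ht ht7
    have h1' := not_dvd_of_not_prim c14 hq1 ht ht14
    have h2 : (2 - 1) * Ph 7 2 / Nat.gcd 2 (2 - 1) = ncl 7 2 := by decide +kernel
    have h3 : (2 + 1) * Ph 14 2 / Nat.gcd 2 (2 - 1) = 3 * ncl 14 2 := by decide +kernel
    rw [h2] at h7
    rw [h3] at h14
    by_cases h9 : t = 3
    · subst h9
      refine good_pr h7 c7 hq1 ht h1 (by decide +kernel) g7 ?_
      intro k hk hkG
      have h2 : k ≤ 11 := pow_bound (M := OL .E7 2) (by decide +kernel) (hkG.trans hd)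
      have h3 : ncl 7 2 = 127 := by decide +kernel
      rw [h3]
      interval_cases k <;> norm_num
    · refine good_two h7 h14 c7 c14 (by norm_num) hq1 ht h1 ?_ (lt_of_le_of_lt hn (by decide +kernel)) g7 g14
      intro h2
      rcases ht.dvd_mul.1 h2 with h3 | h3
      · exact h9 ((Nat.prime_dvd_prime_iff_eq ht (by norm_num)).1 h3)
      · exact h1' h3
  · by_cases h1 : t ∣ (q - 1) * Ph 7 q / Nat.gcd 2 (q - 1)
    · refine good_one h14 c14 hq1 ht (fun h2 => ?_) (by have := ncl14_gt hq3; omega) g14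
      exact no_both hq1 ht ht2 (fun ho => ph_odd hq1 ho (by omega)) (fun ho => ph_odd hq1 ho (by omega))
        (sub_of_seven hq1 ht ht7) (add_of_fourteen hq1 ht ht14) h1 h2
    · exact good_one h7 c7 hq1 ht h1 (by have := ncl7_gt hq3; omega) g7

/-- a prime of class 5 does not divide the orders of the normalisers of the tori -/
theorem five_not_dvd {q s c : ℕ} (hq : 2 ≤ q) (hs : Prim q 5 s) (hc : c = 7 ∨ c = 9 ∨ c = 14 ∨ c = 18)
    (h : s ∣ E7 c * M7 q c) : False := by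
  have h5 := lt_of_prim hq (by norm_num) hs
  have h7 : s ≠ 7 := by
    rintro rfl
    have := mod_of_prim hq (by norm_num) hs
    norm_num at this
  rcases hs.prime.dvd_mul.1 h with h1 | h1
  · have h2 : E7 c = 14 ∨ E7 c = 18 := by unfold E7; split <;> simp
    rcases h2 with h2 | h2
    · rw [h2] at h1
      rcases hs.prime.dvd_mul.1 (show s ∣ 2 * 7 from h1) with h3 | h3
      · have := Nat.le_of_dvd (by norm_num) h3
        omega
      · exact h7 ((Nat.prime_dvd_prime_iff_eq hs.prime (by norm_num)).1 h3)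
    · rw [h2] at h1
      rcases hs.prime.dvd_mul.1 (show s ∣ 2 * 3 ^ 2 from h1) with h3 | h3
      · have := Nat.le_of_dvd (by norm_num) h3
        omega
      · have := Nat.le_of_dvd (by norm_num) (hs.prime.dvd_of_dvd_pow h3)
        omega
  · have h2 := h1.trans (m7_dvd hc (by omega))
    rw [hs.dvd_iff] at h2
    rcases hc with rfl | rfl | rfl | rfl <;> omega

/-- a prime of class 5 not dividing the index of the simple subgroup -/
theorem five_dvd {q s c : ℕ} (hq : 2 ≤ q) (hs : Prim q 5 s) (hc : c = 7 ∨ c = 9 ∨ c = 14 ∨ c = 18)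
    {N i k : ℕ} (hi : i ∣ E7 c * M7 q c) (hN : N = k * i) (hsN : s ∣ N) : s ∣ k := by
  rw [hN] at hsN
  rcases hs.prime.dvd_mul.1 hsN with h | h
  · exact h
  · exact (five_not_dvd hq hs hc (h.trans hi)).elim

/-- **`E₇(q)`, the classes 9, 18 and a prime of class 5.** -/
theorem K_E7c (tb : OrderTable.{0}) (hcyc : CycFixSolv.{0}) (hcf : CF) {F : Type} [Field F] [Fintype F]
    {p f s : ℕ} (hp : p.Prime) (hf : 1 ≤ f) (hq : Fintype.card F = p ^ f) (hs : Prim p (f * 5) s)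
    (B : Subgroup ↥(Lie.chevE7.group F)) (hoff : Off (p ^ f) [9, 18] B) (hsB : s ∣ Nat.card B) : B = ⊤ := by
  have := Fact.mk hp
  have hchar : CharP F p := by
    obtain ⟨p', f', h', hp', hf', hq'⟩ := exists_pf F
    have h1 : p ^ f = p' ^ f' := hq ▸ hq'
    have h2 : p ∣ p' ^ f' := h1 ▸ dvd_pow_self p (by omega)
    obtain rfl := (Nat.prime_dvd_prime_iff_eq hp hp').1 (hp.dvd_of_dvd_pow h2)
    exact h'
  have hfin : Finite ↥(Lie.chevE7.group F) := inferInstance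
  have hT := named_e7 (F := F) tb
  rw [hq] at hT
  have hq2 : 2 ≤ p ^ f := hp.two_le.trans (Nat.le_self_pow (by omega) p)
  have hq1 : 1 ≤ p ^ f := by omega
  have hOL : num (.e7 (p ^ f)) = OL .E7 (p ^ f) := rfl
  have hdT : Nat.card ↥(Lie.chevE7.group F) ∣ OL .E7 (p ^ f) := by
    rw [← hOL, ← hT.eq]
    exact Dvd.intro_left _ rfl
  have hmem : ∀ c ∈ [9, 18], c = 7 ∨ c = 9 ∨ c = 14 ∨ c = 18 := by decide
  have hcl : ∀ c ∈ [9, 18], Cls c := by
    intro c hc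
    have := hmem c hc
    unfold Cls
    omega
  have h7 : ∀ c ∈ [9, 18], 7 ≤ c := by decide
  have hnT : ∀ c ∈ [9, 18], ncl c (p ^ f) ∣ Nat.card ↥(Lie.chevE7.group F) := fun c hc =>
    ncl_dvd_card (hcl c hc) (h7 c hc) hq2 (den_pos hT.cond)
      ((Nat.gcd_le_left _ (by norm_num)).trans (by norm_num)) hT.eq ((ncl_dvd_Ph c _).trans (ph_dvd_num (hmem c hc) hq1))
  obtain ⟨r₀, hr₀⟩ := exists_prim hq2 (show 3 ≤ 18 by norm_num) (by norm_num)
  have hpiso : PIso p r₀ ↥(Lie.chevE7.group F) := piso_E7_18 (F := F) (by rw [hq]; exact hr₀)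
  have hdB : Nat.card ↥B ∣ OL .E7 (p ^ f) := (Subgroup.card_subgroup_dvd_card B).trans hdT
  have hbig : ∀ c ∈ [9, 18], ∀ r, Prim (p ^ f) c r → Big ↥(Lie.chevE7.group F) r (M7 (p ^ f) c) (E7 c) :=
    fun c hc r hr => big7 (hmem c hc) hq hr
  have hred := red_good (n := 133) (M := M7 (p ^ f)) (E := E7) hcyc hcl hp (F := F) fth_E7 hbig hnT (c₀ := 18)
    (by decide) hr₀ hpiso hoff (fun t ht htp htn htB => by
      refine good_E7c (by norm_num) hq2 ((ord9 hq).sub B) ((ord18 hq).sub B) hdB ?_ ?_ ht ?_ (htn 9 (by decide))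
        (htn 18 (by decide))
      · exact hoff.ncl_dvd (by decide) c9 hq1 (hnT 9 (by decide))
      · exact hoff.ncl_dvd (by decide) c18 hq1 (hnT 18 (by decide))
      · rintro rfl
        rw [← Nat.not_even_iff_odd, Nat.even_pow]
        rintro ⟨h1, -⟩
        exact htp ((Nat.prime_dvd_prime_iff_eq Nat.prime_two hp).1 h1.two_dvd))
  obtain ⟨S, hSn, hSs, hSna, hnS, hidx, hbS, g, hg, hch⟩ := coreX tb hcyc hcf
    (ElimX.of_tbl tbl_E7c (fam := [9, 18]) (by decide) hp hf) (e := 9) (e' := 18) (by decide) (by decide)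
    (dist_9_18 hq2) hcl h7 hp hf (F := F) fth_E7 hdT hbig hnT (c₀ := 18) (by decide) hr₀
    (fun c hc h => five_not_dvd hq2 (Cfsg.Agent.H264.GN.prim_pow hf hs) (hmem c hc) (hsB.trans h)) hoff hred
  have hdS : Nat.card S ∣ num (.e7 (p ^ f)) := IsNamed.card_dvd hT S
  have hsS : s ∣ Nat.card S := five_dvd hq2 (Cfsg.Agent.H264.GN.prim_pow hf hs) (hmem 9 (by decide)) (hidx 9 (by decide))
    (S.card_mul_index).symm hsB
  obtain rfl := charp_e7_918 hp hf hg.cond hch hg.eq hdS ⟨s, hs, hsS⟩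
    (fun s hs _ => (hbS 9 (by decide) s hs).2.2) (fun s hs _ => (hbS 18 (by decide) s hs).2.2)
  exact eq_top_of_name hT hg

/-- **`E₇(q)`, the classes 7, 14 and a prime of class 5.** -/
theorem K_E7d (tb : OrderTable.{0}) (hcyc : CycFixSolv.{0}) (hcf : CF) {F : Type} [Field F] [Fintype F]
    {p f s : ℕ} (hp : p.Prime) (hf : 1 ≤ f) (hq : Fintype.card F = p ^ f) (hs : Prim p (f * 5) s)
    (B : Subgroup ↥(Lie.chevE7.group F)) (hoff : Off (p ^ f) [7, 14] B) (hsB : s ∣ Nat.card B) : B = ⊤ := by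
  have := Fact.mk hp
  have hchar : CharP F p := by
    obtain ⟨p', f', h', hp', hf', hq'⟩ := exists_pf F
    have h1 : p ^ f = p' ^ f' := hq ▸ hq'
    have h2 : p ∣ p' ^ f' := h1 ▸ dvd_pow_self p (by omega)
    obtain rfl := (Nat.prime_dvd_prime_iff_eq hp hp').1 (hp.dvd_of_dvd_pow h2)
    exact h'
  have hfin : Finite ↥(Lie.chevE7.group F) := inferInstance
  have hT := named_e7 (F := F) tb
  rw [hq] at hT
  have hq2 : 2 ≤ p ^ f := hp.two_le.trans (Nat.le_self_pow (by omega) p)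
  have hq1 : 1 ≤ p ^ f := by omega
  have hOL : num (.e7 (p ^ f)) = OL .E7 (p ^ f) := rfl
  have hdT : Nat.card ↥(Lie.chevE7.group F) ∣ OL .E7 (p ^ f) := by
    rw [← hOL, ← hT.eq]
    exact Dvd.intro_left _ rfl
  have hmem : ∀ c ∈ [7, 14], c = 7 ∨ c = 9 ∨ c = 14 ∨ c = 18 := by decide
  have hcl : ∀ c ∈ [7, 14], Cls c := by
    intro c hc
    have := hmem c hc
    unfold Cls
    omega
  have h7 : ∀ c ∈ [7, 14], 7 ≤ c := by decide
  have hnT : ∀ c ∈ [7, 14], ncl c (p ^ f) ∣ Nat.card ↥(Lie.chevE7.group F) := fun c hc =>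
    ncl_dvd_card (hcl c hc) (h7 c hc) hq2 (den_pos hT.cond)
      ((Nat.gcd_le_left _ (by norm_num)).trans (by norm_num)) hT.eq ((ncl_dvd_Ph c _).trans (ph_dvd_num (hmem c hc) hq1))
  obtain ⟨r₀, hr₀⟩ := exists_prim hq2 (show 3 ≤ 14 by norm_num) (by norm_num)
  have hpiso : PIso p r₀ ↥(Lie.chevE7.group F) := piso_E7 (F := F) (by rw [hq]; exact hr₀)
  have hdB : Nat.card ↥B ∣ OL .E7 (p ^ f) := (Subgroup.card_subgroup_dvd_card B).trans hdT
  have hbig : ∀ c ∈ [7, 14], ∀ r, Prim (p ^ f) c r → Big ↥(Lie.chevE7.group F) r (M7 (p ^ f) c) (E7 c) :=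
    fun c hc r hr => big7 (hmem c hc) hq hr
  have hred := red_good (n := 133) (M := M7 (p ^ f)) (E := E7) hcyc hcl hp (F := F) fth_E7 hbig hnT (c₀ := 14)
    (by decide) hr₀ hpiso hoff (fun t ht htp htn htB => by
      refine good_E7d (by norm_num) hq2 ((ord7 hq).sub B) ((ord14 hq).sub B) hdB ?_ ?_ ht ?_ (htn 7 (by decide))
        (htn 14 (by decide))
      · exact hoff.ncl_dvd (by decide) c7 hq1 (hnT 7 (by decide))
      · exact hoff.ncl_dvd (by decide) c14 hq1 (hnT 14 (by decide))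
      · rintro rfl
        rw [← Nat.not_even_iff_odd, Nat.even_pow]
        rintro ⟨h1, -⟩
        exact htp ((Nat.prime_dvd_prime_iff_eq Nat.prime_two hp).1 h1.two_dvd))
  obtain ⟨S, hSn, hSs, hSna, hnS, hidx, hbS, g, hg, hch⟩ := coreX tb hcyc hcf
    (elimX_714 hp hf) (e := 7) (e' := 14) (by decide) (by decide)
    (dist_7_14 hq2) hcl h7 hp hf (F := F) fth_E7 hdT hbig hnT (c₀ := 14) (by decide) hr₀
    (fun c hc h => five_not_dvd hq2 (Cfsg.Agent.H264.GN.prim_pow hf hs) (hmem c hc) (hsB.trans h)) hoff hred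
  have hdS : Nat.card S ∣ num (.e7 (p ^ f)) := IsNamed.card_dvd hT S
  have hsS : s ∣ Nat.card S := five_dvd hq2 (Cfsg.Agent.H264.GN.prim_pow hf hs) (hmem 7 (by decide)) (hidx 7 (by decide))
    (S.card_mul_index).symm hsB
  obtain rfl := charp_e7_714 hp hf hg.cond hch hg.eq hdS ⟨s, hs, hsS⟩
    (fun s hs _ => (hbS 7 (by decide) s hs).2.2) (fun s hs _ => (hbS 14 (by decide) s hs).2.2)
  exact eq_top_of_name hT hg

end Cfsg.Agent.H325.Cov
end

-- part: H325/Cov/Psu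
section
set_option linter.all false
open scoped Cfsg.Agent.FastGrp

/-!
# Commuting elements in two blocks of `PSU_{d+k}(q)` (helper325)
-/

set_option autoImplicit false

namespace Cfsg.Agent.H325.Cov

open Matrix Cfsg Cfsg.Agent.H674.SUBlock Cfsg.Agent.H674.SUTools Cfsg.Agent.LieClassical

variable {F : Type*} [Field F] [Fintype F] {q d k : ℕ}

/-- the second block -/
def ext2 (hF : Fintype.card F = q ^ 2) (d : ℕ) (B : SU k F q) : SU (d + k) F q :=
  mkSU hF (blk (d := d) (k := k) 1 (cm B))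
    (by rw [det_blk, Matrix.det_one, one_mul]; exact B.1.2)
    (isom_blk hF (isom_one hF) ((GUOrder.mul_map_eq_one_iff hF _).1 B.2))

theorem cm_ext2 (hF : Fintype.card F = q ^ 2) (B : SU k F q) :
    cm (ext2 hF d B) = blk (d := d) (k := k) 1 (cm B) := rfl

theorem ext2_pow (hF : Fintype.card F = q ^ 2) (B : SU k F q) (n : ℕ) : ext2 hF d B ^ n = ext2 hF d (B ^ n) := by
  apply cm_injective
  rw [map_pow, cm_ext2, cm_ext2, map_pow]
  induction n with
  | zero => rw [pow_zero, pow_zero, blk_one]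
  | succ n ih => rw [pow_succ, ih, pow_succ, ← blk_mul, one_mul]

theorem ext2_one (hF : Fintype.card F = q ^ 2) : ext2 hF d (1 : SU k F q) = 1 := by
  apply cm_injective
  rw [cm_ext2, map_one, map_one, blk_one]

theorem comm_ext (hF : Fintype.card F = q ^ 2) (A : SU d F q) (B : SU k F q) :
    Commute (ext hF k A) (ext2 hF d B) := by
  apply cm_injective
  rw [map_mul, map_mul, cm_ext, cm_ext2, ← blk_mul, ← blk_mul, one_mul, mul_one, one_mul, mul_one]

theorem eq_one_of_ext2 (hF : Fintype.card F = q ^ 2) (hn : 3 ≤ d + k) (hd : 0 < d)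
    {B : SU k F q} (h : ext2 hF d B ∈ Subgroup.center (SU (d + k) F q)) : B = 1 := by
  obtain ⟨c, hc1, hc2, h1⟩ := (SUBasic.mem_center_SU_iff hF hn _).1 h
  have h2 : blk (1 : Matrix (Fin d) (Fin d) F) (cm B) = Matrix.diagonal (fun _ => c) := congrArg cm h1
  have h3 : c = 1 := by
    have h4 := congrFun (congrFun h2 (Fin.castAdd k ⟨0, hd⟩)) (Fin.castAdd k ⟨0, hd⟩)
    rw [blk_castAdd, Matrix.one_apply_eq, Matrix.diagonal_apply_eq] at h4
    exact h4.symm
  rw [← cm_eq_one_iff]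
  subst h3
  have h5 : (Matrix.diagonal (fun _ => (1 : F)) : Matrix (Fin (d + k)) (Fin (d + k)) F) = 1 := Matrix.diagonal_one
  rw [h5, ← blk_one] at h2
  exact (blk_inj h2).2

/-- **Elements of prime orders in two blocks.** -/
theorem psu_comm (hF : Fintype.card F = q ^ 2) (hn : 3 ≤ d + k) (hd : 0 < d) (hk : 0 < k) {r p : ℕ} (hr : r.Prime)
    (hp : p.Prime) (hrd : r ∣ Nat.card (SU d F q)) (hpk : p ∣ Nat.card (SU k F q)) :
    ∃ x y : PSU (d + k) F q, orderOf x = r ∧ orderOf y = p ∧ Commute x y := by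
  have := Fact.mk hr
  have := Fact.mk hp
  obtain ⟨A, hA⟩ := exists_prime_orderOf_dvd_card' r hrd
  obtain ⟨B, hB⟩ := exists_prime_orderOf_dvd_card' p hpk
  refine ⟨pr (ext hF k A), pr (ext2 hF d B), ?_, ?_, (comm_ext hF A B).map pr⟩
  · have h1 := orderOf_injective _ (pr_ext_injective (d := d) (k := k) hF hn hk) A
    rw [hA] at h1
    exact h1
  · refine orderOf_eq_prime ?_ fun h => ?_
    · rw [← map_pow, ext2_pow, ← hB, pow_orderOf_eq_one, ext2_one, map_one]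
    · have h1 := eq_one_of_ext2 hF hn hd ((pr_eq_one_iff _).1 h)
      rw [h1, orderOf_one] at hB
      exact hp.one_lt.ne hB

/-- `p ∣ |SU_k(q)|` -/
theorem dvd_su_p (hF : Fintype.card F = q ^ 2) {p : ℕ} (hp : p.Prime) (hpq : p ∣ q) (hk : 2 ≤ k) :
    p ∣ Nat.card (SU k F q) := by
  have h := Cfsg.Agent.S0278.result hF k (by omega)
  have h3 : p ∣ (q + 1) * Nat.card (SU k F q) := by
    rw [h]
    refine Dvd.dvd.mul_right (dvd_pow hpq ?_) _
    have : 2 * 1 ≤ k * (k - 1) := Nat.mul_le_mul hk (by omega)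
    omega
  rcases hp.dvd_mul.1 h3 with h4 | h4
  · exfalso
    have h5 : p ∣ (q + 1) - q := Nat.dvd_sub h4 hpq
    rw [Nat.add_sub_cancel_left] at h5
    exact hp.one_lt.ne' (Nat.dvd_one.1 h5)
  · exact h4

/-- `r ∣ |SU_d(q)|`, `d` odd, `r ∣ q^d + 1` -/
theorem dvd_su_r (hF : Fintype.card F = q ^ 2) {r : ℕ} (hr : r.Prime) (hd : Odd d) (h1 : r ∣ q ^ d + 1) (h2 : ¬ r ∣ q + 1) :
    r ∣ Nat.card (SU d F q) := by
  obtain ⟨e, rfl⟩ := hd
  have h := Cfsg.Agent.S0278.result hF (2 * e + 1) (by omega)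
  have h3 : r ∣ (q + 1) * Nat.card (SU (2 * e + 1) F q) := by
    rw [h]
    refine Dvd.dvd.mul_left ?_ _
    rw [Finset.prod_range_succ]
    refine Dvd.dvd.mul_left ?_ _
    rw [if_pos (by simp)]
    exact h1
  exact (hr.dvd_mul.1 h3).resolve_left h2

end Cfsg.Agent.H325.Cov
end

-- part: H190/Cov/K98
section
prune_inst 0x10000000000000
set_option linter.all false
open scoped Cfsg.Agent.FastGrp

/-!
# Subgroups of `E₆(q)` and `²E₆(q)` of index prime to the classes 9, 8 (18, 8) (S2499)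

* `K98_E6` : a subgroup of `E₆(q)` whose index is divisible by no primitive prime divisor of `q^9 - 1`, `q^8 - 1` is
  the whole group;
* `K188_TE6` : a subgroup of `²E₆(q)`, `q ≥ 3`, whose index is divisible by no primitive prime divisor of `q^18 - 1`,
  `q^8 - 1` is the whole group.
-/

set_option autoImplicit false

namespace Cfsg.Agent.H190.Cov

open Cfsg Cfsg.Agent.OrdDiv Cfsg.Agent.H436 Cfsg.Agent.H902 Cfsg.Agent.H290.ElReg Cfsg.Agent.H290.ElTab
  Cfsg.Agent.H56.Exc Cfsg.Agent.H325.Loc Cfsg.Agent.H915.GN Cfsg.Agent.H264.FKS Cfsg.Agent.H325.Same Cfsg.Agent.H325.IsoExc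
  Cfsg.Agent.H325.IsoFree Cfsg.Agent.H563.KG Cfsg.Agent.H190.Odd

theorem svR_E6_98 : svR 78 .E6 [9, 8] = true := by decide +kernel
theorem svS_E6_98 : svS .E6 [9, 8] = true := by decide +kernel
theorem svR_TE6_188 : svR 78 .TE6 [18, 8] = true := by decide +kernel
theorem svS3_TE6_188 : svS3 .TE6 [18, 8] = true := by decide +kernel

theorem tbl_E6_98 : Tbl 78 .E6 [9, 8] 9 where
  hn := by norm_num
  hb := bndR_78_9
  hs := svR_E6_98
  hbS := bndS_9
  hsS := svS_E6_98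
  he₀ := c9
  hmem := by decide
  hle := fun _ h => (le_four9 h).trans (by norm_num)

theorem dist_9_8 {q : ℕ} (hq : 2 ≤ q) : ncl 9 q + 4 ≤ ncl 8 q ∨ ncl 8 q + 4 ≤ ncl 9 q := by
  right
  have e1 : cc 9 = 3 := rfl
  have p1 : Ph 8 q = q ^ 4 + 1 := rfl
  have p2 : Ph 9 q = q ^ 6 + q ^ 3 + 1 := rfl
  have h8 := ncl_le 8 (show 1 ≤ q by omega)
  obtain ⟨k, rfl⟩ := Nat.exists_eq_add_of_le' hq
  have a2 : 3 * ((k + 2) ^ 4 + 1 + 4) ≤ (k + 2) ^ 6 + (k + 2) ^ 3 + 1 := by ring_nf; omega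
  rw [p1] at h8
  rcases ncl_or (e := 9) (q := k + 2) (by norm_num [cc]) with h1 | h1 <;>
    rw [p2] at h1 <;> (try rw [e1] at h1) <;> omega

theorem dist_18_8 {q : ℕ} (hq : 3 ≤ q) : ncl 18 q + 4 ≤ ncl 8 q ∨ ncl 8 q + 4 ≤ ncl 18 q := by
  right
  have e1 : cc 18 = 3 := rfl
  have p1 : Ph 8 q = q ^ 4 + 1 := rfl
  have p2 : Ph 18 q = (q ^ 6 + 1) - q ^ 3 := rfl
  have h8 := ncl_le 8 (show 1 ≤ q by omega)
  obtain ⟨k, rfl⟩ := Nat.exists_eq_add_of_le' hq
  have a0 : (k + 3) ^ 3 ≤ (k + 3) ^ 6 := Nat.pow_le_pow_right (by omega) (by norm_num)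
  have a2 : 3 * ((k + 3) ^ 4 + 1 + 4) + (k + 3) ^ 3 ≤ (k + 3) ^ 6 + 1 := by ring_nf; omega
  rw [p1] at h8
  rcases ncl_or (e := 18) (q := k + 3) (by norm_num [cc]) with h1 | h1 <;>
    rw [p2] at h1 <;> (try rw [e1] at h1) <;> omega

/-- **`E₆(q)`, the classes 9, 8.** -/
theorem good_E6_98 {G : Type*} [Group G] [Finite G] {q n : ℕ} (hn : n ≤ 78) (hq : 2 ≤ q) (h9 : Ord G q 9 (ncl 9 q))
    (h8 : Ord G q 8 (Ph 8 q * (q ^ 2 - 1))) (hd : Nat.card G ∣ OL .E6 q)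
    (g9 : ncl 9 q ∣ Nat.card G) (g8 : ncl 8 q ∣ Nat.card G)
    {t : ℕ} (ht : t.Prime) (ht9 : ¬ Prim q 9 t) (ht8 : ¬ Prim q 8 t) : Good G n t := by
  have hq1 : 1 ≤ q := by omega
  have h1 := not_dvd_of_not_prim c9 hq1 ht ht9
  rcases eq_or_lt_of_le hq with rfl | hq3
  · by_cases h7 : t = 3
    · subst h7
      refine good_pr h9 c9 hq1 ht h1 (by decide +kernel) g9 ?_
      intro k hk hkG
      have h2 : k ≤ 6 := pow_bound (M := OL .E6 2) (by decide +kernel) (hkG.trans hd)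
      have h3 : ncl 9 2 = 73 := by decide +kernel
      rw [h3]
      interval_cases k <;> norm_num
    · refine good_two h9 h8 c9 c8 (by norm_num) hq1 ht h1 ?_ (lt_of_le_of_lt hn (by decide +kernel)) g9 g8
      intro h2
      rcases ht.dvd_mul.1 h2 with h3 | h3
      · have h4 : ncl 8 2 = Ph 8 2 := by decide +kernel
        exact not_dvd_of_not_prim c8 hq1 ht ht8 (h4 ▸ h3)
      · have h4 : (2 ^ 2 - 1 : ℕ) = 3 := by norm_num
        rw [h4] at h3
        exact h7 ((Nat.prime_dvd_prime_iff_eq ht (by norm_num)).1 h3)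
  · exact good_one h9 c9 hq1 ht h1 (by have := ncl9_gt hq3; omega) g9

/-- the orders of the tori of `E₆(q)` of the classes 9, 8 -/
def M98 (q c : ℕ) : ℕ := if c = 9 then Ph 9 q else Ph 8 q * (q ^ 2 - 1)

/-- the orders of the tori of `²E₆(q)` of the classes 18, 8 -/
def M188 (q c : ℕ) : ℕ := if c = 18 then Ph 18 q else Ph 8 q * (q ^ 2 - 1)

/-- the automizers in `²E₆(q)` of the classes 18, 8 -/
def E188 (c : ℕ) : ℕ := if c = 18 then 9 else 8

theorem le_seven'' {s : ℕ} (hs : s.Prime) {n : ℕ} (hn : n = 9 ∨ n = 8) (h : s ∣ n) : s ≤ 7 := by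
  rcases hn with rfl | rfl
  · exact (Nat.le_of_dvd (by norm_num) (hs.dvd_of_dvd_pow (show s ∣ 3 ^ 2 from h))).trans (by norm_num)
  · exact (Nat.le_of_dvd (by norm_num) (hs.dvd_of_dvd_pow (show s ∣ 2 ^ 3 from h))).trans (by norm_num)

/-- **`E₆(q)`, the classes 9, 8.** -/
theorem K98_E6 (tb : OrderTable.{0}) (hcyc : CycFixSolv.{0}) (hcf : CF) {F : Type} [Field F] [Fintype F]
    (B : Subgroup ↥(Lie.chevE6.group F)) (hoff : Off (Fintype.card F) [9, 8] B) : B = ⊤ := by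
  obtain ⟨p, f, _, hp, hf, hq⟩ := exists_pf F
  have := Fact.mk hp
  have hfin : Finite ↥(Lie.chevE6.group F) := inferInstance
  have hT := named_e6 (F := F) tb
  rw [hq] at hT hoff
  have hq2 : 2 ≤ p ^ f := hp.two_le.trans (Nat.le_self_pow (by omega) p)
  have hq1 : 1 ≤ p ^ f := by omega
  have hOL : num (.e6 (p ^ f)) = OL .E6 (p ^ f) := rfl
  have hdT : Nat.card ↥(Lie.chevE6.group F) ∣ OL .E6 (p ^ f) := by
    rw [← hOL, ← hT.eq]
    exact Dvd.intro_left _ rfl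
  have hmem : ∀ c ∈ [9, 8], c = 9 ∨ c = 8 := by decide
  have hcl : ∀ c ∈ [9, 8], Cls c := by
    intro c hc
    have := hmem c hc
    unfold Cls
    omega
  have h7 : ∀ c ∈ [9, 8], 7 ≤ c := by decide
  have hnum : ∀ c ∈ [9, 8], ncl c (p ^ f) ∣ num (.e6 (p ^ f)) := by
    intro c hc
    have h1 : ∀ d ∈ [2, 5, 6, 8, 9, 12], (p ^ f) ^ d - 1 ∣ num (.e6 (p ^ f)) := by
      intro d hd
      show _ ∣ (p ^ f) ^ 36 * (((p ^ f) ^ 2 - 1) * ((p ^ f) ^ 5 - 1) * ((p ^ f) ^ 6 - 1) *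
        ((p ^ f) ^ 8 - 1) * ((p ^ f) ^ 9 - 1) * ((p ^ f) ^ 12 - 1))
      refine Dvd.dvd.mul_left ?_ _
      have h1 := List.dvd_prod (List.mem_map_of_mem (f := fun d => (p ^ f) ^ d - 1) hd)
      simp only [List.map_cons, List.map_nil, List.prod_cons, List.prod_nil, mul_one] at h1
      simp only [mul_assoc]
      exact h1
    refine (ncl_dvd_Ph c _).trans ((Ph_dvd (hcl c hc) hq1).trans (h1 c ?_))
    rcases hmem c hc with rfl | rfl <;> decide
  have hnT : ∀ c ∈ [9, 8], ncl c (p ^ f) ∣ Nat.card ↥(Lie.chevE6.group F) := fun c hc =>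
    ncl_dvd_card (hcl c hc) (h7 c hc) hq2 (den_pos hT.cond)
      ((Nat.gcd_le_left _ (by norm_num)).trans (by norm_num)) hT.eq (hnum c hc)
  have h9 : M98 (p ^ f) 9 = Ph 9 (p ^ f) := rfl
  have h8 : M98 (p ^ f) 8 = Ph 8 (p ^ f) * ((p ^ f) ^ 2 - 1) := rfl
  have hm9 : ((Ph 9 (p ^ f) : ℕ) : ℤ) = 1 + ((p ^ f : ℕ) : ℤ) ^ 3 + ((p ^ f : ℕ) : ℤ) ^ 6 := by
    rw [cast_Ph9]; ring
  have hm8 : ((Ph 8 (p ^ f) * ((p ^ f) ^ 2 - 1) : ℕ) : ℤ) =
      (1 + ((p ^ f : ℕ) : ℤ) ^ 4) * (((p ^ f : ℕ) : ℤ) ^ 2 - 1) := by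
    rw [Nat.cast_mul, cast_Ph8, cast_sub_one hq1]; ring
  have hbig : ∀ c ∈ [9, 8], ∀ r, Prim (p ^ f) c r → Big ↥(Lie.chevE6.group F) r (M98 (p ^ f) c) c := by
    intro c hc r hr
    rcases hmem c hc with rfl | rfl
    · exact big_E6_9 hq hm9 hr
    · exact big_E6_8 hq hm8 hr
  have hM : ∀ c ∈ [9, 8], M98 (p ^ f) c ∣ (p ^ f) ^ c - 1 := by
    intro c hc
    rcases hmem c hc with rfl | rfl
    · exact Ph_dvd c9 hq1
    · refine dvd_of_cast (c := (((p ^ f : ℕ) : ℤ) ^ 2 + 1)) ?_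
      rw [h8, cast_sub_one hq1, hm8]
      ring
  obtain ⟨r₀, hr₀⟩ := exists_prim hq2 (show 3 ≤ 9 by norm_num) (by norm_num)
  have hpiso : PIso p r₀ ↥(Lie.chevE6.group F) := piso_E6 (F := F) (by rw [hq]; exact hr₀)
  have ho9 : Ord ↥(Lie.chevE6.group F) (p ^ f) 9 (ncl 9 (p ^ f)) := by
    intro r hr x hx
    rw [← ncl9_eq hq1]
    exact (Cfsg.Agent.H190.Exc.e6_9 hq hr).2 x hx
  have ho8 : Ord ↥(Lie.chevE6.group F) (p ^ f) 8 (Ph 8 (p ^ f) * ((p ^ f) ^ 2 - 1)) :=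
    fun r hr x hx => (big_E6_8 hq hm8 hr).card x hx
  have hdB : Nat.card ↥B ∣ OL .E6 (p ^ f) := (Subgroup.card_subgroup_dvd_card B).trans hdT
  obtain ⟨S, hSn, hSs, hSna, hnS, hidx, hbS, g, hg, hch⟩ := core tb hcyc hcf tbl_E6_98 (fam := [9, 8])
    (fun c hc => hc) (M := M98 (p ^ f)) (E := fun c => c)
    (e := 9) (e' := 8) (by decide) (by decide) (dist_9_8 hq2) hcl h7 hp hf (F := F) fth_E6 hdT
    hbig hM
    (fun c hc s hs hd => le_seven'' hs (hmem c hc) hd)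
    (by decide) hnT (c₀ := 9) (by decide) hr₀ hpiso hoff (fun t ht htp htn htB => by
      refine good_E6_98 (by norm_num) hq2 (ho9.sub B) (ho8.sub B) hdB ?_ ?_ ht
        (htn 9 (by decide)) (htn 8 (by decide))
      · exact hoff.ncl_dvd (by decide) c9 hq1 (hnT 9 (by decide))
      · exact hoff.ncl_dvd (by decide) c8 hq1 (hnT 8 (by decide)))
  have hdS : Nat.card S ∣ num (.e6 (p ^ f)) := IsNamed.card_dvd hT S
  obtain rfl := charp_e6_89 hp hf hg.cond hch hg.eq hdS (fun s hs _ => (hbS 8 (by decide) s hs).2.2)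
    (fun s hs _ => (hbS 9 (by decide) s hs).2.2)
  exact eq_top_of_name hT hg

/-- **`²E₆(q)`, `3 ≤ q`, the classes 18, 8.** -/
theorem K188_TE6 (tb : OrderTable.{0}) (hcyc : CycFixSolv.{0}) (hcf : CF) {F : Type} [Field F] [Fintype F] {q : ℕ}
    (hq : IsPrimePow q) (hK : Fintype.card F = q ^ 2) (hq3 : 3 ≤ q)
    (B : Subgroup ↥(Lie.twistedE6 F q)) (hoff : Off q [18, 8] B) : B = ⊤ := by
  obtain ⟨p, f, _, hp, hf, rfl⟩ := exists_pf' hq hK
  have := Fact.mk hp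
  have hfin : Finite ↥(Lie.twistedE6 F (p ^ f)) := inferInstance
  have hT := named_te6 (F := F) tb hq hK
  have hq2 : 2 ≤ p ^ f := hp.two_le.trans (Nat.le_self_pow (by omega) p)
  have hq1 : 1 ≤ p ^ f := by omega
  have hOL : num (.te6 (p ^ f)) = OL .TE6 (p ^ f) := rfl
  have hdT : Nat.card ↥(Lie.twistedE6 F (p ^ f)) ∣ OL .TE6 (p ^ f) := by
    rw [← hOL, ← hT.eq]
    exact Dvd.intro_left _ rfl
  have hmem : ∀ c ∈ [18, 8], c = 18 ∨ c = 8 := by decide
  have hcl : ∀ c ∈ [18, 8], Cls c := by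
    intro c hc
    have := hmem c hc
    unfold Cls
    omega
  have h7 : ∀ c ∈ [18, 8], 7 ≤ c := by decide
  have hnum : ∀ c ∈ [18, 8], ncl c (p ^ f) ∣ num (.te6 (p ^ f)) := by
    intro c hc
    have h1 : Ph c (p ^ f) ∣ num (.te6 (p ^ f)) := by
      show _ ∣ (p ^ f) ^ 36 * (((p ^ f) ^ 2 - 1) * ((p ^ f) ^ 5 + 1) * ((p ^ f) ^ 6 - 1) *
        ((p ^ f) ^ 8 - 1) * ((p ^ f) ^ 9 + 1) * ((p ^ f) ^ 12 - 1))
      refine Dvd.dvd.mul_left ?_ _
      rcases hmem c hc with rfl | rfl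
      · exact (Ph18_dvd hq1).trans ((Dvd.intro_left _ rfl).trans (Dvd.intro _ rfl))
      · exact (Ph_dvd c8 hq1).trans ((Dvd.intro_left _ rfl).trans ((Dvd.intro _ rfl).trans (Dvd.intro _ rfl)))
    exact (ncl_dvd_Ph c _).trans h1
  have hnT : ∀ c ∈ [18, 8], ncl c (p ^ f) ∣ Nat.card ↥(Lie.twistedE6 F (p ^ f)) := fun c hc =>
    ncl_dvd_card (hcl c hc) (h7 c hc) hq2 (den_pos hT.cond)
      ((Nat.gcd_le_left _ (by norm_num)).trans (by norm_num)) hT.eq (hnum c hc)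
  have h18 : M188 (p ^ f) 18 = Ph 18 (p ^ f) := rfl
  have h8 : M188 (p ^ f) 8 = Ph 8 (p ^ f) * ((p ^ f) ^ 2 - 1) := rfl
  have hm18 : ((Ph 18 (p ^ f) : ℕ) : ℤ) = 1 - ((p ^ f : ℕ) : ℤ) ^ 3 + ((p ^ f : ℕ) : ℤ) ^ 6 := by
    rw [cast_Ph18 _ hq1]; ring
  have hm8 : ((Ph 8 (p ^ f) * ((p ^ f) ^ 2 - 1) : ℕ) : ℤ) =
      (1 + ((p ^ f : ℕ) : ℤ) ^ 4) * (((p ^ f : ℕ) : ℤ) ^ 2 - 1) := by
    rw [Nat.cast_mul, cast_Ph8, cast_sub_one hq1]; ring
  have hbig : ∀ c ∈ [18, 8], ∀ r, Prim (p ^ f) c r → Big ↥(Lie.twistedE6 F (p ^ f)) r (M188 (p ^ f) c) (E188 c) := by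
    intro c hc r hr
    rcases hmem c hc with rfl | rfl
    · exact big_TE6_18 hq hK hm18 hr
    · exact big_TE6_8 hq hK hm8 hr
  have hM : ∀ c ∈ [18, 8], M188 (p ^ f) c ∣ (p ^ f) ^ c - 1 := by
    intro c hc
    rcases hmem c hc with rfl | rfl
    · exact Ph_dvd c18 hq1
    · refine dvd_of_cast (c := (((p ^ f : ℕ) : ℤ) ^ 2 + 1)) ?_
      rw [h8, cast_sub_one hq1, hm8]
      ring
  obtain ⟨r₀, hr₀⟩ := exists_prim hq2 (show 3 ≤ 18 by norm_num) (by norm_num)
  have hpiso : PIso p r₀ ↥(Lie.twistedE6 F (p ^ f)) := piso_twE6 hq hK (Or.inr rfl) hr₀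
  have ho18 : Ord ↥(Lie.twistedE6 F (p ^ f)) (p ^ f) 18 (ncl 18 (p ^ f)) := by
    intro r hr x hx
    rw [← ncl18_eq hq1]
    exact (Cfsg.Agent.H190.Exc.te6_18 hq hK hr).2 x hx
  have hdB : Nat.card ↥B ∣ OL .TE6 (p ^ f) := (Subgroup.card_subgroup_dvd_card B).trans hdT
  obtain ⟨S, hSn, hSs, hSna, hnS, hidx, hbS⟩ := core_pre (n := 78) hcyc (fam := [18, 8])
    (M := M188 (p ^ f)) (E := E188) hcl h7 hp hf (F := F) (fth_TE6 _)
    hbig hM
    (fun c hc s hs hd => le_seven'' hs (n := E188 c) (by unfold E188; split <;> omega) hd)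
    (by decide) hnT (c₀ := 18) (by decide) hr₀ hpiso hoff (fun t ht htp htn htB => by
      left
      refine good_one (ho18.sub B) c18 hq1 ht (not_dvd_of_not_prim c18 hq1 ht (htn 18 (by decide))) ?_ ?_
      · have := ncl18_gt hq3
        omega
      · exact hoff.ncl_dvd (by decide) c18 hq1 (hnT 18 (by decide)))
  have hdS : Nat.card S ∣ num (.te6 (p ^ f)) := IsNamed.card_dvd hT S
  obtain ⟨g, hg, hch⟩ := exists_name_sp tb (n := 78) (Y := .TE6) (e₀ := 18) (cls := [18, 8]) (p := p) (f := f) (by norm_num)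
    bndR_78_18 svR_TE6_188 (no_spor3 bndS_18 svS3_TE6_188 c18 (by decide)
      (fun _ h => (le_four18 h).trans (by norm_num)) hp hf hq3) c18 (by decide)
    (fun _ h => (le_four18 h).trans (by norm_num)) hp hf (F := F) hSna (hcf S)
    (((fth_TE6 (F := F) (p ^ f)).sub B.subtype B.subtype_injective).sub S.subtype S.subtype_injective)
    hnS hdS (e := 18) (e' := 8) (by decide) (by decide) c18 c8 (by norm_num) (by norm_num) (dist_18_8 hq3) (by
      rintro r (h | h) x hx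
      · exact (hbS 18 (by decide) r h).1.cyc x hx
      · exact (hbS 8 (by decide) r h).1.cyc x hx)
  obtain rfl := charp_te6_818 hp hf hg.cond hch hg.eq hdS (fun s hs _ => (hbS 8 (by decide) s hs).2.2)
    (fun s hs _ => (hbS 18 (by decide) s hs).2.2)
  exact eq_top_of_name hT hg

end Cfsg.Agent.H190.Cov
end

-- part: H683/O8R/Geo
section
prune_inst 0x420000074e00000000080821120006020000400002004008c0300000909c16200802100060001075200808100010000020000100000000000200000000000000002d60433740d0c200016800004000000000000000000000000000000000000000000000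
set_option linter.all false
open scoped Cfsg.Agent.FastGrp

-- part: H683/O8R/Pair
section
/-!
# S3691, `PΩ₈⁺(q)`: subgroups with noncyclic Sylow `r`-subgroups, `r ∣ q² + 1` (helper683)

`Pair H g₁ g₂ r` : `g₁, g₂ ∈ H` of order `r`, `dim [V, g₁] = 4`, `[V, g₂] = C_V(g₁)`; `exists_pair`.
-/

set_option autoImplicit false
set_option linter.unusedSectionVars false

namespace Cfsg.Agent.H683.O8R

open Module QuadraticMap Cfsg Cfsg.Geo Cfsg.Agent.LieClassical.OrthCore Cfsg.Agent.H955 Cfsg.Agent.H954.TSing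
open Cfsg.Agent.LieClassical.OmegaReindex
open Cfsg.Agent.H951 (fx cm Inv)
open Cfsg.Agent.H884.El
open Cfsg.Agent.H708.O8
open Cfsg.Agent.H436 (Prim)
open scoped MatrixGroups Matrix

variable {F : Type} [Field F] [Fintype F] {p a r b : ℕ}

/-- two elements of order `r` acting on complementary spaces of dimension four -/
structure Pair (H : Subgroup (GL I8 F)) (g₁ g₂ : GL I8 F) (r : ℕ) : Prop where
  le : H ≤ isometryGroup F (quadFormPlus 4 F)
  mem₁ : g₁ ∈ H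
  mem₂ : g₂ ∈ H
  pow₁ : g₁ ^ r = 1
  pow₂ : g₂ ^ r = 1
  dim₁ : finrank F (cm (lin g₁)) = 4
  dim₂ : finrank F (cm (lin g₂)) = 4
  cm₂ : cm (lin g₂) = fx (lin g₁)
  fx₂ : fx (lin g₂) = cm (lin g₁)

theorem iso_of (hF : Nat.card F = p ^ a) (h : RB p a r b) {g : GL I8 F} (hg : g ∈ isometryGroup F (quadFormPlus 4 F))
    (hgr : g ^ r = 1) : Iso (quadPlus 4 F) (lin g) r := by
  refine Iso.mk' (h.ppF hF) (by omega) (by rw [← lin_pow, hgr]; exact lin_one') ?_
  have : isometryGroup F (quadFormPlus 4 F) ≤ isometryGroup F (⇑(quadPlus 4 F)) := by rw [coe_quadPlus]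
  exact lin_iso this hg

theorem fin8 : finrank F (I8 → F) = 8 := by rw [finrank_V]; simp

theorem commute_lin {g h : GL I8 F} (e : g * h = h * g) : Commute (lin g) (lin h) := by
  change lin g * lin h = lin h * lin g
  rw [← lin_mul, ← lin_mul, e]

theorem inv_fx_of_comm {x y : Module.End F (I8 → F)} (h : Commute x y) : _root_.Cfsg.Agent.H951.Inv x (fx y) := by
  intro v hv
  rw [H951.mem_fx] at hv ⊢
  rw [← Module.End.mul_apply, ← h.eq, Module.End.mul_apply, hv]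

theorem inv_cm_of_comm {x y : Module.End F (I8 → F)} (h : Commute x y) : _root_.Cfsg.Agent.H951.Inv x (cm y) := by
  intro v hv
  obtain ⟨c, rfl⟩ := H951.mem_cm.1 hv
  refine H951.mem_cm.2 ⟨x c, ?_⟩
  rw [map_sub, ← Module.End.mul_apply, ← h.eq, Module.End.mul_apply]

/-- the pair from two commuting elements -/
theorem pair_of (hF : Nat.card F = p ^ a) (h : RB p a r b) {H : Subgroup (GL I8 F)}
    (hH : H ≤ isometryGroup F (quadFormPlus 4 F)) {g₁ g : GL I8 F} (h₁ : g₁ ∈ H) (hg : g ∈ H) (p₁ : g₁ ^ r = 1)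
    (pg : g ^ r = 1) (d₁ : finrank F (cm (lin g₁)) = 4) (hc : g₁ * g = g * g₁) (hg1 : g ≠ 1) {v : I8 → F} (hv0 : v ≠ 0)
    (hv : v ∈ cm (lin g₁)) (hgv : lin g v = v) : Pair H g₁ g r := by
  have hr := h.ppF hF
  have i₁ := iso_of hF h (hH h₁) p₁
  have ig := iso_of hF h (hH hg) pg
  have hdis : cm (lin g₁) ⊓ fx (lin g₁) = ⊥ := H951.inf_fx_of_le_cm i₁.ne0 i₁.pow le_rfl
  have hdis' : cm (lin g) ⊓ fx (lin g) = ⊥ := H951.inf_fx_of_le_cm ig.ne0 ig.pow le_rfl
  have hcl := commute_lin hc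
  have k1 : cm (lin g₁) ≤ fx (lin g) := by
    rcases i₁.le_or hr d₁ (inv_fx_of_comm hcl) with h1 | h1
    · exfalso
      have h2 : v ∈ cm (lin g₁) ⊓ fx (lin g₁) := ⟨hv, h1 (H951.mem_fx.2 hgv)⟩
      rw [hdis] at h2
      exact hv0 ((Submodule.mem_bot F).1 h2)
    · exact h1
  have hne : cm (lin g) ≠ ⊥ := by
    apply cm_ne_bot
    intro h0
    exact hg1 (H989.Cov.O8.lin_eq_one h0)
  have hadd : finrank F (fx (lin g)) + finrank F (cm (lin g)) = 8 := ig.finrank_add.trans fin8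
  have hadd₁ : finrank F (fx (lin g₁)) + finrank F (cm (lin g₁)) = 8 := i₁.finrank_add.trans fin8
  have hd4 : 4 ∣ finrank F (cm (lin g)) := ig.dvd_cm hr
  have hle := Submodule.finrank_mono k1
  rw [d₁] at hle hadd₁
  have hpos : 0 < finrank F (cm (lin g)) := Nat.pos_of_ne_zero fun h0 => hne (Submodule.finrank_eq_zero.1 h0)
  have hge : 4 ≤ finrank F (cm (lin g)) := Nat.le_of_dvd hpos hd4
  have dg : finrank F (cm (lin g)) = 4 := by omega
  have k2 : cm (lin g) ≤ fx (lin g₁) := by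
    rcases i₁.le_or hr d₁ (inv_cm_of_comm hcl) with h1 | h1
    · exact h1
    · exfalso
      have h2 : cm (lin g₁) ≤ cm (lin g) ⊓ fx (lin g) := le_inf h1 k1
      rw [hdis'] at h2
      have h3 := Submodule.finrank_mono h2
      rw [finrank_bot, d₁] at h3
      omega
  refine ⟨hH, h₁, hg, p₁, pg, d₁, dg, ?_, ?_⟩
  · exact Submodule.eq_of_le_of_finrank_eq k2 (by omega)
  · exact (Submodule.eq_of_le_of_finrank_eq k1 (by omega)).symm

/-- **a noncyclic `r`-subgroup contains a pair** -/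
theorem exists_pair (hF : Nat.card F = p ^ a) (h : RB p a r b) {P : Subgroup (GL I8 F)}
    (hPi : P ≤ isometryGroup F (quadFormPlus 4 F)) (hPr : IsPGroup r P) (hP : ¬ IsCyclic P) :
    ∃ g₁ g₂, Pair P g₁ g₂ r := by
  classical
  have hr := h.prim.prime
  have : Fact r.Prime := ⟨hr⟩
  have h5 := h.five
  have hr2 : r ≠ 2 := by omega
  obtain ⟨A, -, ⟨hAc, hAr⟩, hAcard⟩ := S0126.result (R := P) hr2 hPr hP
  let A' : Subgroup (GL I8 F) := A.map P.subtype
  have hA'P : A' ≤ P := by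
    rintro _ ⟨x, -, rfl⟩
    exact x.2
  have hA'r : ∀ x ∈ A', x ^ r = 1 := by
    rintro _ ⟨x, hx, rfl⟩
    rw [← map_pow, hAr x hx, map_one]
  have hA'c : ∀ x ∈ A', ∀ y ∈ A', x * y = y * x := by
    rintro _ ⟨x, hx, rfl⟩ _ ⟨y, hy, rfl⟩
    have h1 := hAc.is_comm.comm ⟨x, hx⟩ ⟨y, hy⟩
    rw [← map_mul, ← map_mul]
    exact congrArg P.subtype (congrArg Subtype.val h1)
  have hA'card : Nat.card A' = r ^ 2 := by
    rw [← hAcard]
    exact Subgroup.card_map_of_injective P.subtype_injective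
  have hA'p : IsPGroup r A' := IsPGroup.of_card hA'card
  have hnc : ¬ IsCyclic A' := by
    intro hc
    obtain ⟨g, hg⟩ := hc.exists_generator
    have h1 : orderOf g = r ^ 2 := by
      rw [← hA'card]
      exact orderOf_eq_card_of_forall_mem_zpowers hg
    have h2 : g ^ r = 1 := Subtype.ext (hA'r g g.2)
    have h3 := orderOf_dvd_of_pow_eq_one h2
    rw [h1] at h3
    have h4 := Nat.le_of_dvd hr.pos h3
    nlinarith only [h5, h4]
  obtain ⟨g₁, hg₁, hg₁r, hg₁1, hd₁⟩ := H989.Cov.O8.exists_four hF h hA'p hnc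
  obtain ⟨x, hx, hxg⟩ : ∃ x ∈ A', x ∉ Subgroup.zpowers g₁ := by
    by_contra hcon
    push Not at hcon
    have h1 : A' ≤ Subgroup.zpowers g₁ := hcon
    have h2 := Nat.le_of_dvd Nat.card_pos (Subgroup.card_dvd_of_le h1)
    rw [hA'card, Nat.card_zpowers, orderOf_eq_prime hg₁r hg₁1] at h2
    nlinarith only [h5, h2]
  have hcxg := hA'c x hx g₁ hg₁
  have i₁ := iso_of hF h (hPi (hA'P hg₁)) hg₁r
  have hdis : cm (lin g₁) ⊓ fx (lin g₁) = ⊥ := H951.inf_fx_of_le_cm i₁.ne0 i₁.pow le_rfl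
  have hinvx : _root_.Cfsg.Agent.H951.Inv (lin x) (cm (lin g₁)) := inv_cm_of_comm (commute_lin hcxg)
  have hinvg : _root_.Cfsg.Agent.H951.Inv (lin g₁) (cm (lin g₁)) := inv_cm_of_comm (Commute.refl _)
  let X : Module.End F (cm (lin g₁)) := (lin x).restrict hinvx
  let Y : Module.End F (cm (lin g₁)) := (lin g₁).restrict hinvg
  have hXc : ∀ w, ((X w : cm (lin g₁)) : I8 → F) = lin x w := fun w => rfl
  have hYc : ∀ w, ((Y w : cm (lin g₁)) : I8 → F) = lin g₁ w := fun w => rfl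
  have hpow : ∀ (g : GL I8 F) (hi : _root_.Cfsg.Agent.H951.Inv (lin g) (cm (lin g₁))) (n : ℕ) (w : cm (lin g₁)),
      ((((lin g).restrict hi : Module.End F (cm (lin g₁))) ^ n) w : I8 → F) = lin (g ^ n) w := by
    intro g hi n
    induction n with
    | zero => intro w; rw [pow_zero, pow_zero, lin_one']; rfl
    | succ n ih =>
      intro w
      rw [pow_succ, Module.End.mul_apply, ih, pow_succ, lin_mul, Module.End.mul_apply]
      rfl
  have hXY : Commute X Y := by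
    apply LinearMap.ext
    intro w
    apply Subtype.ext
    rw [Module.End.mul_apply, Module.End.mul_apply, hXc, hYc, hYc, hXc, ← Module.End.mul_apply,
      (commute_lin hcxg).eq, Module.End.mul_apply]
  have hXr : X ^ r = 1 := by
    apply LinearMap.ext
    intro w
    apply Subtype.ext
    rw [hpow, hA'r x hx, lin_one']
    rfl
  have hYr : Y ^ r = 1 := by
    apply LinearMap.ext
    intro w
    apply Subtype.ext
    rw [hpow, hg₁r, lin_one']
    rfl
  obtain ⟨v₀, hv₀⟩ : ∃ v₀ : cm (lin g₁), v₀ ≠ 0 := by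
    by_contra hcon
    push Not at hcon
    have h1 : cm (lin g₁) = ⊥ := by
      rw [eq_bot_iff]
      intro v hv
      exact (Submodule.mem_bot F).2 (congrArg Subtype.val (hcon ⟨v, hv⟩))
    rw [h1, finrank_bot] at hd₁
    omega
  rcases H989.Cov.O8.exists_fixed_of_comm hr i₁.ne0 hXY hXr hYr hv₀ with ⟨i, v, hv, hf⟩ | ⟨v, hv, hf⟩
  · have hmem : x * g₁ ^ i ∈ A' := A'.mul_mem hx (A'.pow_mem hg₁ i)
    refine ⟨g₁, x * g₁ ^ i, pair_of hF h hPi (hA'P hg₁) (hA'P hmem) hg₁r (hA'r _ hmem) hd₁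
      (hA'c _ hg₁ _ hmem) ?_ (v := (v : I8 → F)) (fun h0 => hv (Subtype.ext h0)) v.2 ?_⟩
    · intro h1
      apply hxg
      rw [eq_inv_of_mul_eq_one_left h1]
      exact Subgroup.inv_mem _ (Subgroup.pow_mem _ (Subgroup.mem_zpowers g₁) i)
    · have h1 := congrArg Subtype.val hf
      rw [Module.End.mul_apply, hXc, hpow] at h1
      rw [lin_mul, Module.End.mul_apply]
      exact h1
  · exfalso
    have h1 : lin g₁ (v : I8 → F) = v := congrArg Subtype.val hf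
    have h2 : (v : I8 → F) ∈ cm (lin g₁) ⊓ fx (lin g₁) := ⟨v.2, H951.mem_fx.2 h1⟩
    rw [hdis] at h2
    exact hv (Subtype.ext ((Submodule.mem_bot F).1 h2))

/-- `r ^ (b + 1)` does not divide `q⁴ - 1`, `q⁸ - 1` -/
theorem not_dvd_four (h : RB p a r b) : ¬ r ^ (b + 1) ∣ (p ^ a) ^ 4 - 1 := by
  intro h1
  have ha := h.ha
  apply h.not_dvd
  have h2 : (p ^ a) ^ 4 - 1 = ((p ^ a) ^ 2 - 1) * ((p ^ a) ^ 2 + 1) := by
    have := Nat.sq_sub_sq ((p ^ a) ^ 2) 1
    rw [one_pow, ← pow_mul] at this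
    rw [mul_comm]
    exact this
  have h3 : p ^ (2 * a) = (p ^ a) ^ 2 := by rw [← pow_mul, mul_comm]
  rw [h2] at h1
  rw [h3]
  have h4 : ¬ r ∣ (p ^ a) ^ 2 - 1 := by
    intro h5
    rw [← h3] at h5
    have := Nat.le_of_dvd (by omega) ((h.prim.dvd_iff _).1 h5)
    omega
  exact (Nat.Coprime.pow_left _ ((Nat.Prime.coprime_iff_not_dvd h.prim.prime).2 h4)).dvd_of_dvd_mul_left h1

theorem not_dvd_eight (h : RB p a r b) : ¬ r ^ (b + 1) ∣ (p ^ a) ^ 8 - 1 := by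
  intro hd
  have hr := h.prim.prime
  have h5 := h.five
  have hp1 : 1 ≤ (p ^ a) ^ 4 := Nat.one_le_pow _ _ (pow_pos h.hp.pos _)
  have e : (p ^ a) ^ 8 - 1 = ((p ^ a) ^ 4 + 1) * ((p ^ a) ^ 4 - 1) := by
    have := Nat.sq_sub_sq ((p ^ a) ^ 4) 1
    rw [one_pow, ← pow_mul] at this
    exact this
  rw [e] at hd
  have h4 : r ∣ (p ^ a) ^ 4 - 1 := by
    rw [← pow_mul]
    exact (h.prim.dvd_iff _).2 (by rw [mul_comm])
  have hcop : Nat.Coprime (r ^ (b + 1)) ((p ^ a) ^ 4 + 1) := by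
    apply Nat.Coprime.pow_left
    rw [Nat.Prime.coprime_iff_not_dvd hr]
    intro h6
    have h7 : r ∣ 2 := by
      have := (Nat.dvd_sub h6 h4)
      have e2 : (p ^ a) ^ 4 + 1 - ((p ^ a) ^ 4 - 1) = 2 := by omega
      rwa [e2] at this
    have := Nat.le_of_dvd (by norm_num) h7
    omega
  exact not_dvd_four h (hcop.dvd_of_dvd_mul_left hd)

/-- no element of order `r ^ (b + 1)` -/
theorem no_elt (hF : Nat.card F = p ^ a) (h : RB p a r b) {g : GL I8 F} (hg : g ∈ isometryGroup F (quadFormPlus 4 F))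
    (ho : orderOf g = r ^ (b + 1)) : False := by
  classical
  have hr := h.prim.prime
  have : Fact r.Prime := ⟨hr⟩
  have hPP := h.ppF hF
  have hyr : (g ^ r ^ b) ^ r = 1 := by rw [← pow_mul, ← pow_succ, ← ho, pow_orderOf_eq_one]
  have hy1 : g ^ r ^ b ≠ 1 := by
    intro h0
    have h1 := orderOf_dvd_of_pow_eq_one h0
    rw [ho] at h1
    have h2 := (Nat.pow_dvd_pow_iff_le_right hr.one_lt).1 h1
    omega
  have iy := iso_of hF h (Subgroup.pow_mem _ hg _) hyr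
  have hne : cm (lin (g ^ r ^ b)) ≠ ⊥ := cm_ne_bot fun h0 => hy1 (H989.Cov.O8.lin_eq_one h0)
  have hd4 : 4 ∣ finrank F (cm (lin (g ^ r ^ b))) := iy.dvd_cm hPP
  have hadd : finrank F (fx (lin (g ^ r ^ b))) + finrank F (cm (lin (g ^ r ^ b))) = 8 := iy.finrank_add.trans fin8
  have hpos : 0 < finrank F (cm (lin (g ^ r ^ b))) := Nat.pos_of_ne_zero fun h0 => hne (Submodule.finrank_eq_zero.1 h0)
  have hcases : finrank F (cm (lin (g ^ r ^ b))) = 4 ∨ finrank F (cm (lin (g ^ r ^ b))) = 8 := by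
    obtain ⟨k, hk⟩ := hd4
    have : k ≤ 2 := by omega
    interval_cases k <;> omega
  have hdis : cm (lin (g ^ r ^ b)) ⊓ fx (lin (g ^ r ^ b)) = ⊥ := H951.inf_fx_of_le_cm iy.ne0 iy.pow le_rfl
  set U := cm (lin (g ^ r ^ b)) with hU
  have hinv : ∀ c ∈ Subgroup.zpowers g, ∀ v ∈ U, lin c v ∈ U := by
    rintro _ ⟨n, rfl⟩ v hv
    exact inv_cm_of_comm (commute_lin (by
      change g ^ n * g ^ (r ^ b) = g ^ (r ^ b) * g ^ n
      exact ((Commute.refl g).zpow_left n).pow_right (r ^ b))) v hv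
  -- the action
  let act : MulAction (Subgroup.zpowers g) {v : U // v ≠ 0} :=
    { smul := fun c v => ⟨⟨lin (c : GL I8 F) (v.1 : I8 → F), hinv c c.2 _ v.1.2⟩, fun h0 => v.2 (by
        apply Subtype.ext
        apply lin_inj (c : GL I8 F)
        have h1 : lin (c : GL I8 F) (v.1 : I8 → F) = 0 := congrArg Subtype.val h0
        rw [h1]
        exact (map_zero _).symm)⟩
      one_smul := fun v => Subtype.ext (Subtype.ext (by
        change lin ((1 : Subgroup.zpowers g) : GL I8 F) (v.1 : I8 → F) = _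
        rw [Subgroup.coe_one, lin_one']
        rfl))
      mul_smul := fun c d v => Subtype.ext (Subtype.ext (by
        change lin ((c * d : Subgroup.zpowers g) : GL I8 F) (v.1 : I8 → F) = lin (c : GL I8 F) (lin (d : GL I8 F) (v.1 : I8 → F))
        rw [Subgroup.coe_mul, lin_mul]
        rfl)) }
  have hfree : ∀ (c : Subgroup.zpowers g) (v : {v : U // v ≠ 0}), c • v = v → c = 1 := by
    rintro ⟨_, n, rfl⟩ v hcv
    have h1 : lin (g ^ n) (v.1 : I8 → F) = v.1 := congrArg (fun w : {v : U // v ≠ 0} => ((w.1 : U) : I8 → F)) hcv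
    by_contra hne1
    -- the stabiliser of `v` in `⟨g⟩`
    let St : Subgroup (GL I8 F) :=
      { carrier := {x | lin x (v.1 : I8 → F) = v.1}
        one_mem' := by rw [Set.mem_ofPred_eq, lin_one']; rfl
        mul_mem' := fun {x y} hx hy => by
          rw [Set.mem_ofPred_eq] at hx hy ⊢
          rw [lin_mul, Module.End.mul_apply, hy, hx]
        inv_mem' := fun {x} hx => by
          rw [Set.mem_ofPred_eq] at hx ⊢
          apply lin_inj x
          rw [lin_lin_inv, hx] }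
    have hn : g ^ n ∈ St := h1
    have hgo : g ^ (r ^ (b + 1)) ∈ St := by
      rw [← ho, pow_orderOf_eq_one]
      exact St.one_mem
    have hgcd : g ^ (Int.gcd n (r ^ (b + 1) : ℕ) : ℤ) ∈ St := by
      rw [Int.gcd_eq_gcd_ab, zpow_add, zpow_mul, zpow_mul]
      refine St.mul_mem (St.zpow_mem hn _) (St.zpow_mem ?_ _)
      rw [zpow_natCast]
      exact hgo
    rw [zpow_natCast] at hgcd
    have hdv : Int.gcd n (r ^ (b + 1) : ℕ) ∣ r ^ (b + 1) := by
      have := Int.gcd_dvd_right n (r ^ (b + 1) : ℕ)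
      exact_mod_cast this
    obtain ⟨i, hi, hi2⟩ := (Nat.dvd_prime_pow hr).1 hdv
    have hib : i ≤ b := by
      by_contra hcon
      have hib : i = b + 1 := by omega
      rw [hib] at hi2
      apply hne1
      apply Subtype.ext
      change g ^ n = 1
      rw [← orderOf_dvd_iff_zpow_eq_one, ho]
      have := Int.gcd_dvd_left n (r ^ (b + 1) : ℕ)
      rw [hi2] at this
      exact_mod_cast this
    rw [hi2] at hgcd
    have h2 : g ^ r ^ b ∈ St := by
      obtain ⟨j, hj⟩ := pow_dvd_pow r hib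
      rw [hj, pow_mul]
      exact St.pow_mem hgcd _
    have h3 : (v.1 : I8 → F) ∈ U ⊓ fx (lin (g ^ r ^ b)) := ⟨v.1.2, H951.mem_fx.2 h2⟩
    rw [hdis] at h3
    exact v.2 (Subtype.ext ((Submodule.mem_bot F).1 h3))
  have hdvd := H23.FreeAct.card_dvd_of_free (D := Subgroup.zpowers g) (α := {v : U // v ≠ 0}) hfree
  rw [Nat.card_zpowers, ho] at hdvd
  have hcard : Nat.card {v : U // v ≠ 0} = Nat.card U - 1 := by
    rw [Nat.card_eq_fintype_card, Nat.card_eq_fintype_card, Fintype.card_subtype_compl, Fintype.card_subtype_eq]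
  have hcU : Nat.card U = (p ^ a) ^ finrank F U := by
    rw [← hF, Module.natCard_eq_pow_finrank (K := F)]
  rw [hcard, hcU] at hdvd
  rcases hcases with h1 | h1 <;> rw [h1] at hdvd
  · exact not_dvd_four h hdvd
  · exact not_dvd_eight h hdvd

/-- a subgroup of `PΩ⁺₈(q)` whose order is divisible by `r ^ (b + 1)` -/
theorem exists_pair_pre (hF : Nat.card F = p ^ a) (h : RB p a r b) {R : Subgroup (T8 F)} (hR : r ^ (b + 1) ∣ Nat.card R) :
    ∃ g₁ g₂, Pair (pre (quadFormPlus 4 F) R) g₁ g₂ r := by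
  have hr := h.prim.prime
  have : Fact r.Prime := ⟨hr⟩
  have hle : pre (quadFormPlus 4 F) R ≤ isometryGroup F (quadFormPlus 4 F) := pre_le
  obtain ⟨S, hS⟩ := Sylow.exists_subgroup_card_pow_prime (G := pre (quadFormPlus 4 F) R) r (hR.trans card_dvd_pre)
  let P : Subgroup (GL I8 F) := S.map (pre (quadFormPlus 4 F) R).subtype
  have hP : Nat.card P = r ^ (b + 1) := by
    rw [← hS]
    exact Subgroup.card_map_of_injective (Subgroup.subtype_injective _)
  have hPle : P ≤ pre (quadFormPlus 4 F) R := by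
    rintro _ ⟨x, -, rfl⟩
    exact x.2
  have hnc : ¬ IsCyclic P := by
    intro hc
    obtain ⟨g, hg⟩ := hc.exists_generator
    have h1 : orderOf g = r ^ (b + 1) := by
      rw [← hP]
      exact orderOf_eq_card_of_forall_mem_zpowers hg
    exact no_elt hF h (hle (hPle g.2)) (by rw [Subgroup.orderOf_coe, h1])
  obtain ⟨g₁, g₂, hp⟩ := exists_pair hF h (hPle.trans hle) (IsPGroup.of_card hP) hnc
  exact ⟨g₁, g₂, hle, hPle hp.mem₁, hPle hp.mem₂, hp.pow₁, hp.pow₂, hp.dim₁, hp.dim₂, hp.cm₂, hp.fx₂⟩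

end Cfsg.Agent.H683.O8R
end

-- part: H683/O8R/Geo
section
/-!
# S3691, `PΩ₈⁺(q)`: geometric classes of the subgroups with noncyclic Sylow `r`-subgroups (helper683)
-/

set_option autoImplicit false
set_option linter.unusedSectionVars false

namespace Cfsg.Agent.H683.O8R

open Module QuadraticMap Cfsg Cfsg.Geo Cfsg.Agent.LieClassical.OrthCore Cfsg.Agent.H955 Cfsg.Agent.H954.TSing
open Cfsg.Agent.LieClassical.OmegaReindex
open Cfsg.Agent.H951 (fx cm Inv)
open Cfsg.Agent.H884.El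
open Cfsg.Agent.H708.O8
open Cfsg.Agent.H436 (Prim)
open scoped MatrixGroups Matrix

variable {F : Type} [Field F] [Fintype F] {p a r b : ℕ} {H : Subgroup (GL I8 F)} {g₁ g₂ : GL I8 F}

theorem Pair.ne₁ (pr : Pair H g₁ g₂ r) : g₁ ≠ 1 := by
  rintro rfl
  have h1 := pr.dim₁
  rw [lin_one'] at h1
  have : cm (1 : Module.End F (I8 → F)) = ⊥ := by
    unfold H951.cm
    rw [sub_self, LinearMap.range_zero]
  rw [this, finrank_bot] at h1
  omega

theorem Pair.disj (hF : Nat.card F = p ^ a) (h : RB p a r b) (pr : Pair H g₁ g₂ r) :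
    cm (lin g₁) ⊓ cm (lin g₂) = ⊥ := by
  have i₁ := iso_of hF h (pr.le pr.mem₁) pr.pow₁
  rw [pr.cm₂]
  exact H951.inf_fx_of_le_cm i₁.ne0 i₁.pow le_rfl

theorem Pair.codisj (hF : Nat.card F = p ^ a) (h : RB p a r b) (pr : Pair H g₁ g₂ r) :
    cm (lin g₁) ⊔ cm (lin g₂) = ⊤ := by
  have i₁ := iso_of hF h (pr.le pr.mem₁) pr.pow₁
  rw [pr.cm₂, sup_comm]
  exact (H951.isCompl_fx_cm i₁.ne0 i₁.pow).sup_eq_top

/-- the subspaces invariant under the pair -/
theorem Pair.inv_cases (hF : Nat.card F = p ^ a) (h : RB p a r b) (pr : Pair H g₁ g₂ r) {W : Submodule F (I8 → F)}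
    (h1 : _root_.Cfsg.Agent.H951.Inv (lin g₁) W) (h2 : _root_.Cfsg.Agent.H951.Inv (lin g₂) W) : W = ⊥ ∨ W = cm (lin g₁) ∨ W = cm (lin g₂) ∨ W = ⊤ := by
  have hr := h.ppF hF
  have i₁ := iso_of hF h (pr.le pr.mem₁) pr.pow₁
  have i₂ := iso_of hF h (pr.le pr.mem₂) pr.pow₂
  rcases i₁.le_or hr pr.dim₁ h1 with k1 | k1 <;> rcases i₂.le_or hr pr.dim₂ h2 with k2 | k2
  · left
    rw [← pr.cm₂] at k1
    rw [pr.fx₂] at k2
    have := le_inf k2 k1
    rwa [pr.disj hF h, le_bot_iff] at this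
  · right; right; left
    rw [← pr.cm₂] at k1
    exact le_antisymm k1 k2
  · right; left
    rw [pr.fx₂] at k2
    exact le_antisymm k2 k1
  · right; right; right
    have := sup_le k1 k2
    rwa [pr.codisj hF h, top_le_iff] at this

/-- each element fixes or exchanges the two 4-spaces -/
def Swap (H : Subgroup (GL I8 F)) (g₁ g₂ : GL I8 F) : Prop :=
  ∀ g ∈ H, _root_.Cfsg.Agent.H708.O8.tr g (cm (lin g₁)) = cm (lin g₁) ∨ _root_.Cfsg.Agent.H708.O8.tr g (cm (lin g₁)) = cm (lin g₂)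

/-- `g` is a power of its square -/
theorem inv_of_fix {D : Fin 2 → Submodule F (I8 → F)} (hHD : H ≤ decompositionStabilizer D)
    {g : GL I8 F} (hg : g ∈ H) (hr : Odd r) (hgr : g ^ r = 1) (i : Fin 2) : _root_.Cfsg.Agent.H951.Inv (lin g) (D i) := by
  have h1 := fix_of_sq hHD hg (k := r + 1) (fun τ => by
    have h2 : Even (r + 1) := hr.add_one
    obtain ⟨c, hc⟩ := h2
    rw [hc, ← two_mul, pow_mul]
    have : τ ^ 2 = 1 := by revert τ; decide
    rw [this, one_pow]) i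
  rwa [pow_succ, hgr, one_mul] at h1

theorem tr_eq_of_stab {g : GL I8 F} {W : Submodule F (I8 → F)} (h : g ∈ subspaceStabilizer W) : _root_.Cfsg.Agent.H708.O8.tr g W = W := by
  apply Submodule.eq_of_le_of_finrank_eq
  · rintro _ ⟨w, hw, rfl⟩
    exact inv_of_mem h w hw
  · rw [finrank_tr]

/-- **The geometric classes.** -/
theorem geo4 (hF : Nat.card F = p ^ a) (h : RB p a r b) (hr2 : r ^ (b + 1) ∣ Nat.card H) (pr : Pair H g₁ g₂ r) :
    InOrthogonalResidualClass H ∨ Swap H g₁ g₂ ∨ ∃ K : Subalgebra F (Matrix I8 I8 F), IsFieldSubalgebra 2 K ∧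
      IsAdjointClosedFor (polar (quadFormPlus 4 F)) K ∧ H ≤ subalgebraNormalizer K := by
  have hQ : Nondeg (quadPlus 4 F) := nondeg_iff.2 quadPlus_nondegenerate
  have hcoe : ⇑(quadPlus 4 F) = quadFormPlus 4 F := coe_quadPlus 4 F
  have hn : Fintype.card (Fin 4 ⊕ Fin 4) = 8 := by simp
  have hfin : finrank F (Fin 4 ⊕ Fin 4 → F) = 8 := by rw [finrank_V, hn]
  have hfin' : finrank F (I8 → F) = 8 := hfin
  have h5 := h.five
  have hP := h.ppF hF
  have hodd : Odd r := hP.prime.odd_of_ne_two (by omega)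
  have hH := pr.le
  rw [← hcoe] at hH
  have hrc : r ∣ Nat.card H := (dvd_pow_self r (by omega)).trans hr2
  have i₁ := iso_of hF h (pr.le pr.mem₁) pr.pow₁
  have i₂ := iso_of hF h (pr.le pr.mem₂) pr.pow₂
  have hinv : ∀ W : Submodule F (I8 → F), (∀ g ∈ H, _root_.Cfsg.Agent.H951.Inv (lin g) W) → W = ⊥ ∨ W = cm (lin g₁) ∨ W = cm (lin g₂) ∨ W = ⊤ :=
    fun W hW => pr.inv_cases hF h (hW _ pr.mem₁) (hW _ pr.mem₂)
  have hnd1 : Nondeg (res (quadPlus 4 F) (cm (lin g₁))) := nondeg_cm hQ i₁.iso i₁.ne0 i₁.pow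
  have hnd2 : Nondeg (res (quadPlus 4 F) (cm (lin g₂))) := nondeg_cm hQ i₂.iso i₂.ne0 i₂.pow
  have hne1 : cm (lin g₁) ≠ ⊥ := fun h0 => by
    have := pr.dim₁
    rw [h0, finrank_bot] at this
    omega
  have hne2 : cm (lin g₂) ≠ ⊥ := fun h0 => by
    have := pr.dim₂
    rw [h0, finrank_bot] at this
    omega
  -- the product
  have hcomm : ∀ v, lin g₁ (lin g₂ v) = lin g₂ (lin g₁ v) := by
    intro v
    have hv : v ∈ cm (lin g₁) ⊔ cm (lin g₂) := by rw [pr.codisj hF h]; exact Submodule.mem_top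
    obtain ⟨x, hx, y, hy, rfl⟩ := Submodule.mem_sup.1 hv
    have hx2 : lin g₂ x = x := H951.mem_fx.1 (by rw [pr.fx₂]; exact hx)
    have hy1 : lin g₁ y = y := H951.mem_fx.1 (by rw [← pr.cm₂]; exact hy)
    have hx3 : lin g₂ (lin g₁ x) = lin g₁ x :=
      H951.mem_fx.1 (by rw [pr.fx₂]; exact inv_cm_of_comm (Commute.refl _) x hx)
    have hy3 : lin g₁ (lin g₂ y) = lin g₂ y :=
      H951.mem_fx.1 (by rw [← pr.cm₂]; exact inv_cm_of_comm (Commute.refl _) y hy)
    rw [map_add, map_add, map_add, map_add, hx2, hy1, hx3, hy3]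
  have hcg : g₁ * g₂ = g₂ * g₁ := by
    apply Units.ext
    apply Matrix.toLin'.injective
    apply LinearMap.ext
    intro v
    have h1 := hcomm v
    have e1 : lin (g₁ * g₂) v = lin g₁ (lin g₂ v) := by rw [lin_mul]; rfl
    have e2 : lin (g₂ * g₁) v = lin g₂ (lin g₁ v) := by rw [lin_mul]; rfl
    exact e1.trans (h1.trans e2.symm)
  have hyH : g₁ * g₂ ∈ H := H.mul_mem pr.mem₁ pr.mem₂
  have hnr : (g₁ * g₂) ^ r = 1 := by
    have : Commute g₁ g₂ := hcg
    rw [this.mul_pow, pr.pow₁, pr.pow₂, one_mul]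
  have hyiso := iso_of hF h (pr.le hyH) hnr
  have hyfx : fx (lin (g₁ * g₂)) = ⊥ := by
    rw [eq_bot_iff]
    intro v hv
    rw [H951.mem_fx] at hv
    have hv' : v ∈ cm (lin g₁) ⊔ cm (lin g₂) := by rw [pr.codisj hF h]; exact Submodule.mem_top
    obtain ⟨x, hx, y, hy, rfl⟩ := Submodule.mem_sup.1 hv'
    have hx2 : lin g₂ x = x := H951.mem_fx.1 (by rw [pr.fx₂]; exact hx)
    have hy3 : lin g₁ (lin g₂ y) = lin g₂ y :=
      H951.mem_fx.1 (by rw [← pr.cm₂]; exact inv_cm_of_comm (Commute.refl _) y hy)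
    have e1 : lin (g₁ * g₂) (x + y) = lin g₁ x + lin g₂ y := by
      rw [lin_mul, Module.End.mul_apply, map_add, hx2, map_add, hy3]
    rw [e1] at hv
    have e2 : lin g₁ x - x = y - lin g₂ y := by
      rw [sub_eq_sub_iff_add_eq_add, hv, add_comm]
    have m1 : lin g₁ x - x ∈ cm (lin g₁) := Submodule.sub_mem _ (inv_cm_of_comm (Commute.refl _) x hx) hx
    have m2 : y - lin g₂ y ∈ cm (lin g₂) := Submodule.sub_mem _ hy (inv_cm_of_comm (Commute.refl _) y hy)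
    have m3 : lin g₁ x - x ∈ cm (lin g₁) ⊓ cm (lin g₂) := ⟨m1, by rw [e2]; exact m2⟩
    rw [pr.disj hF h] at m3
    have z1 : lin g₁ x - x = 0 := (Submodule.mem_bot F).1 m3
    have z2 : y - lin g₂ y = 0 := by rw [← e2, z1]
    have f1 : x ∈ cm (lin g₁) ⊓ fx (lin g₁) := ⟨hx, H951.mem_fx.2 (sub_eq_zero.1 z1)⟩
    rw [H951.inf_fx_of_le_cm i₁.ne0 i₁.pow le_rfl] at f1
    have f2 : y ∈ cm (lin g₂) ⊓ fx (lin g₂) := ⟨hy, H951.mem_fx.2 (sub_eq_zero.1 z2).symm⟩
    rw [H951.inf_fx_of_le_cm i₂.ne0 i₂.pow le_rfl] at f2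
    rw [(Submodule.mem_bot F).1 f1, (Submodule.mem_bot F).1 f2, add_zero]
    exact Submodule.zero_mem _
  -- a totally singular subspace invariant under `g₁`
  have hgadd : finrank F (fx (lin g₁)) = 4 := by rw [← pr.cm₂]; exact pr.dim₂
  have hts : ∀ W : Submodule F (I8 → F), TS (quadPlus 4 F) W → _root_.Cfsg.Agent.H951.Inv (lin g₁) W → finrank F W ≠ 4 := by
    intro W hWs hW hd
    have h1 := i₁.ts_le hQ (lin_ne_one pr.ne₁) hP pr.dim₁ hW hWs
    have h3 : W = fx (lin g₁) := Submodule.eq_of_le_of_finrank_eq h1 (by omega)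
    refine ts_not_nondeg hWs h3.ge ?_ (nondeg_fx hQ i₁.iso i₁.ne0 i₁.pow)
    rw [← h3]
    intro h4
    rw [h4, finrank_bot] at hd
    omega
  by_cases hirr : ActsIrreducibly (matrixSet H)
  · rcases Cfsg.Agent.H925.orth_irreducible_fine (by omega) (Cfsg.Agent.H884.OddForm.isNondegenerate_of_nondeg _ hQ) hH hirr with
      ⟨t, k, D, htk, hD, hHD, -⟩ | ⟨k, D, hk, hD, hDs, hHD⟩ | ⟨s, K, hs, hsn, hK, hadj, hHK⟩ |
      ⟨n₁, n₂, e, P, -, -, -, h1, h1', h12, -, -, -, -, hHT⟩ | ⟨F₁, s, B, -, -, hs, hcard, -, -, hHF⟩ |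
      ⟨s, m, R, hRH, -, hHR, habs, hR, hchar, hm, hsm, -, ht, -⟩ | ⟨k, t, e, P, E, hkt, hW⟩ | hS
    · have h2t := hD.decomp.decomp.two_le
      have hkpos := hD.decomp.decomp.pos
      have hinj : Function.Injective D := by
        intro i j hij
        by_contra hne
        have h1 := disjoint_iff.1 (hD.decomp.decomp.indep.pairwiseDisjoint hne)
        have h2 : D i ⊓ D j = ⊥ := h1
        rw [← hij, inf_idem] at h2
        have h3 := hD.decomp.decomp.finrank_eq i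
        rw [h2, finrank_bot] at h3
        omega
      by_cases hk4 : k < 4
      · exfalso
        have hrt := decomp_le hD.decomp.decomp hHD hP hk4 hrc
        -- `k = 1`, `t = 8`
        have hk1 : k = 1 := by
          by_contra hcon
          have h3 : 2 ≤ k := by omega
          have := Nat.mul_le_mul hrt h3
          omega
        subst hk1
        obtain ⟨i, hi⟩ := exists_fixed_block hinj hHD hyH hP.prime hnr (by
          intro hd
          rw [show t = 2 ^ 3 by omega] at hd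
          have := (Nat.prime_dvd_prime_iff_eq hP.prime Nat.prime_two).1 (hP.prime.dvd_of_dvd_pow hd)
          omega)
        have h3 := hyiso.le_fx hP hi (by rw [hD.decomp.decomp.finrank_eq]; norm_num)
        rw [hyfx] at h3
        have h4 := hD.decomp.decomp.finrank_eq i
        rw [le_bot_iff.1 h3, finrank_bot] at h4
        omega
      · have ht2 : t = 2 := by
          have h3 : t < 3 := by
            by_contra hcon
            push Not at hcon
            have := Nat.mul_le_mul hcon (not_lt.1 hk4)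
            omega
          omega
        subst ht2
        have hk4' : k = 4 := by omega
        subst hk4'
        right; left
        have hDi : ∀ i, D i = cm (lin g₁) ∨ D i = cm (lin g₂) := by
          intro i
          have hd := hD.decomp.decomp.finrank_eq i
          rcases pr.inv_cases hF h (inv_of_fix hHD pr.mem₁ hodd pr.pow₁ i)
            (inv_of_fix hHD pr.mem₂ hodd pr.pow₂ i) with h3 | h3 | h3 | h3
          · rw [h3, finrank_bot] at hd; omega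
          · exact Or.inl h3
          · exact Or.inr h3
          · rw [h3, finrank_top] at hd
            have : finrank F (I8 → F) = 4 := hd
            omega
        obtain ⟨i, hi⟩ : ∃ i, D i = cm (lin g₁) := by
          by_contra hcon
          push Not at hcon
          have h3 := (hDi 0).resolve_left (hcon 0)
          have h4 := (hDi 1).resolve_left (hcon 1)
          exact absurd (hinj (h3.trans h4.symm)) (by decide)
        intro g hg
        obtain ⟨σ, hσ⟩ := hHD hg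
        have h3 : _root_.Cfsg.Agent.H708.O8.tr g (cm (lin g₁)) = D (σ i) := by rw [← hi]; exact hσ i
        rw [h3]
        exact hDi _
    · exfalso
      have h1 := inv_of_fix hHD pr.mem₁ hodd pr.pow₁ 0
      exact hts (D 0) (hDs 0) h1 (by rw [hD.finrank_eq]; omega)
    · right; right
      rw [hn] at hsn
      have hs2 : s = 2 := by
        have : s ∣ 2 ^ 3 := hsn
        exact (Nat.prime_dvd_prime_iff_eq hs Nat.prime_two).1 (hs.dvd_of_dvd_pow this)
      subst hs2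
      rw [hcoe] at hadj
      exact ⟨K, hK, hadj, hHK⟩
    · exfalso
      have h2 : tensorProductSubgroup n₁ n₂ e P ≤ (kronGL e P).range := fun g hg => mem_range_kronGL e P hg
      have h3 : Nat.card H ∣ Nat.card (GL (Fin n₁) F × GL (Fin n₂) F) :=
        (Subgroup.card_dvd_of_le (hHT.trans h2)).trans (Subgroup.card_range_dvd _)
      rw [Nat.card_prod] at h3
      have hcases : (n₁ = 2 ∧ n₂ = 4) ∨ (n₁ = 4 ∧ n₂ = 2) := by
        have h3 : n₁ ≤ 4 := by
          by_contra hcon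
          push Not at hcon
          have := Nat.mul_le_mul hcon h1'
          omega
        interval_cases n₁ <;> (clear * - hn h12; omega)
      rcases hcases with ⟨rfl, rfl⟩ | ⟨rfl, rfl⟩
      · exact tensor_num hF h (hr2.trans h3)
      · rw [mul_comm] at h3
        exact tensor_num hF h (hr2.trans h3)
    · exfalso
      exact H781.O8.kill_subf hF h hHF hs hcard pr.mem₁ pr.pow₁ pr.dim₁
    · exfalso
      exact kill_symp hF h hRH hHR habs hR hm hsm ht ((pow_dvd_pow r (by have := h.b1; omega)).trans hr2)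
    · exfalso
      have h2k := hW.two_le_m
      have h2t := hW.two_le_t
      have hk3 : k < 3 := by
        by_contra hcon
        push Not at hcon
        have h3 : 3 ^ 2 ≤ k ^ t := (Nat.pow_le_pow_left hcon 2).trans (Nat.pow_le_pow_right (by omega) h2t)
        omega
      have ht4 : t < 4 := by
        by_contra hcon
        push Not at hcon
        have h3 : 2 ^ 4 ≤ k ^ t := (Nat.pow_le_pow_left h2k 4).trans (Nat.pow_le_pow_right (by omega) hcon)
        omega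
      rcases H251.GeoCard.wreath e P hP.prime (hP.not_dvd (by omega))
        (hrc.trans (Subgroup.card_dvd_of_le hW.wreath)) with h | h
      · omega
      · have := le_of_div hP (one_lt_q F).le h
        omega
    · exact Or.inl hS
  · rcases Cfsg.Agent.H925.reducible_cases (Cfsg.Agent.H884.OddForm.isNondegenerate_of_nondeg _ hQ) hH hirr with
      ⟨W, hW0, hWs, hHW⟩ | ⟨W, hW0, hWn, hd, hHW⟩ | ⟨-, v, hv, hHW⟩
    · exfalso
      rcases hinv W (fun g hg => inv_of_mem (hHW hg)) with h1 | h1 | h1 | h1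
      · exact hW0 h1
      · exact ts_not_nondeg hWs h1.ge hne1 hnd1
      · exact ts_not_nondeg hWs h1.ge hne2 hnd2
      · exact ts_not_nondeg hWs (by rw [h1]; exact le_top) hne1 hnd1
    · rcases hinv W (fun g hg => inv_of_mem (hHW hg)) with h1 | h1 | h1 | h1
      · exact absurd h1 hW0
      · right; left
        intro g hg
        left
        rw [← h1]
        exact tr_eq_of_stab (hHW hg)
      · right; left
        intro g hg
        left
        have h2 : _root_.Cfsg.Agent.H708.O8.tr g (cm (lin g₂)) = cm (lin g₂) := by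
          rw [← h1]
          exact tr_eq_of_stab (hHW hg)
        -- `cm g₁` is the orthogonal complement of `cm g₂`
        have h3 : cm (lin g₁) = perp (quadPlus 4 F) (cm (lin g₂)) := by
          rw [perp_cm hQ i₂.iso i₂.ne0 i₂.pow, pr.fx₂]
        apply Submodule.eq_of_le_of_finrank_eq
        · rintro _ ⟨w, hw, rfl⟩
          rw [h3]
          intro y hy
          have h4 : y ∈ _root_.Cfsg.Agent.H708.O8.tr g (cm (lin g₂)) := by rw [h2]; exact hy
          obtain ⟨y', hy', rfl⟩ := h4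
          have hiso : ∀ v, quadPlus 4 F (lin g v) = quadPlus 4 F v := lin_iso hH hg
          rw [polar_isom hiso]
          rw [SetLike.mem_coe, h3] at hw
          exact hw y' hy'
        · rw [finrank_tr]
      · exfalso
        rw [h1, finrank_top, hn] at hd
        have : finrank F (I8 → F) ≤ 4 := by
          have : finrank F (Fin 4 ⊕ Fin 4 → F) ≤ 4 := by omega
          exact this
        omega
    · exfalso
      have hv0 : v ≠ 0 := by
        rintro rfl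
        exact hv (QuadraticMap.map_zero _)
      have hs1 := finrank_span_singleton (K := F) hv0
      rcases hinv _ (fun g hg => inv_of_mem (hHW hg)) with h1 | h1 | h1 | h1
      · rw [h1, finrank_bot] at hs1; omega
      · have := pr.dim₁
        rw [← h1] at this
        exact absurd (hs1.symm.trans this) (by norm_num)
      · have := pr.dim₂
        rw [← h1] at this
        exact absurd (hs1.symm.trans this) (by norm_num)
      · rw [h1, finrank_top] at hs1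
        exact absurd (hs1.symm.trans hfin) (by norm_num)

end Cfsg.Agent.H683.O8R
end
end
end
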